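/-
Subgroups of GL_2(p) containing the scalars: criteria for containing SL_2(p) from Dickson's list.
Main results: `slTwo_le_of_pauli`, `slTwo_le_of_trace`.
-/
import Cfsg.Agent.Lib.PSL2.PGL
import Cfsg.Agent.Lib.PSL2.PGLCases
import Cfsg.Agent.Lib.PSL2.SLSubgroups
import Mathlib.LinearAlgebra.Matrix.Charpoly.FiniteField

set_option autoImplicit false
set_option linter.unusedSectionVars false

namespace Cfsg.Agent.C6Two

open Matrix MulAction Subgroup
open scoped LinearAlgebra.Projectivization commutatorElement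
open Cfsg.Agent

variable {F : Type*} [Field F] [Fintype F] {p : ℕ} [Fact p.Prime]

local notation "π" => QuotientGroup.mk' (Subgroup.center (PSL2.SL2 F))

theorem charP_of_card (hF : Fintype.card F = p) : CharP F p :=
  charP_of_card_eq_prime hF

theorem coe_pow' (w : PSL2.SL2 F) (n : ℕ) : (w ^ n).1 = w.1 ^ n := Matrix.SpecialLinearGroup.coe_pow w n

/-- The preimage in SL_2. -/
def slPart (H : Subgroup (GL (Fin 2) F)) : Subgroup (PSL2.SL2 F) := H.comap Matrix.SpecialLinearGroup.toGL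

theorem mem_slPart {H : Subgroup (GL (Fin 2) F)} {s : PSL2.SL2 F} :
    s ∈ slPart H ↔ Matrix.SpecialLinearGroup.toGL s ∈ H := Iff.rfl

/-- Scalars of GL_2. -/
def HasScalars (H : Subgroup (GL (Fin 2) F)) : Prop :=
  ∀ g : GL (Fin 2) F, ∀ c : F, (g : Matrix (Fin 2) (Fin 2) F) = c • 1 → g ∈ H

theorem mem_slPart_of_proj {H : Subgroup (GL (Fin 2) F)} (hsc : HasScalars H) {s : PSL2.SL2 F}
    (h : π s ∈ (slPart H).map π) : s ∈ slPart H := by
  obtain ⟨t, ht, hts⟩ := h
  have h1 : t⁻¹ * s ∈ Subgroup.center (PSL2.SL2 F) := QuotientGroup.eq.1 hts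
  have h3 : t⁻¹ * s ∈ slPart H := by
    rcases PSL2.mem_center_iff'.1 h1 with e | e <;> rw [e]
    · exact one_mem _
    · exact hsc _ (-1) (by simp [Matrix.SpecialLinearGroup.toGL])
  simpa using mul_mem ht h3

theorem tr_comm_of_central {s t : PSL2.SL2 F} (h : π ⁅s, t⁆ = 1) :
    PSL2.tr ⁅s, t⁆ = 2 ∨ PSL2.tr ⁅s, t⁆ = -2 := by
  rcases PSL2.mem_center_iff'.1 ((QuotientGroup.eq_one_iff _).1 h) with e | e <;> rw [e]
  · exact Or.inl PSL2.tr_one
  · exact Or.inr (by rw [PSL2.tr_neg, PSL2.tr_one])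

/-- Two elements of projective order three generating an irreducible group: Dickson's list. -/
theorem sl_or_exceptional (hF : Fintype.card F = p) (hp5 : 5 ≤ p) {H : Subgroup (GL (Fin 2) F)}
    (hsc : HasScalars H) {s t : PSL2.SL2 F} (hs : s ∈ slPart H) (ht : t ∈ slPart H)
    (hs3 : π s ^ 3 = 1) (ht3 : π t ^ 3 = 1)
    (hc : PSL2.tr ⁅s, t⁆ ≠ 2 ∧ PSL2.tr ⁅s, t⁆ ≠ -2) :
    (∀ u : PSL2.SL2 F, u ∈ slPart H) ∨
      (¬ p ∣ Nat.card ((slPart H).map π) ∧
        (Nonempty ((slPart H).map π ≃* alternatingGroup (Fin 4)) ∨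
          Nonempty ((slPart H).map π ≃* Equiv.Perm (Fin 4)) ∨
          Nonempty ((slPart H).map π ≃* alternatingGroup (Fin 5)))) := by
  have := charP_of_card hF
  set L := (slPart H).map π with hL
  have hsL : π s ∈ L := ⟨s, hs, rfl⟩
  have htL : π t ∈ L := ⟨t, ht, rfl⟩
  have hne : π ⁅s, t⁆ ≠ 1 := fun h => by
    rcases tr_comm_of_central h with e | e
    · exact hc.1 e
    · exact hc.2 e
  have hpc : Nat.card F = p := by rw [Nat.card_eq_fintype_card, hF]
  rcases PSL2.psl_dickson p L with ⟨-, S, hS⟩ | ⟨-, hcy, -⟩ | ⟨n, -, -, -, -, -, ⟨e⟩⟩ | h |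
    ⟨h3, -, -⟩ | ⟨R, m, hm, hR, h⟩
  · exfalso
    obtain ⟨P, hP⟩ := PSL2.normalizer_sylow_le p S
    obtain ⟨ψ, hψ⟩ := PSL2.exists_borel_hom p P
    let x : stabilizer (PSL2.PSL2 F) P := ⟨π s, hP (hS hsL)⟩
    let y : stabilizer (PSL2.PSL2 F) P := ⟨π t, hP (hS htL)⟩
    have h1 : ψ ⁅x, y⁆ = 1 := by
      rw [map_commutatorElement]; exact commutatorElement_eq_one_iff_commute.2 (Commute.all _ _)
    have h2 : π (⁅s, t⁆ ^ p) = 1 := by
      rw [map_pow, map_commutatorElement]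
      exact (hψ _).1 h1
    have h4 : PSL2.tr (⁅s, t⁆ ^ p) = PSL2.tr ⁅s, t⁆ := by
      rw [PSL2.tr_eq_trace, coe_pow', ← hF, FiniteField.trace_pow_card,
        FiniteField.pow_card, ← PSL2.tr_eq_trace]
    rcases PSL2.mem_center_iff'.1 ((QuotientGroup.eq_one_iff _).1 h2) with e | e <;> rw [e] at h4
    · exact hc.1 (by rw [← h4, PSL2.tr_one])
    · exact hc.2 (by rw [← h4, PSL2.tr_neg, PSL2.tr_one])
  · exfalso
    apply hne
    rw [map_commutatorElement, commutatorElement_eq_one_iff_commute]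
    have := (IsCyclic.commGroup (α := L)).mul_comm ⟨_, hsL⟩ ⟨_, htL⟩
    exact congrArg Subtype.val this
  · exfalso
    have rot : ∀ u : L, u ^ 3 = 1 → ∃ j, e u = DihedralGroup.r j := fun u hu => by
      rcases PSL2.dihedral_orders (e u) with h | h
      · exact h
      · exfalso
        have : orderOf (e u) ∣ 3 := orderOf_dvd_of_pow_eq_one (by rw [← map_pow, hu, map_one])
        rw [h] at this
        omega
    obtain ⟨j, hj⟩ := rot ⟨_, hsL⟩ (Subtype.ext (by simpa using hs3))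
    obtain ⟨k, hk⟩ := rot ⟨_, htL⟩ (Subtype.ext (by simpa using ht3))
    apply hne
    rw [map_commutatorElement, commutatorElement_eq_one_iff_commute]
    have : e (⟨_, hsL⟩ * ⟨_, htL⟩) = e (⟨_, htL⟩ * ⟨_, hsL⟩) := by
      rw [map_mul, map_mul, hj, hk, DihedralGroup.r_mul_r, DihedralGroup.r_mul_r, add_comm]
    exact congrArg Subtype.val (e.injective this)
  · exact Or.inr h
  · omega
  · left
    have hpp : p.Prime := Fact.out
    have hm1 : m = 1 := by
      rw [hpc] at hR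
      have hd : Nat.card R ∣ p := hR ▸ dvd_pow_self _ (by omega)
      rcases (Nat.dvd_prime hpp).1 hd with h' | h' <;> rw [h'] at hR
      · rw [one_pow] at hR; omega
      · exact Nat.pow_right_injective hpp.two_le (by simpa using hR)
    subst hm1
    rcases h with ⟨⟨e⟩⟩ | ⟨-, he, -⟩
    · intro u
      have htop : L = ⊤ := PSL2.eq_top_of_psl (by simpa using hR) e
      exact mem_slPart_of_proj hsc (by rw [← hL, htop]; exact mem_top _)
    · exact absurd he (by decide)

theorem small_orders : ∀ {X : Type*} [Group X],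
    (Nonempty (X ≃* alternatingGroup (Fin 4)) ∨ Nonempty (X ≃* Equiv.Perm (Fin 4)) ∨
      Nonempty (X ≃* alternatingGroup (Fin 5))) →
    ∀ x : X, x = 1 ∨ x ^ 2 = 1 ∨ x ^ 3 = 1 ∨ x ^ 4 = 1 ∨ x ^ 5 = 1 := by
  intro X _ h x
  have a4 : ∀ y : alternatingGroup (Fin 4), y = 1 ∨ y ^ 2 = 1 ∨ y ^ 3 = 1 ∨ y ^ 4 = 1 ∨ y ^ 5 = 1 := by
    decide +kernel
  have s4 : ∀ y : Equiv.Perm (Fin 4), y = 1 ∨ y ^ 2 = 1 ∨ y ^ 3 = 1 ∨ y ^ 4 = 1 ∨ y ^ 5 = 1 := by
    decide +kernel
  have a5 : ∀ y : alternatingGroup (Fin 5), y = 1 ∨ y ^ 2 = 1 ∨ y ^ 3 = 1 ∨ y ^ 4 = 1 ∨ y ^ 5 = 1 := by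
    decide +kernel
  rcases h with ⟨⟨e⟩⟩ | ⟨⟨e⟩⟩ | ⟨⟨e⟩⟩
  · simpa only [← map_pow, map_eq_one_iff e e.injective] using a4 (e x)
  · simpa only [← map_pow, map_eq_one_iff e e.injective] using s4 (e x)
  · simpa only [← map_pow, map_eq_one_iff e e.injective] using a5 (e x)

/-- Two elements of projective order three whose product has large projective order. -/
theorem slTwo_le_of_trace (hF : Fintype.card F = p) (hp5 : 5 ≤ p) {H : Subgroup (GL (Fin 2) F)}
    (hsc : HasScalars H) {s t : PSL2.SL2 F} (hs : s ∈ slPart H) (ht : t ∈ slPart H)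
    (hs1 : PSL2.tr s = 1) (ht1 : PSL2.tr t = 1) (hc : PSL2.tr ⁅s, t⁆ ≠ 2 ∧ PSL2.tr ⁅s, t⁆ ≠ -2)
    (τ : F) (hτ : PSL2.tr (s * t) = τ)
    (hne : τ ≠ 0 ∧ τ ^ 2 - 1 ≠ 0 ∧ τ ^ 2 - 2 ≠ 0 ∧ τ ^ 4 - 3 * τ ^ 2 + 1 ≠ 0) :
    ∀ u : PSL2.SL2 F, u ∈ slPart H := by
  have cube : ∀ w : PSL2.SL2 F, PSL2.tr w = 1 → π w ^ 3 = 1 := fun w hw => by
    rw [← map_pow]
    refine (QuotientGroup.eq_one_iff _).2 (PSL2.mem_center_iff'.2 (Or.inr (Subtype.ext ?_)))
    have h := PSL2.coe_sq w
    rw [hw, one_smul] at h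
    rw [coe_pow', Matrix.SpecialLinearGroup.coe_neg, Matrix.SpecialLinearGroup.coe_one, pow_succ,
      pow_two, h, sub_mul, h, one_mul]
    abel
  rcases sl_or_exceptional hF hp5 hsc hs ht (cube s hs1) (cube t ht1) hc with h | ⟨-, h⟩
  · exact h
  exfalso
  set g := s * t with hg
  have hx := small_orders h ⟨π g, ⟨g, mul_mem hs ht, rfl⟩⟩
  simp only [Subtype.ext_iff, SubmonoidClass.coe_pow, OneMemClass.coe_one] at hx
  have hgn : g ∉ Subgroup.center (PSL2.SL2 F) := fun hm => by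
    have hgt : t = s⁻¹ * g := by rw [hg, inv_mul_cancel_left]
    have : Commute s t := by
      rw [hgt]
      exact ((Commute.refl s).inv_right).mul_right (Subgroup.mem_center_iff.1 hm s)
    exact hc.1 (by rw [commutatorElement_eq_one_iff_commute.2 this, PSL2.tr_one])
  have key : ∀ n : ℕ, ∀ a b : F, g.1 ^ n = PSL2.lin g a b → π g ^ n = 1 → b = 0 := by
    intro n a b hab hn
    rw [← map_pow] at hn
    by_contra hb
    apply hgn
    have hcen := PSL2.mem_center_iff'.1 ((QuotientGroup.eq_one_iff _).1 hn)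
    have hsc' : ∃ c : F, PSL2.lin g a b = c • 1 := by
      rcases hcen with e | e
      · exact ⟨1, by rw [← hab, ← coe_pow', e, one_smul]; rfl⟩
      · exact ⟨-1, by rw [← hab, ← coe_pow', e]; simp⟩
    obtain ⟨c, hc'⟩ := hsc'
    have hg' : g.1 = ((c - a) / b) • (1 : Matrix (Fin 2) (Fin 2) F) := by
      rw [PSL2.lin] at hc'
      rw [div_eq_inv_mul, mul_smul, sub_smul, ← hc', add_sub_cancel_left, smul_smul,
        inv_mul_cancel₀ hb, one_smul]
    rw [Subgroup.mem_center_iff]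
    intro u
    refine Subtype.ext ?_
    show u.1 * g.1 = g.1 * u.1
    rw [hg']
    simp
  have p2 : g.1 ^ 2 = PSL2.lin g (-1) τ := by
    rw [pow_two, PSL2.coe_sq, hτ, PSL2.lin]; module
  have one' : g.1 = PSL2.lin g 0 1 := by simp [PSL2.lin]
  have p3 : g.1 ^ 3 = PSL2.lin g (-τ) (τ ^ 2 - 1) := by
    rw [pow_succ, p2]
    refine (congrArg (_ * ·) one').trans ?_
    show PSL2.lin g _ _ * PSL2.lin g 0 1 = _
    rw [PSL2.lin_mul_lin, hτ]; congr 1 <;> ring
  have p4 : g.1 ^ 4 = PSL2.lin g (1 - τ ^ 2) (τ ^ 3 - 2 * τ) := by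
    rw [pow_succ, p3]
    refine (congrArg (_ * ·) one').trans ?_
    show PSL2.lin g _ _ * PSL2.lin g 0 1 = _
    rw [PSL2.lin_mul_lin, hτ]; congr 1 <;> ring
  have p5 : g.1 ^ 5 = PSL2.lin g (2 * τ - τ ^ 3) (τ ^ 4 - 3 * τ ^ 2 + 1) := by
    rw [pow_succ, p4]
    refine (congrArg (_ * ·) one').trans ?_
    show PSL2.lin g _ _ * PSL2.lin g 0 1 = _
    rw [PSL2.lin_mul_lin, hτ]; congr 1 <;> ring
  obtain ⟨h0, h1, h2, h3⟩ := hne
  rcases hx with e | e | e | e | e
  · exact one_ne_zero (key 1 0 1 (by rw [pow_one]; exact one') (by rw [pow_one]; exact e))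
  · exact h0 (key 2 _ _ p2 e)
  · exact h1 (key 3 _ _ p3 e)
  · refine (mul_ne_zero h0 h2) ?_
    linear_combination key 4 _ _ p4 e
  · exact h3 (key 5 _ _ p5 e)

theorem four_set_alt : Nat.card {x : alternatingGroup (Fin 4) //
    x ^ 2 = 1 ∧ ∃ a b : alternatingGroup (Fin 4), ⁅a, b⁆ = x} = 4 := by
  rw [Nat.card_eq_fintype_card]
  decide +kernel

theorem four_set_perm : Nat.card {x : Equiv.Perm (Fin 4) //
    x ^ 2 = 1 ∧ ∃ a b : Equiv.Perm (Fin 4), ⁅a, b⁆ = x} = 4 := by
  rw [Nat.card_eq_fintype_card]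
  decide +kernel

theorem altFive_no_four : ∀ x : alternatingGroup (Fin 5), x ^ 4 = 1 → x ^ 2 = 1 := by decide +kernel

theorem natCard_four_le {X Y : Type*} [Group X] [Group Y] [Finite X] (e : X ≃* Y)
    (h : Nat.card {y : Y // y ^ 2 = 1 ∧ ∃ a b : Y, ⁅a, b⁆ = y} = 4) :
    Nat.card {x : X // x ^ 2 = 1 ∧ ∃ a b : X, ⁅a, b⁆ = x} = 4 := by
  rw [← h]
  refine Nat.card_congr (e.toEquiv.subtypeEquiv fun x => ?_)
  constructor
  · rintro ⟨h1, a, b, h2⟩
    exact ⟨by simpa [map_eq_one_iff e e.injective] using congrArg e h1, e a, e b,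
      by rw [← map_commutatorElement, h2]; rfl⟩
  · rintro ⟨h1, a, b, h2⟩
    refine ⟨e.injective (by rw [map_pow, map_one]; exact h1), e.symm a, e.symm b, e.injective ?_⟩
    rw [map_commutatorElement, e.apply_symm_apply, e.apply_symm_apply, h2]; rfl

theorem comm_eq_of_mul {G : Type*} [Group G] {a b w : G} (h : a * b = w * b * a) : ⁅a, b⁆ = w := by
  rw [commutatorElement_def, h]; group

theorem pi_eq {u w : PSL2.SL2 F} (h : π u = π w) : w = u ∨ w = -u := by
  rcases PSL2.mem_center_iff'.1 (QuotientGroup.eq.1 h) with e | e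
  · exact Or.inl (inv_mul_eq_one.1 e).symm
  · exact Or.inr (by rw [← mul_inv_cancel_left u w, e, mul_neg_one])

theorem pi_neg (u : PSL2.SL2 F) : π (-u) = π u :=
  QuotientGroup.eq.2 (PSL2.mem_center_iff'.2 (Or.inr (by simp)))

theorem pi_neg_one : π (-1 : PSL2.SL2 F) = 1 := by rw [pi_neg, map_one]

theorem sl_neg_val (u : PSL2.SL2 F) : (-u).1 = -u.1 := rfl

theorem mul_val (u w : PSL2.SL2 F) : (u * w).1 = u.1 * w.1 := rfl

theorem val_ext {u w : PSL2.SL2 F} (h : u.1 = w.1) : u = w := Subtype.ext h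

theorem tr_comm_zero {w : PSL2.SL2 F} {a b : PSL2.SL2 F} (h : a * b = w * b * a)
    (hw : PSL2.tr w = 0) (h2 : (2 : F) ≠ 0) : PSL2.tr ⁅a, b⁆ ≠ 2 ∧ PSL2.tr ⁅a, b⁆ ≠ -2 := by
  rw [comm_eq_of_mul h, hw]
  exact ⟨h2.symm, fun e => h2 (neg_eq_zero.1 e.symm)⟩

/-- An icosahedral projective image with an element of order four outside is impossible. -/
theorem altFive_false (hp5 : 5 ≤ p) [CharP F p] {H : Subgroup (GL (Fin 2) F)} (hsc : HasScalars H)
    (hpL : ¬ p ∣ Nat.card ((slPart H).map π)) (e5 : (slPart H).map π ≃* alternatingGroup (Fin 5))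
    {i : F} (hi : i * i = -1) {T : GL (Fin 2) F} (hT : T ∈ H)
    (hTv : (T : Matrix (Fin 2) (Fin 2) F) = !![1 + i, 0; 0, 1 - i]) : False := by
  have h2 : (2 : F) ≠ 0 := PSL2.two_ne_zero_of_char p (by omega)
  set L := (slPart H).map π with hL
  by_cases hsq : IsSquare (2 : F)
  · obtain ⟨c, hc2⟩ := hsq
    have hc0 : c ≠ 0 := fun e => h2 (by rw [hc2, e, mul_zero])
    let u : PSL2.SL2 F := ⟨c⁻¹ • !![1 + i, 0; 0, 1 - i], by
      simp [Matrix.det_fin_two]; field_simp; linear_combination -hi + hc2⟩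
    let z : PSL2.SL2 F := ⟨!![i, 0; 0, -i], by simp [Matrix.det_fin_two, hi]⟩
    let cu : GL (Fin 2) F := GeneralLinearGroup.mkOfDetNeZero (c⁻¹ • 1) (by simp [hc0])
    have hu : u ∈ slPart H := by
      rw [mem_slPart, show Matrix.SpecialLinearGroup.toGL u = cu * T from
        Units.ext (by simp [Matrix.SpecialLinearGroup.toGL, cu, u, hTv])]
      exact mul_mem (hsc cu c⁻¹ rfl) hT
    have hu2 : u * u = z := val_ext (by
      rw [mul_val]
      ext a b; fin_cases a <;> fin_cases b <;> simp [u, z, Matrix.mul_apply, Fin.sum_univ_two] <;>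
        field_simp <;> first | linear_combination hi + i * hc2 | linear_combination hi - i * hc2)
    have hzz : z * z = -1 := val_ext (by
      rw [mul_val, sl_neg_val]
      ext a b; fin_cases a <;> fin_cases b <;> simp [z, Matrix.mul_apply, Fin.sum_univ_two, hi])
    let x : L := ⟨π u, ⟨u, hu, rfl⟩⟩
    have h4 : x ^ 4 = 1 := Subtype.ext (by
      show π u ^ 4 = 1
      rw [← map_pow, show u ^ 4 = (u * u) * (u * u) by simp only [pow_succ, pow_zero, one_mul, mul_assoc], hu2, hzz, pi_neg_one])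
    have h5 := altFive_no_four (e5 x) (by rw [← map_pow, h4, map_one])
    rw [← map_pow, map_eq_one_iff e5 e5.injective] at h5
    have h6 : π u ^ 2 = 1 := congrArg Subtype.val h5
    rw [← map_pow, pow_two, hu2, ← map_one π] at h6
    rcases pi_eq h6 with e | e
    · have h7 := congrArg PSL2.tr e
      try rw [PSL2.tr_neg] at h7
      rw [PSL2.tr_one] at h7
      simp [PSL2.tr, z] at h7
      exact h2 h7
    · have h7 := congrArg PSL2.tr e
      try rw [PSL2.tr_neg] at h7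
      rw [PSL2.tr_one] at h7
      simp [PSL2.tr, z] at h7
      exact h2 h7
  · set K := H.map (ProjGenLinGroup.mk : GL (Fin 2) F →* PSL2.PGL2 F) with hK
    set N := (ProjectiveSpecialLinearGroup.toPGL : PSL2.PSL2 F →* PSL2.PGL2 F).range with hN
    have := PSL2.range_toPGL_normal (F := F)
    have hKN : K ⊓ N = L.map ProjectiveSpecialLinearGroup.toPGL := by
      apply le_antisymm
      · rintro _ ⟨⟨w, hw, rfl⟩, v, hv⟩
        obtain ⟨u, rfl⟩ := QuotientGroup.mk_surjective v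
        refine ⟨_, ⟨u, ?_, rfl⟩, hv⟩
        rw [ProjectiveSpecialLinearGroup.toPGL_mk, ProjGenLinGroup.mk_eq_mk_iff] at hv
        obtain ⟨r, hr⟩ := hv
        let cr : GL (Fin 2) F := GeneralLinearGroup.mkOfDetNeZero ((r : F)⁻¹ • 1) (by simp)
        show Matrix.SpecialLinearGroup.toGL u ∈ H
        rw [show Matrix.SpecialLinearGroup.toGL u = cr * w from Units.ext (by
          have hr' := congrArg (fun M : GL (Fin 2) F => (M : Matrix (Fin 2) (Fin 2) F)) hr
          simp [Matrix.SpecialLinearGroup.toGL] at hr'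
          ext a b
          fin_cases a <;> fin_cases b <;>
            simp [Matrix.SpecialLinearGroup.toGL, cr, ← hr'] <;> field_simp)]
        exact mul_mem (hsc cr _ rfl) hw
      · rintro _ ⟨_, ⟨u, hu, rfl⟩, rfl⟩
        exact ⟨⟨_, hu, rfl⟩, ⟨_, rfl⟩⟩
    have hTN : ProjGenLinGroup.mk T ∉ N := by
      rw [hN, PSL2.mk_mem_range_iff]
      intro h'
      apply hsq
      convert h' using 1
      rw [GeneralLinearGroup.val_det_apply, hTv, Matrix.det_fin_two]
      simp
      linear_combination hi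
    have hr : N.relIndex K = 2 := by
      have hd := Subgroup.relIndex_dvd_index_of_normal N K
      rw [hN, PSL2.index_range_toPGL, (PSL2.odd_card p (by omega)).2] at hd
      rcases (Nat.dvd_prime Nat.prime_two).1 hd with h' | h'
      · exact absurd (Subgroup.relIndex_eq_one.1 h' ⟨T, hT, rfl⟩) hTN
      · exact h'
    have hcardL : Nat.card L = 60 := by rw [Nat.card_congr e5.toEquiv, PSL2.card_alt_five]
    have e1 : Nat.card ↥(K ⊓ N) = 60 := by
      rw [hKN, ← Nat.card_congr (Subgroup.equivMapOfInjective L _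
        ProjectiveSpecialLinearGroup.toPGL_injective).toEquiv, hcardL]
    have e2 := Subgroup.relIndex_mul_relIndex (⊥ : Subgroup (PSL2.PGL2 F)) (K ⊓ N) K bot_le inf_le_left
    rw [Subgroup.relIndex_bot_left, Subgroup.relIndex_bot_left, e1, inf_comm K N,
      Subgroup.inf_relIndex_right, hr] at e2
    refine PSL2.pgl_card_120 p (fun h5 => hpL (by rw [hcardL, h5]; norm_num)) e2.symm fun hsol => ?_
    have hle : L.map ProjectiveSpecialLinearGroup.toPGL ≤ K := hKN ▸ inf_le_left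
    have hsolL : Group.IsSolvable L :=
      Group.isSolvable_of_isSolvable_injective (f := (Subgroup.inclusion hle).comp
        (Subgroup.equivMapOfInjective L _ ProjectiveSpecialLinearGroup.toPGL_injective).toMonoidHom)
        ((Subgroup.inclusion_injective hle).comp (MulEquiv.injective _))
    exact PSL2.not_isSolvable_altFive
      (Group.isSolvable_of_isSolvable_injective (f := e5.symm.toMonoidHom) e5.symm.injective)

set_option maxHeartbeats 1600000 in
/-- A group containing the octahedral group and not inside its normaliser contains SL_2(p). -/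
theorem slTwo_le_of_pauli (hF : Fintype.card F = p) (hp5 : 5 ≤ p) {i : F} (hi : i * i = -1)
    {H : Subgroup (GL (Fin 2) F)} (hsc : HasScalars H) {Z X TZ TX g : GL (Fin 2) F}
    (hZ : Z ∈ H) (hZv : (Z : Matrix (Fin 2) (Fin 2) F) = !![1, 0; 0, -1])
    (hX : X ∈ H) (hXv : (X : Matrix (Fin 2) (Fin 2) F) = !![0, 1; 1, 0])
    (hTZ : TZ ∈ H) (hTZv : (TZ : Matrix (Fin 2) (Fin 2) F) = !![1 + i, 0; 0, 1 - i])
    (hTX : TX ∈ H) (hTXv : (TX : Matrix (Fin 2) (Fin 2) F) = !![1, i; i, 1])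
    (hg : g ∈ H)
    (hgn : ∀ c : F, ∀ P ∈ ({!![1, 0; 0, -1], !![0, 1; 1, 0], !![0, 1; -1, 0]} :
      Set (Matrix (Fin 2) (Fin 2) F)), (g : Matrix (Fin 2) (Fin 2) F) * !![1, 0; 0, -1] ≠
        c • (P * (g : Matrix (Fin 2) (Fin 2) F))) :
    ∀ u : PSL2.SL2 F, u ∈ slPart H := by
  have := charP_of_card hF
  have h2 : (2 : F) ≠ 0 := PSL2.two_ne_zero_of_char p (by omega)
  have hi0 : i ≠ 0 := fun e => by simp [e] at hi
  have smem : ∀ (u : PSL2.SL2 F) (w : GL (Fin 2) F) (c : F), w ∈ H →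
      u.1 = c • (w : Matrix (Fin 2) (Fin 2) F) → u ∈ slPart H := by
    intro u w c hw e
    have hc : c ≠ 0 := by
      rintro rfl
      have := u.2
      rw [e, zero_smul, Matrix.det_zero] at this
      exact zero_ne_one this
    let cw : GL (Fin 2) F := GeneralLinearGroup.mkOfDetNeZero (c • 1) (by simp [hc])
    rw [mem_slPart, show Matrix.SpecialLinearGroup.toGL u = cw * w from
      Units.ext (by simp [Matrix.SpecialLinearGroup.toGL, cw, e])]
    exact mul_mem (hsc cw c rfl) hw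
  let z₀ : PSL2.SL2 F := ⟨!![i, 0; 0, -i], by simp [Matrix.det_fin_two, hi]⟩
  let x₀ : PSL2.SL2 F := ⟨!![0, i; i, 0], by simp [Matrix.det_fin_two, hi]⟩
  let y₀ : PSL2.SL2 F := ⟨!![0, 1; -1, 0], by simp [Matrix.det_fin_two]⟩
  let s : PSL2.SL2 F := ⟨(2 : F)⁻¹ • !![1 + i, i - 1; i + 1, 1 - i], by
    simp [Matrix.det_fin_two]; field_simp; linear_combination (-2 : F) * hi⟩
  have hz : z₀ ∈ slPart H := smem _ Z i hZ (by rw [hZv]; simp [z₀])
  have hx : x₀ ∈ slPart H := smem _ X i hX (by rw [hXv]; simp [x₀])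
  have hy : y₀ ∈ slPart H := smem _ _ 1 (mul_mem hZ hX) (by
    rw [Units.val_mul, hZv, hXv]; simp [y₀])
  have hs : s ∈ slPart H := smem _ _ (2 : F)⁻¹ (mul_mem hTZ hTX) (by
    rw [Units.val_mul, hTZv, hTXv]
    ext a b; fin_cases a <;> fin_cases b <;> simp [s, Matrix.mul_apply, Fin.sum_univ_two] <;>
      first | ring1 | linear_combination hi | linear_combination -hi | (left; linear_combination hi) |
        (left; linear_combination -hi))
  set t := y₀ * s with htdef
  have ht : t ∈ slPart H := mul_mem hy hs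
  have hs1 : PSL2.tr s = 1 := by simp [PSL2.tr, s]; field_simp; ring
  have ht1 : PSL2.tr t = 1 := by
    rw [PSL2.tr, htdef, mul_val]
    simp [s, y₀, Matrix.mul_apply, Fin.sum_univ_two]; field_simp; ring
  have cube : ∀ w : PSL2.SL2 F, PSL2.tr w = 1 → π w ^ 3 = 1 := fun w hw => by
    rw [← map_pow]
    refine (QuotientGroup.eq_one_iff _).2 (PSL2.mem_center_iff'.2 (Or.inr (Subtype.ext ?_)))
    have h := PSL2.coe_sq w
    rw [hw, one_smul] at h
    rw [coe_pow', Matrix.SpecialLinearGroup.coe_neg, Matrix.SpecialLinearGroup.coe_one, pow_succ,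
      pow_two, h, sub_mul, h, one_mul]
    abel
  have r1 : s * t = x₀ * t * s := val_ext (by
    rw [htdef]; simp only [mul_val]
    ext a b; fin_cases a <;> fin_cases b <;>
      simp [s, y₀, x₀, Matrix.mul_apply, Fin.sum_univ_two] <;> field_simp <;> grind)
  have r2 : x₀ * s = -z₀ * s * x₀ := val_ext (by
    simp only [mul_val, sl_neg_val]
    ext a b; fin_cases a <;> fin_cases b <;>
      simp [s, z₀, x₀, Matrix.mul_apply, Fin.sum_univ_two] <;> field_simp <;> grind)
  have r3 : z₀ * s = y₀ * s * z₀ := val_ext (by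
    simp only [mul_val]
    ext a b; fin_cases a <;> fin_cases b <;>
      simp [s, y₀, z₀, Matrix.mul_apply, Fin.sum_univ_two] <;> field_simp <;> grind)
  have r4 : y₀ * s = -x₀ * s * y₀ := val_ext (by
    simp only [mul_val, sl_neg_val]
    ext a b; fin_cases a <;> fin_cases b <;>
      simp [s, y₀, x₀, Matrix.mul_apply, Fin.sum_univ_two] <;> field_simp <;> grind)
  rcases sl_or_exceptional hF hp5 hsc hs ht (cube s hs1) (cube t ht1)
    (tr_comm_zero r1 (by simp [PSL2.tr, x₀]) h2) with h | ⟨hpL, h⟩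
  · exact h
  exfalso
  set L := (slPart H).map π with hLdef
  rcases h with h4 | h4 | ⟨⟨e5⟩⟩
  rotate_left 2
  · exact altFive_false hp5 hsc hpL e5 hi hTZ hTZv
  all_goals
    obtain ⟨e⟩ := h4
    have hcard : Nat.card {x : L // x ^ 2 = 1 ∧ ∃ a b : L, ⁅a, b⁆ = x} = 4 :=
      natCard_four_le e (by first | exact four_set_perm | exact four_set_alt)
    let X' := {x : L // x ^ 2 = 1 ∧ ∃ a b : L, ⁅a, b⁆ = x}
    have inL : ∀ {u : PSL2.SL2 F}, u ∈ slPart H → π u ∈ L := fun hu => ⟨_, hu, rfl⟩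
    have mkc : ∀ {u v w : PSL2.SL2 F} (hu : u ∈ slPart H) (hv : v ∈ slPart H) (hw : w ∈ slPart H),
        (v * w = u * w * v ∨ v * w = -u * w * v) → u * u = -1 →
        (⟨π u, inL hu⟩ : L) ^ 2 = 1 ∧ ∃ a b : L, ⁅a, b⁆ = ⟨π u, inL hu⟩ := by
      intro u v w hu hv hw hvw huu
      refine ⟨Subtype.ext ?_, ⟨π v, inL hv⟩, ⟨π w, inL hw⟩, Subtype.ext ?_⟩
      · show π u ^ 2 = 1
        rw [← map_pow, pow_two, huu, pi_neg_one]
      · show ⁅π v, π w⁆ = π u
        rw [← map_commutatorElement]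
        rcases hvw with h' | h'
        · rw [comm_eq_of_mul h']
        · rw [comm_eq_of_mul h', pi_neg]
    have zz : z₀ * z₀ = -1 := val_ext (by
      rw [mul_val, sl_neg_val]
      ext a b; fin_cases a <;> fin_cases b <;> simp [z₀, Matrix.mul_apply, Fin.sum_univ_two, hi])
    have xx : x₀ * x₀ = -1 := val_ext (by
      rw [mul_val, sl_neg_val]
      ext a b; fin_cases a <;> fin_cases b <;> simp [x₀, Matrix.mul_apply, Fin.sum_univ_two, hi])
    have yy : y₀ * y₀ = -1 := val_ext (by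
      rw [mul_val, sl_neg_val]
      ext a b; fin_cases a <;> fin_cases b <;> simp [y₀, Matrix.mul_apply, Fin.sum_univ_two])
    -- conjugates under g
    set G := (g : Matrix (Fin 2) (Fin 2) F) with hG
    set G' := ((g⁻¹ : GL (Fin 2) F) : Matrix (Fin 2) (Fin 2) F) with hG'
    have gg : G' * G = 1 := by rw [hG, hG', ← Units.val_mul, inv_mul_cancel, Units.val_one]
    have gg' : G * G' = 1 := by rw [hG, hG', ← Units.val_mul, mul_inv_cancel, Units.val_one]
    let cj : PSL2.SL2 F → PSL2.SL2 F := fun u => ⟨G * u.1 * G', by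
      rw [hG, hG', Matrix.det_units_conj]; exact u.2⟩
    have cjm : ∀ u, u ∈ slPart H → cj u ∈ slPart H := fun u hu =>
      smem _ _ 1 (mul_mem (mul_mem hg (mem_slPart.1 hu)) (inv_mem hg))
        (by simp [cj, hG, hG', Matrix.SpecialLinearGroup.toGL])
    have cjmul : ∀ u w, cj (u * w) = cj u * cj w := fun u w => val_ext (by
      show G * (u.1 * w.1) * G' = (G * u.1 * G') * (G * w.1 * G')
      calc G * (u.1 * w.1) * G' = G * u.1 * (G' * G) * w.1 * G' := by rw [gg]; simp [mul_assoc]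
        _ = _ := by simp [mul_assoc])
    have cjneg : ∀ u, cj (-u) = -cj u := fun u => val_ext (by
      show G * (-u.1) * G' = -(G * u.1 * G')
      simp)
    have cjone : cj 1 = 1 := val_ext (by simp [cj, gg'])
    have hvv : cj z₀ * cj z₀ = -1 := by rw [← cjmul, zz, cjneg, cjone]
    have hvc : cj x₀ * cj s = -(cj z₀) * cj s * cj x₀ := by
      rw [← cjneg, ← cjmul, r2, cjmul, cjmul]
    let a0 : X' := ⟨1, by simp, 1, 1, by simp [commutatorElement_def]⟩
    let a1 : X' := ⟨⟨π z₀, inL hz⟩, mkc hz hx hs (Or.inr r2) zz⟩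
    let a2 : X' := ⟨⟨π x₀, inL hx⟩, mkc hx hy hs (Or.inr r4) xx⟩
    let a3 : X' := ⟨⟨π y₀, inL hy⟩, mkc hy hz hs (Or.inl r3) yy⟩
    let a4 : X' := ⟨⟨π (cj z₀), inL (cjm _ hz)⟩, mkc (cjm _ hz) (cjm _ hx) (cjm _ hs) (Or.inr hvc) hvv⟩
    have hv1 : π (cj z₀) ≠ 1 := by
      intro h'
      rw [← map_one π] at h'
      have e' : cj z₀ * cj z₀ = 1 := by
        rcases pi_eq h'.symm with e' | e' <;> rw [e'] <;> simp
      rw [hvv] at e'
      exact PSL2.neg_one_ne_one_sl h2 e'
    have hvne : ∀ (u : PSL2.SL2 F) (P : Matrix (Fin 2) (Fin 2) F) (d : F), u.1 = d • P →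
        P ∈ ({!![1, 0; 0, -1], !![0, 1; 1, 0], !![0, 1; -1, 0]} : Set (Matrix (Fin 2) (Fin 2) F)) →
        π (cj z₀) ≠ π u := by
      intro u P d hu hP h'
      have hd : ∃ d' : F, G * z₀.1 * G' = d' • P := by
        rcases pi_eq h'.symm with e' | e'
        · exact ⟨d, by rw [← hu, ← e']⟩
        · exact ⟨-d, by rw [neg_smul, ← hu, ← sl_neg_val, ← e']⟩
      obtain ⟨d', hd'⟩ := hd
      apply hgn (i⁻¹ * d') P hP
      have hz' : z₀.1 = i • !![1, 0; 0, -1] := by simp [z₀]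
      have h9 := congrArg (· * G) hd'
      simp only [mul_assoc, gg, mul_one, hz', Matrix.mul_smul, Matrix.smul_mul] at h9
      rw [mul_smul, ← h9, smul_smul, inv_mul_cancel₀ hi0, one_smul]
    have d14 : π (cj z₀) ≠ π z₀ := hvne z₀ _ i (by simp [z₀]) (Or.inl rfl)
    have d24 : π (cj z₀) ≠ π x₀ := hvne x₀ _ i (by simp [x₀]) (Or.inr (Or.inl rfl))
    have d34 : π (cj z₀) ≠ π y₀ := hvne y₀ _ 1 (by simp [y₀]) (Or.inr (Or.inr rfl))
    have sep : ∀ {u w : PSL2.SL2 F}, u * u = -1 → w = 1 → π u ≠ π w := by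
      intro u w hu hw h'
      subst hw
      have e' : u * u = 1 := by rcases pi_eq h'.symm with e' | e' <;> rw [e'] <;> simp
      rw [hu] at e'
      exact PSL2.neg_one_ne_one_sl h2 e'
    have d01 : π z₀ ≠ 1 := by rw [← map_one π]; exact sep zz rfl
    have d02 : π x₀ ≠ 1 := by rw [← map_one π]; exact sep xx rfl
    have d03 : π y₀ ≠ 1 := by rw [← map_one π]; exact sep yy rfl
    have dd : ∀ {u w : PSL2.SL2 F}, u.1 0 0 ≠ 0 → w.1 0 0 = 0 → π u ≠ π w := by
      intro u w hu hw h'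
      rcases pi_eq h'.symm with e' | e' <;> rw [e'] at hu
      · exact hu hw
      · exact hu (by rw [sl_neg_val]; simp [hw])
    have d12 : π z₀ ≠ π x₀ := dd (by simp [z₀, hi0]) (by simp [x₀])
    have d13 : π z₀ ≠ π y₀ := dd (by simp [z₀, hi0]) (by simp [y₀])
    have d23 : π x₀ ≠ π y₀ := by
      intro h'
      have h8 : ∀ c : F, x₀.1 ≠ c • y₀.1 := fun c e' => by
        have h5 := congrFun (congrFun e' 0) 1
        have h6 := congrFun (congrFun e' 1) 0
        simp [x₀, y₀] at h5 h6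
        exact hi0 (by
          have : (2 : F) * i = 0 := by linear_combination h5 + h6
          exact (mul_eq_zero.1 this).resolve_left h2)
      rcases pi_eq h'.symm with e' | e'
      · exact h8 1 (by rw [one_smul, e'])
      · exact h8 (-1) (by rw [e', sl_neg_val, neg_one_smul])
    have hinj : Function.Injective ![a0, a1, a2, a3, a4] := by
      intro j k hjk
      have := congrArg (fun q : X' => ((q.1 : L) : PSL2.PSL2 F)) hjk
      fin_cases j <;> fin_cases k <;>
        first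
        | rfl
        | exact absurd this.symm (by first | exact d01 | exact d02 | exact d03 | exact hv1 | exact d12 | exact d13 | exact d23 | exact d14 | exact d24 | exact d34)
        | exact absurd this (by first | exact d01 | exact d02 | exact d03 | exact hv1 | exact d12 | exact d13 | exact d23 | exact d14 | exact d24 | exact d34)
    have h5 := Nat.card_le_card_of_injective _ hinj
    rw [Nat.card_fin, hcard] at h5
    omega

end Cfsg.Agent.C6Two
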