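/-
Pauli systems (groups of symplectic type for the prime 2, as sets of endomorphisms) on a vector space.
Main results: `Pauli`, `exists_match`, `exists_partner`, `exists_partner_two`, `exists_split`,
`resEnd`, `Pauli.restrict`.
-/
import Cfsg.Agent.EqLemmas

set_option autoImplicit false
set_option linter.unusedSectionVars false

namespace Cfsg.Agent.C6Two

open Module

variable {F : Type*} [Field F] {V : Type*} [AddCommGroup V] [Module F V]



/-- The two elements commute or anticommute. -/
def CAC (a b : (Module.End F V)) : Prop := a * b = b * a ∨ a * b = -(b * a)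

/-- The element is not a scalar. -/
def NS (a : (Module.End F V)) : Prop := ∀ c : F, a ≠ c • 1

/-- (Module.End F V) projective elementary abelian group of endomorphisms spanning the whole algebra. -/
structure Pauli (R : Set (Module.End F V)) : Prop where
  scal : ∀ c : F, c ≠ 0 → c • (1 : (Module.End F V)) ∈ R
  mul : ∀ a ∈ R, ∀ b ∈ R, a * b ∈ R
  sq : ∀ a ∈ R, ∃ c : F, c ≠ 0 ∧ a * a = (c * c) • 1
  cac : ∀ a ∈ R, ∀ b ∈ R, CAC a b
  span : Submodule.span F R = ⊤

theorem NS.neg' {a : (Module.End F V)} (h : NS a) : NS (-a) := fun c hc => h (-c) (by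
  rw [neg_smul, ← hc, neg_neg])

theorem eq_zero_of_trace [FiniteDimensional F V] {M : (Module.End F V)} (h : ∀ X : (Module.End F V), LinearMap.trace F V (M * X) = 0) :
    M = 0 := by
  refine LinearMap.ext fun v => ?_
  rw [LinearMap.zero_apply, ← Module.forall_dual_apply_eq_zero_iff F]
  intro φ
  have h1 := h (φ.smulRight v)
  have e : M * φ.smulRight v = φ.smulRight (M v) := LinearMap.ext fun x => by simp
  rw [e, LinearMap.trace_smulRight] at h1
  exact h1

theorem scalar_of_central (M : (Module.End F V)) (h : ∀ X : (Module.End F V), M * X = X * M) : ∃ c : F, M = c • 1 := by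
  by_cases hv : ∀ v : V, v = 0
  · exact ⟨0, LinearMap.ext fun v => by rw [hv v]; simp⟩
  push Not at hv
  obtain ⟨v0, hv0⟩ := hv
  obtain ⟨φ, hφ⟩ : ∃ φ : V →ₗ[F] F, φ v0 = 1 := by
    obtain ⟨ψ, hψ⟩ : ∃ ψ : V →ₗ[F] F, ψ v0 ≠ 0 := by
      by_contra hc
      push Not at hc
      exact hv0 ((Module.forall_dual_apply_eq_zero_iff F v0).1 hc)
    exact ⟨(ψ v0)⁻¹ • ψ, by simp [hψ]⟩
  refine ⟨φ (M v0), LinearMap.ext fun v => ?_⟩
  have h1 := LinearMap.congr_fun (h (φ.smulRight v)) v0
  simpa [hφ] using h1

section basic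

variable {R : Set (Module.End F V)}

theorem CAC.symm {a b : (Module.End F V)} (h : CAC a b) : CAC b a := by
  rcases h with h | h
  · exact Or.inl h.symm
  · exact Or.inr (by rw [h, neg_neg])

theorem Pauli.one_mem (P : Pauli R) : (1 : (Module.End F V)) ∈ R := by simpa using P.scal 1 one_ne_zero

theorem Pauli.smul_mem (P : Pauli R) {c : F} (hc : c ≠ 0) {a : (Module.End F V)} (ha : a ∈ R) : c • a ∈ R := by
  simpa using P.mul _ (P.scal c hc) _ ha

theorem Pauli.neg_mem (P : Pauli R) {a : (Module.End F V)} (ha : a ∈ R) : -a ∈ R := by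
  simpa using P.smul_mem (neg_ne_zero.2 one_ne_zero) ha

/-- Every element is a multiple of an involution of the system. -/
theorem Pauli.exists_invol (P : Pauli R) {a : (Module.End F V)} (ha : a ∈ R) :
    ∃ c : F, c ≠ 0 ∧ c • a ∈ R ∧ (c • a) * (c • a) = 1 := by
  obtain ⟨d, hd, h⟩ := P.sq a ha
  refine ⟨d⁻¹, inv_ne_zero hd, P.smul_mem (inv_ne_zero hd) ha, ?_⟩
  rw [smul_mul_assoc, mul_smul_comm, h, smul_smul, smul_smul]
  rw [show d⁻¹ * d⁻¹ * (d * d) = 1 by field_simp, one_smul]

theorem Pauli.mul_left_cancel (P : Pauli R) {a x y : (Module.End F V)} (ha : a ∈ R) (h : a * x = a * y) : x = y := by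
  obtain ⟨d, hd, h'⟩ := P.sq a ha
  have h2 := congrArg (a * ·) h
  simp only [← mul_assoc, h', smul_mul_assoc, one_mul] at h2
  exact smul_right_injective (Module.End F V) (mul_ne_zero hd hd) h2

theorem Pauli.mul_right_cancel (P : Pauli R) {a x y : (Module.End F V)} (ha : a ∈ R) (h : x * a = y * a) : x = y := by
  obtain ⟨d, hd, h'⟩ := P.sq a ha
  have h2 := congrArg (· * a) h
  simp only [mul_assoc, h', mul_smul_comm, mul_one] at h2
  exact smul_right_injective (Module.End F V) (mul_ne_zero hd hd) h2

/-- Commutation is checked on the system. -/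
theorem Pauli.central (P : Pauli R) {M : (Module.End F V)} (h : ∀ f ∈ R, M * f = f * M) : ∃ c : F, M = c • 1 := by
  refine scalar_of_central M fun X => ?_
  have hX : X ∈ Submodule.span F R := P.span ▸ Submodule.mem_top
  induction hX using Submodule.span_induction with
  | mem x hx => exact h x hx
  | zero => simp
  | add x y _ _ hx hy => rw [mul_add, add_mul, hx, hy]
  | smul c x _ hx => rw [mul_smul_comm, smul_mul_assoc, hx]

theorem comm_mul {a b c : (Module.End F V)} (h1 : a * b = b * a) (h2 : a * c = c * a) : a * (b * c) = (b * c) * a := by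
  rw [← mul_assoc, h1, mul_assoc, h2, mul_assoc]

theorem anti_mul {a b c : (Module.End F V)} (h1 : a * b = -(b * a)) (h2 : a * c = -(c * a)) :
    a * (b * c) = (b * c) * a := by
  rw [← mul_assoc, h1, neg_mul, mul_assoc, h2, mul_neg, neg_neg, mul_assoc]

theorem comm_anti_mul {a b c : (Module.End F V)} (h1 : a * b = b * a) (h2 : a * c = -(c * a)) :
    a * (b * c) = -((b * c) * a) := by
  rw [← mul_assoc, h1, mul_assoc, h2, mul_neg, mul_assoc]

theorem anti_comm_mul {a b c : (Module.End F V)} (h1 : a * b = -(b * a)) (h2 : a * c = c * a) :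
    a * (b * c) = -((b * c) * a) := by
  rw [← mul_assoc, h1, neg_mul, mul_assoc, h2, mul_assoc]

theorem anti_symm {a b : (Module.End F V)} (h : a * b = -(b * a)) : b * a = -(a * b) := by rw [h, neg_neg]

end basic

section dual

variable [FiniteDimensional F V] [Nontrivial V] {R : Set (Module.End F V)} (h2 : (2 : F) ≠ 0)

theorem Pauli.ne_zero (P : Pauli R) {a : (Module.End F V)} (ha : a ∈ R) : a ≠ 0 := by
  rintro rfl
  exact one_ne_zero (P.mul_left_cancel (x := (1 : (Module.End F V))) (y := 0) ha (by simp))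

include h2 in
theorem eq_zero_of_eq_neg' {x : (Module.End F V)} (h : x = -x) : x = 0 := by
  have h' : (2 : F) • x = 0 := by rw [two_smul]; nth_rewrite 2 [h]; exact add_neg_cancel x
  exact (smul_eq_zero.1 h').resolve_left h2

include h2 in
/-- An element of the system with an anticommuting one is no scalar. -/
theorem Pauli.ns_of_anti (P : Pauli R) {a b : (Module.End F V)} (ha : a ∈ R) (hb : b ∈ R)
    (h : a * b = -(b * a)) : NS a := fun c hc => by
  rw [hc, smul_mul_assoc, mul_smul_comm, one_mul, mul_one] at h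
  exact P.ne_zero ha (by
    rw [hc, (smul_eq_zero.1 (eq_zero_of_eq_neg' h2 h)).resolve_right (P.ne_zero hb), zero_smul])

include h2 in
/-- An operator agrees with some element of the system on all its signs. -/
theorem Pauli.exists_match (P : Pauli R) {M : (Module.End F V)} (hM : M ≠ 0) :
    ∃ r ∈ R, ∀ f ∈ R, CAC M f → (M * r) * f = f * (M * r) := by
  obtain ⟨r, hr, htr⟩ : ∃ r ∈ R, LinearMap.trace F V (M * r) ≠ 0 := by
    by_contra hc
    push Not at hc
    refine hM (eq_zero_of_trace fun X => ?_)
    have hX : X ∈ Submodule.span F R := P.span ▸ Submodule.mem_top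
    induction hX using Submodule.span_induction with
    | mem x hx => exact hc x hx
    | zero => simp
    | add x y _ _ hx hy => rw [mul_add, map_add, hx, hy, add_zero]
    | smul c x _ hx => rw [mul_smul_comm, map_smul, hx, smul_zero]
  refine ⟨r, hr, fun f hf hMf => ?_⟩
  have main : ∀ N : (Module.End F V), N * f = -(f * N) → LinearMap.trace F V N = 0 := by
    intro N hN
    obtain ⟨d, hd, hff⟩ := P.sq f hf
    have h1 : LinearMap.trace F V (f * (N * f)) = LinearMap.trace F V ((N * f) * f) :=
      LinearMap.trace_mul_comm F f (N * f)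
    rw [mul_assoc N f f, hff] at h1
    rw [show f * (N * f) = -((d * d) • N) by
      rw [hN, mul_neg, ← mul_assoc, hff, smul_one_mul], mul_smul_comm, mul_one, map_neg, map_smul] at h1
    have h' : (2 : F) * ((d * d) * LinearMap.trace F V N) = 0 := by
      rw [smul_eq_mul] at h1; linear_combination -h1
    exact ((mul_eq_zero.1 ((mul_eq_zero.1 h').resolve_left h2)).resolve_left (mul_ne_zero hd hd))
  rcases hMf with h | h <;> rcases P.cac r hr f hf with h' | h'
  · rw [mul_assoc, h', ← mul_assoc, h, mul_assoc]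
  · exact absurd (main _ (by rw [mul_assoc, h', mul_neg, ← mul_assoc, h, mul_assoc])) htr
  · exact absurd (main _ (by rw [mul_assoc, h', ← mul_assoc, h, neg_mul, mul_assoc])) htr
  · rw [mul_assoc, h', mul_neg, ← mul_assoc, h, neg_mul, neg_neg, mul_assoc]

/-- (Module.End F V) nonscalar element has an anticommuting involution in the system. -/
theorem Pauli.exists_partner (P : Pauli R) {a : (Module.End F V)} (ha : a ∈ R) (hns : NS a) :
    ∃ b ∈ R, b * b = 1 ∧ a * b = -(b * a) := by
  by_contra hc
  push Not at hc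
  obtain ⟨c, hc'⟩ := P.central (M := a) fun f hf => by
    rcases P.cac a ha f hf with h | h
    · exact h
    · obtain ⟨d, hd, hdf, hdd⟩ := P.exists_invol hf
      exact absurd (by rw [mul_smul_comm, h, smul_neg, ← smul_mul_assoc]) (hc _ hdf hdd)
  exact hns c hc'

theorem Pauli.mul_cases (P : Pauli R) {x f g : (Module.End F V)} (hx : x ∈ R) (hf : f ∈ R) (hg : g ∈ R) :
    CAC x (f * g) := P.cac x hx _ (P.mul f hf g hg)

include h2 in
/-- Two independent commuting elements: an element anticommuting with the first and commuting with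
the second. -/
theorem Pauli.exists_partner_two (P : Pauli R) {a u : (Module.End F V)} (ha : a ∈ R) (hu : u ∈ R)
    (hau : a * u = u * a) (hnsa : NS a) (hns : NS (a * u)) :
    ∃ b ∈ R, b * b = 1 ∧ a * b = -(b * a) ∧ u * b = b * u := by
  suffices h : ∃ b ∈ R, a * b = -(b * a) ∧ u * b = b * u by
    obtain ⟨b, hb, h1, h2'⟩ := h
    obtain ⟨d, hd, hdb, hdd⟩ := P.exists_invol hb
    exact ⟨d • b, hdb, hdd, by rw [mul_smul_comm, h1, smul_neg, ← smul_mul_assoc],
      by rw [mul_smul_comm, h2', ← smul_mul_assoc]⟩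
  obtain ⟨b0, hb0, -, hab0⟩ := P.exists_partner ha hnsa
  rcases P.cac u hu b0 hb0 with h | h
  · exact ⟨b0, hb0, hab0, h⟩
  obtain ⟨e, he, -, hee⟩ := P.exists_partner (P.mul a ha u hu) hns
  rcases P.cac a ha e he with h1 | h1 <;> rcases P.cac u hu e he with h3 | h3
  · exfalso
    have hc : (a * u) * e = e * (a * u) := (comm_mul h1.symm h3.symm).symm
    rw [hee] at hc
    exact one_ne_zero (P.mul_left_cancel (x := (1 : (Module.End F V))) (y := 0) (P.mul e he _ (P.mul a ha u hu))
      (by simpa using eq_zero_of_eq_neg' h2 hc.symm))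
  · exact ⟨b0 * e, P.mul _ hb0 _ he, anti_comm_mul hab0 h1, anti_mul h h3⟩
  · exact ⟨e, he, h1, h3⟩
  · exfalso
    have hc : (a * u) * e = e * (a * u) := (anti_mul (anti_symm h1) (anti_symm h3)).symm
    rw [hee] at hc
    exact one_ne_zero (P.mul_left_cancel (x := (1 : (Module.End F V))) (y := 0) (P.mul e he _ (P.mul a ha u hu))
      (by simpa using eq_zero_of_eq_neg' h2 hc.symm))

include h2 in
/-- An element commuting with `a` and `u` outside their span has an anticommuting element among
those commuting with both. -/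
theorem Pauli.exists_split (P : Pauli R) {a u w : (Module.End F V)} (ha : a ∈ R) (hu : u ∈ R) (hw : w ∈ R)
    (hau : a * u = u * a) (haw : a * w = w * a) (hnsa : NS a) (hnsu : NS u) (hns : NS (a * u))
    (hout : NS w ∧ NS (w * a) ∧ NS (w * u) ∧ NS (w * (a * u))) :
    ∃ c ∈ R, c * c = 1 ∧ a * c = c * a ∧ u * c = c * u ∧ w * c = -(c * w) := by
  suffices h : ∃ c ∈ R, a * c = c * a ∧ u * c = c * u ∧ w * c = -(c * w) by
    obtain ⟨c, hc, h1, h3, h4⟩ := h
    obtain ⟨d, hd, hdb, hdd⟩ := P.exists_invol hc
    exact ⟨d • c, hdb, hdd, by rw [mul_smul_comm, h1, ← smul_mul_assoc],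
      by rw [mul_smul_comm, h3, ← smul_mul_assoc],
      by rw [mul_smul_comm, h4, smul_neg, ← smul_mul_assoc]⟩
  by_contra hcon
  push Not at hcon
  obtain ⟨b, hb, -, hab, hub⟩ := P.exists_partner_two h2 ha hu hau hnsa hns
  obtain ⟨d, hd, -, hud, had⟩ := P.exists_partner_two h2 hu ha hau.symm hnsu (hau ▸ hns)
  -- every element reduces to one commuting with both
  have red : ∀ M : (Module.End F V), M * b = b * M → M * d = d * M →
      (∀ r ∈ R, a * r = r * a → u * r = r * u → M * r = r * M) → ∃ c : F, M = c • 1 := by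
    intro M hMb hMd hM
    refine P.central fun r hr => ?_
    rcases P.cac a ha r hr with h1 | h1 <;> rcases P.cac u hu r hr with h3 | h3
    · exact hM r hr h1 h3
    · exact P.mul_right_cancel hd
        (by rw [mul_assoc, hM _ (P.mul r hr d hd) (comm_mul h1 had) (anti_mul h3 hud), mul_assoc,
          mul_assoc, hMd])
    · exact P.mul_right_cancel hb
        (by rw [mul_assoc, hM _ (P.mul r hr b hb) (anti_mul h1 hab) (comm_mul h3 hub), mul_assoc,
          mul_assoc, hMb])
    · refine P.mul_right_cancel hd (P.mul_right_cancel hb ?_)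
      have h5 := hM _ (P.mul _ (P.mul r hr d hd) b hb) (anti_mul (anti_comm_mul h1 had) hab)
        (comm_mul (anti_mul h3 hud) hub)
      have e2 : M * (d * b) = (d * b) * M := comm_mul hMd hMb
      calc M * r * d * b = M * (r * d * b) := by simp only [mul_assoc]
        _ = r * d * b * M := h5
        _ = r * ((d * b) * M) := by simp only [mul_assoc]
        _ = r * M * d * b := by rw [← e2]; simp only [mul_assoc]
  have hwr : ∀ r ∈ R, a * r = r * a → u * r = r * u → w * r = r * w := fun r hr h1 h3 =>
    (P.cac w hw r hr).resolve_right (hcon r hr h1 h3)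
  obtain ⟨hw1, hw2, hw3, hw4⟩ := hout
  rcases P.cac w hw b hb with h1 | h1 <;> rcases P.cac w hw d hd with h3 | h3
  · obtain ⟨c, hc⟩ := red w h1 h3 hwr
    exact hw1 c hc
  · obtain ⟨c, hc⟩ := red (w * u)
      ((comm_mul h1.symm hub.symm).symm) ((anti_mul (anti_symm h3) (anti_symm hud)).symm)
      fun r hr e1 e2 => (comm_mul (hwr r hr e1 e2).symm e2.symm).symm
    exact hw3 c hc
  · obtain ⟨c, hc⟩ := red (w * a)
      ((anti_mul (anti_symm h1) (anti_symm hab)).symm) ((comm_mul h3.symm had.symm).symm)
      fun r hr e1 e2 => (comm_mul (hwr r hr e1 e2).symm e1.symm).symm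
    exact hw2 c hc
  · obtain ⟨c, hc⟩ := red (w * (a * u))
      ((anti_mul (anti_symm h1) (anti_comm_mul (anti_symm hab) hub.symm)).symm)
      ((anti_mul (anti_symm h3) (comm_anti_mul had.symm (anti_symm hud))).symm)
      fun r hr e1 e2 => (comm_mul (hwr r hr e1 e2).symm (comm_mul e1.symm e2.symm)).symm
    exact hw4 c hc

end dual

end Cfsg.Agent.C6Two
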