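/-
The element T(a) = 1 + i a of an involution and the restriction of operators to the fixed space of an
involution. Main results: `tEl`, `res`, `ext`, `Pauli.restrict`.
-/
import Cfsg.Agent.Lib.C6Two.Basic

set_option autoImplicit false
set_option linter.unusedSectionVars false

namespace Cfsg.Agent.C6Two

open Module

variable {F : Type*} [Field F] {V : Type*} [AddCommGroup V] [Module F V]



/-- The element 1 + i a. -/
def tEl (i : F) (a : (Module.End F V)) : (Module.End F V) := 1 + i • a

section tel

variable {i : F} (hi : i * i = -1)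

include hi in
theorem tEl_mul_neg {a : (Module.End F V)} (ha : a * a = 1) : tEl i a * tEl (-i) a = (2 : F) • 1 := by
  simp only [tEl, mul_add, add_mul, one_mul, mul_one, smul_mul_assoc, mul_smul_comm, smul_smul, ha,
    neg_mul]
  match_scalars <;> first | ring1 | linear_combination hi | linear_combination -hi

include hi in
theorem tEl_sq {a : (Module.End F V)} (ha : a * a = 1) : tEl i a * tEl i a = (2 * i) • a := by
  simp only [tEl, mul_add, add_mul, one_mul, mul_one, smul_mul_assoc, mul_smul_comm, smul_smul, ha]
  match_scalars <;> first | ring1 | linear_combination hi | linear_combination -hi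

theorem tEl_commute {a f : (Module.End F V)} (h : a * f = f * a) : tEl i a * f = f * tEl i a := by
  simp only [tEl, mul_add, add_mul, one_mul, mul_one, smul_mul_assoc, mul_smul_comm, h]

include hi in
theorem tEl_conj {a f : (Module.End F V)} (ha : a * a = 1) (h : a * f = -(f * a)) :
    tEl i a * f = (i • (a * f)) * tEl i a := by
  have e : a * (f * a) = -f := by
    rw [← mul_assoc, h, neg_mul, mul_assoc, ha, mul_one]
  simp only [tEl, mul_add, add_mul, one_mul, mul_one, smul_mul_assoc, mul_smul_comm, smul_smul,
    mul_assoc, e]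
  match_scalars <;> first | ring1 | linear_combination hi | linear_combination -hi

theorem tEl_neg (a : (Module.End F V)) : tEl (-i) a = tEl i (-a) := by simp [tEl]

end tel

section res

variable (h2 : (2 : F) ≠ 0) {a : Module.End F V} (ha : a * a = 1)

/-- The fixed space of an operator. -/
def fxd (a : (Module.End F V)) : Submodule F V := LinearMap.ker (a - 1)

theorem mem_fxd {a : (Module.End F V)} {v : V} : v ∈ fxd a ↔ a v = v := by
  simp [fxd, sub_eq_zero]

/-- The projection onto the fixed space of an involution. -/
def prj (a : (Module.End F V)) : (Module.End F V) := (2 : F)⁻¹ • (1 + a)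

include ha in
theorem prj_mem (v : V) : prj a v ∈ fxd a := by
  rw [mem_fxd]
  have e : a (a v) = v := LinearMap.congr_fun ha v
  simp [prj, e, add_comm]

include h2 in
theorem prj_of_mem {v : V} (hv : v ∈ fxd a) : prj a v = v := by
  rw [mem_fxd] at hv
  simp [prj, hv, ← two_smul F, smul_smul, mul_inv_cancel₀ h2, inv_mul_cancel₀ h2]

include h2 ha in
theorem prj_sq : prj a * prj a = prj a :=
  LinearMap.ext fun v => prj_of_mem h2 (prj_mem ha v)

/-- The compression of an operator to the fixed space. -/
def res (ha : a * a = 1) : (Module.End F V) →ₗ[F] Module.End F (fxd a) where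
  toFun f := ((prj a * f).comp (fxd a).subtype).codRestrict (fxd a) fun v => prj_mem ha (f v)
  map_add' f g := LinearMap.ext fun v => Subtype.ext (map_add (prj a) _ _)
  map_smul' c f := LinearMap.ext fun v => Subtype.ext (map_smul (prj a) _ _)

theorem res_apply (f : (Module.End F V)) (v : fxd a) : (res ha f v : V) = prj a (f v) := rfl

include h2 in
theorem res_apply_comm {f : (Module.End F V)} (hf : a * f = f * a) (v : fxd a) : (res ha f v : V) = f v := by
  rw [res_apply]
  exact prj_of_mem h2 (mem_fxd.2 (by
    have := LinearMap.congr_fun hf (v : V)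
    simpa [mem_fxd.1 v.2] using this))

include h2 in
theorem res_one : res ha (1 : (Module.End F V)) = 1 := by
  ext v
  rw [res_apply]
  simpa using prj_of_mem h2 v.2

include h2 in
theorem res_mul {f g : (Module.End F V)} (hg : a * g = g * a) : res ha (f * g) = res ha f * res ha g := by
  ext v
  rw [res_apply, Module.End.mul_apply, Module.End.mul_apply, res_apply, res_apply_comm h2 ha hg]

include h2 in
theorem res_self : res ha a = 1 := by
  ext v
  rw [res_apply_comm h2 ha rfl]
  simpa using mem_fxd.1 v.2

include h2 in
theorem res_anti {f : (Module.End F V)} (hf : a * f = -(f * a)) : res ha f = 0 := by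
  ext v
  have h1 : a (f (v : V)) = -(f v) := by
    have := LinearMap.congr_fun hf (v : V)
    simpa [mem_fxd.1 v.2] using this
  rw [res_apply]
  simp [prj, h1]

theorem res_tEl {i : F} {u : (Module.End F V)} (h2 : (2 : F) ≠ 0) : res ha (tEl i u) = tEl i (res ha u) := by
  simp [tEl, res_one h2 ha]

/-- Extension by zero of an operator on the fixed space. -/
def ext (ha : a * a = 1) (M : Module.End F (fxd a)) : (Module.End F V) :=
  ((fxd a).subtype.comp M).comp ((prj a).codRestrict (fxd a) (prj_mem ha))

theorem ext_apply (M : Module.End F (fxd a)) (v : V) :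
    ext ha M v = (M ⟨prj a v, prj_mem ha v⟩ : V) := rfl

include h2 in
theorem res_ext (M : Module.End F (fxd a)) : res ha (ext ha M) = M := by
  ext v
  rw [res_apply, ext_apply]
  have e : (⟨prj a (v : V), prj_mem ha _⟩ : fxd a) = v := Subtype.ext (prj_of_mem h2 v.2)
  rw [e]
  exact prj_of_mem h2 (M v).2

/-- The restriction of a system. -/
def resSet (ha : a * a = 1) (R : Set (Module.End F V)) : Set (Module.End F (fxd a)) :=
  res ha '' {f | f ∈ R ∧ a * f = f * a}

include h2 in
theorem Pauli.restrict {R : Set (Module.End F V)} (P : Pauli R) (haR : a ∈ R) : Pauli (resSet ha R) where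
  scal c hc := ⟨c • 1, ⟨P.scal c hc, by simp⟩, by rw [map_smul, res_one h2 ha]⟩
  mul := by
    rintro _ ⟨f, ⟨hf, hfa⟩, rfl⟩ _ ⟨g, ⟨hg, hga⟩, rfl⟩
    exact ⟨f * g, ⟨P.mul f hf g hg, comm_mul hfa hga⟩, res_mul h2 ha hga⟩
  sq := by
    rintro _ ⟨f, ⟨hf, hfa⟩, rfl⟩
    obtain ⟨c, hc, h⟩ := P.sq f hf
    exact ⟨c, hc, by rw [← res_mul h2 ha hfa, h, map_smul, res_one h2 ha]⟩
  cac := by
    rintro _ ⟨f, ⟨hf, hfa⟩, rfl⟩ _ ⟨g, ⟨hg, hga⟩, rfl⟩
    rcases P.cac f hf g hg with h | h
    · exact Or.inl (by rw [← res_mul h2 ha hga, h, res_mul h2 ha hfa])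
    · exact Or.inr (by rw [← res_mul h2 ha hga, h, map_neg, res_mul h2 ha hfa])
  span := by
    refine eq_top_iff.2 fun M _ => ?_
    rw [← res_ext h2 ha M]
    have hX : ext ha M ∈ Submodule.span F R := P.span ▸ Submodule.mem_top
    generalize ext ha M = X at hX ⊢
    induction hX using Submodule.span_induction with
    | mem x hx =>
      rcases P.cac a haR x hx with h | h
      · exact Submodule.subset_span ⟨x, ⟨hx, h⟩, rfl⟩
      · rw [res_anti h2 ha h]; exact zero_mem _
    | zero => rw [map_zero]; exact zero_mem _
    | add x y _ _ hx hy => rw [map_add]; exact add_mem hx hy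
    | smul c x _ hx => rw [map_smul]; exact Submodule.smul_mem _ c hx

include h2 in
/-- An operator commuting with the involution is determined by its compressions to both eigenspaces. -/
theorem eq_of_res_eq {f g : (Module.End F V)} (hna : (-a) * (-a) = 1) (hf : a * f = f * a) (hg : a * g = g * a)
    (h1 : res ha f = res ha g) (h3 : res hna f = res hna g) : f = g := by
  refine LinearMap.ext fun v => ?_
  have hf' : -a * f = f * -a := by rw [neg_mul, mul_neg, hf]
  have hg' : -a * g = g * -a := by rw [neg_mul, mul_neg, hg]
  have hv : v = prj a v + prj (-a) v := by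
    simp [prj, smul_add]
    match_scalars <;> field_simp <;> norm_num
  have e1 : f (prj a v) = g (prj a v) := by
    have := congrArg (fun X : Module.End F (fxd a) => (X ⟨prj a v, prj_mem ha v⟩ : V)) h1
    simpa [res_apply_comm h2 ha hf, res_apply_comm h2 ha hg] using this
  have e2 : f (prj (-a) v) = g (prj (-a) v) := by
    have := congrArg (fun X : Module.End F (fxd (-a)) => (X ⟨prj (-a) v, prj_mem hna v⟩ : V)) h3
    simpa [res_apply_comm h2 hna hf', res_apply_comm h2 hna hg'] using this
  rw [hv, map_add, map_add, e1, e2]

end res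

end Cfsg.Agent.C6Two
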