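/-
Transvections as endomorphisms: generation of all transvections from one, and from two blocks.
Main results: `tvEl`, `AllTv`, `allTv_of_one`, `allTv_of_link`, `allTv_of_blocks`.
-/
import Cfsg.Agent.Lib.C6Two.Restrict

set_option autoImplicit false
set_option linter.unusedSectionVars false

namespace Cfsg.Agent.C6Two

open Module

variable {F : Type*} [Field F] {V : Type*} [AddCommGroup V] [Module F V]

/-- The endomorphism x ↦ x + φ(x) v. -/
def tvEl (v : V) (φ : V →ₗ[F] F) : Module.End F V := 1 + φ.smulRight v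

/-- All transvections belong to the set. -/
def AllTv (S : Set (Module.End F V)) : Prop := ∀ (v : V) (φ : V →ₗ[F] F), φ v = 0 → tvEl v φ ∈ S

/-- φ is an axis of the set at the centre v. -/
def Ax (S : Set (Module.End F V)) (v : V) (φ : V →ₗ[F] F) : Prop :=
  φ v = 0 ∧ ∀ c : F, tvEl v (c • φ) ∈ S

theorem tvEl_apply (v : V) (φ : V →ₗ[F] F) (x : V) : tvEl v φ x = x + φ x • v := by simp [tvEl]

theorem tvEl_zero (v : V) : tvEl v (0 : V →ₗ[F] F) = 1 :=
  LinearMap.ext fun x => by simp [tvEl_apply]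

theorem tvEl_zero_left (φ : V →ₗ[F] F) : tvEl (0 : V) φ = 1 :=
  LinearMap.ext fun x => by simp [tvEl_apply]

theorem tvEl_mul {v : V} {φ ψ : V →ₗ[F] F} (hψ : φ v = 0) :
    tvEl v φ * tvEl v ψ = tvEl v (φ + ψ) :=
  LinearMap.ext fun x => by
    simp [tvEl_apply, hψ, add_smul]
    abel

theorem tvEl_mul_left {v w : V} {φ : V →ₗ[F] F} (hw : φ w = 0) :
    tvEl v φ * tvEl w φ = tvEl (v + w) φ :=
  LinearMap.ext fun x => by
    simp [tvEl_apply, hw, smul_add]
    abel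

theorem tvEl_smul (v : V) (φ : V →ₗ[F] F) (c : F) : tvEl (c • v) φ = tvEl v (c • φ) :=
  LinearMap.ext fun x => by simp [tvEl_apply, smul_smul, mul_comm]

theorem tvEl_conj {g h : Module.End F V} (hgh : g * h = 1) (v : V) (φ : V →ₗ[F] F) :
    g * tvEl v φ * h = tvEl (g v) (φ ∘ₗ h) :=
  LinearMap.ext fun x => by
    have e : g (h x) = x := LinearMap.congr_fun hgh x
    simp [tvEl_apply, e]

theorem tvEl_inv {v : V} {φ : V →ₗ[F] F} (hv : φ v = 0) :
    tvEl v φ * tvEl v (-φ) = 1 ∧ tvEl v (-φ) * tvEl v φ = 1 :=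
  ⟨by rw [tvEl_mul hv, add_neg_cancel, tvEl_zero],
    by rw [tvEl_mul (by simp [hv]), neg_add_cancel, tvEl_zero]⟩

section axes

variable {S : Set (Module.End F V)} (hmul : ∀ x ∈ S, ∀ y ∈ S, x * y ∈ S)

include hmul in
theorem Ax.add {v : V} {φ ψ : V →ₗ[F] F} (h : Ax S v φ) (h' : Ax S v ψ) : Ax S v (φ + ψ) := by
  refine ⟨by simp [h.1, h'.1], fun c => ?_⟩
  rw [smul_add, ← tvEl_mul (by simp [h.1])]
  exact hmul _ (h.2 c) _ (h'.2 c)

include hmul in
theorem Ax.add_left {v w : V} {φ : V →ₗ[F] F} (h : Ax S v φ) (h' : Ax S w φ) : Ax S (v + w) φ := by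
  refine ⟨by simp [h.1, h'.1], fun c => ?_⟩
  rw [← tvEl_mul_left (by simp [h'.1])]
  exact hmul _ (h.2 c) _ (h'.2 c)

theorem Ax.smul {v : V} {φ : V →ₗ[F] F} (h : Ax S v φ) (c : F) : Ax S v (c • φ) :=
  ⟨by simp [h.1], fun d => by rw [smul_smul]; exact h.2 _⟩

theorem Ax.smul_left {v : V} {φ : V →ₗ[F] F} (h : Ax S v φ) (c : F) : Ax S (c • v) φ :=
  ⟨by simp [h.1], fun d => by rw [tvEl_smul, smul_smul]; exact h.2 _⟩

/-- Conjugation by a pair of inverse elements normalising the set. -/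
theorem Ax.conj {g h : Module.End F V} (hgh : g * h = 1) (hhg : h * g = 1)
    (hn : ∀ x ∈ S, g * x * h ∈ S) {v : V} {φ : V →ₗ[F] F} (hv : Ax S v φ) :
    Ax S (g v) (φ ∘ₗ h) := by
  refine ⟨?_, fun c => ?_⟩
  · have e : h (g v) = v := LinearMap.congr_fun hhg v
    simp [e, hv.1]
  · rw [← LinearMap.smul_comp, ← tvEl_conj hgh]
    exact hn _ (hv.2 c)

/-- Normalised by the transvection with centre w and axis ψ. -/
def TvNorm (S : Set (Module.End F V)) (w : V) (ψ : V →ₗ[F] F) : Prop :=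
  ψ w = 0 ∧ ∀ x ∈ S, tvEl w ψ * x * tvEl w (-ψ) ∈ S

theorem Ax.conj_tv {w v : V} {φ ψ : V →ₗ[F] F} (hn : TvNorm S w ψ) (hv : Ax S v φ) :
    Ax S (v + ψ v • w) (φ - φ w • ψ) := by
  have h := hv.conj (tvEl_inv hn.1).1 (tvEl_inv hn.1).2 hn.2
  rw [tvEl_apply] at h
  have e : φ ∘ₗ tvEl w (-ψ) = φ - φ w • ψ :=
    LinearMap.ext fun x => by simp [tvEl_apply, mul_comm]; ring
  rwa [e] at h

theorem exists_dual {v w : V} (hv : v ≠ 0) (hw : w ∉ Submodule.span F {v}) :
    ∃ χ : V →ₗ[F] F, χ v = 0 ∧ χ w = 1 := by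
  obtain ⟨f, hf, hf'⟩ := Submodule.exists_dual_map_eq_bot_of_notMem hw inferInstance
  refine ⟨(f w)⁻¹ • f, ?_, by simp [hf]⟩
  have : f v ∈ (Submodule.span F {v}).map f := ⟨v, Submodule.mem_span_singleton_self v, rfl⟩
  rw [hf'] at this
  simp [(Submodule.mem_bot F).1 this]

theorem ker_not_le {φ ψ : V →ₗ[F] F} (h : ∀ c : F, ψ ≠ c • φ) : ∃ u, φ u = 0 ∧ ψ u ≠ 0 := by
  by_contra hc
  push Not at hc
  by_cases hφ : ∀ x, φ x = 0
  · exact h 0 (LinearMap.ext fun x => by simp [hc x (hφ x)])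
  push Not at hφ
  obtain ⟨x, hx⟩ := hφ
  refine h (ψ x / φ x) (LinearMap.ext fun y => ?_)
  have h1 := hc (y - (φ y / φ x) • x) (by simp [hx])
  simp only [map_sub, map_smul, smul_eq_mul] at h1
  simp only [LinearMap.smul_apply, smul_eq_mul]
  field_simp at h1 ⊢
  linear_combination h1

include hmul in
/-- One axis and all transvections normalising give every transvection. -/
theorem allTv_of_one (hn : ∀ (w : V) (ψ : V →ₗ[F] F), ψ w = 0 → TvNorm S w ψ) (h1 : (1 : _) ∈ S)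
    {v₀ : V} {φ₀ : V →ₗ[F] F} (hv₀ : v₀ ≠ 0) (hφ₀ : φ₀ ≠ 0) (h : Ax S v₀ φ₀) : AllTv S := by
  have full₀ : ∀ φ : V →ₗ[F] F, φ v₀ = 0 → Ax S v₀ φ := by
    intro φ hφ
    by_cases hd : ∀ c : F, φ₀ ≠ c • φ
    · obtain ⟨u, hu, hu'⟩ := ker_not_le hd
      have h2 := h.conj_tv (hn u φ hu)
      rw [hφ, zero_smul, add_zero] at h2
      have h3 := (Ax.add hmul h (h2.smul (-1))).smul (φ₀ u)⁻¹
      convert h3 using 1
      match_scalars <;> field_simp <;> ring
    · push Not at hd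
      obtain ⟨c, hc⟩ := hd
      have hc0 : c ≠ 0 := by rintro rfl; exact hφ₀ (by simpa using hc)
      have h3 := h.smul c⁻¹
      rwa [hc, smul_smul, inv_mul_cancel₀ hc0, one_smul] at h3
  intro v φ hφ
  by_cases hv : v = 0
  · subst hv
    rw [tvEl_zero_left]; exact h1
  by_cases hd : v ∈ Submodule.span F {v₀}
  · obtain ⟨c, rfl⟩ := Submodule.mem_span_singleton.1 hd
    have hc0 : c ≠ 0 := by rintro rfl; exact hv (zero_smul _ _)
    simpa using ((full₀ φ (by simpa [hc0] using hφ)).smul_left c).2 1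
  · have hw : v₀ ∉ Submodule.span F {v - v₀} := by
      intro hm
      obtain ⟨c, hc⟩ := Submodule.mem_span_singleton.1 hm
      have hc0 : c ≠ 0 := by rintro rfl; exact hv₀ (by simpa using hc.symm)
      refine hd (Submodule.mem_span_singleton.2 ⟨c⁻¹ + 1, ?_⟩)
      have e : c • v = (1 + c) • v₀ := by rw [add_smul, one_smul]; nth_rewrite 1 [← hc]; module
      rw [show v = c⁻¹ • (c • v) by rw [inv_smul_smul₀ hc0], e, smul_smul]
      congr 1; field_simp
    have hne : v - v₀ ≠ 0 := sub_ne_zero.2 fun e =>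
      hd (by rw [e]; exact Submodule.mem_span_singleton_self _)
    obtain ⟨χ, hχ, hχ₀⟩ := exists_dual hne hw
    have hvt : φ v = 0 := hφ
    have key : ∀ ρ : V →ₗ[F] F, ρ v₀ = 0 → Ax S v (ρ - ρ (v - v₀) • χ) := fun ρ hρ => by
      have h2 := (full₀ ρ hρ).conj_tv (hn _ χ hχ)
      rwa [hχ₀, one_smul, add_sub_cancel] at h2
    -- every axis at v arises from one at v₀
    have h4 := key (φ + φ (v - v₀) • χ) (by
      simp [hχ₀, map_sub, hvt])
    have e : (φ + φ (v - v₀) • χ) - (φ + φ (v - v₀) • χ) (v - v₀) • χ = φ := by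
      simp [hχ, smul_eq_mul]
    rw [e] at h4
    simpa using h4.2 1

end axes

section blocks

variable {S : Set (Module.End F V)} (hmul : ∀ x ∈ S, ∀ y ∈ S, x * y ∈ S)
  (hinv : ∀ (w : V) (ψ : V →ₗ[F] F), ψ w = 0 → tvEl w ψ ∈ S → tvEl w (-ψ) ∈ S)
  (h2 : (2 : F) ≠ 0) {a : Module.End F V} (ha : a * a = 1)

/-- The transvections inside the eigenspaces of an involution lie in the set. -/
def BlockTv (S : Set (Module.End F V)) (a : Module.End F V) : Prop :=
  (∀ (v : V) (φ : V →ₗ[F] F), a v = v → φ ∘ₗ a = φ → φ v = 0 → Ax S v φ) ∧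
  (∀ (v : V) (φ : V →ₗ[F] F), a v = -v → φ ∘ₗ a = -φ → φ v = 0 → Ax S v φ)

theorem BlockTv.neg {S : Set (Module.End F V)} {a : Module.End F V} (h : BlockTv S a) :
    BlockTv S (-a) :=
  ⟨fun v φ hv hφ h0 => h.2 v φ (neg_eq_iff_eq_neg.1 hv)
      (by rw [LinearMap.comp_neg] at hφ; exact neg_eq_iff_eq_neg.1 hφ) h0,
    fun v φ hv hφ h0 => h.1 v φ (neg_inj.1 hv)
      (by rw [LinearMap.comp_neg] at hφ; exact neg_inj.1 hφ) h0⟩

include hmul hinv in
theorem tvNorm_of_mem {w : V} {ψ : V →ₗ[F] F} (h : Ax S w ψ) : TvNorm S w ψ := by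
  have h' : tvEl w ψ ∈ S := by simpa using h.2 1
  exact ⟨h.1, fun x hx => hmul _ (hmul _ h' _ hx) _ (hinv w ψ h.1 h')⟩

include h2 in
theorem eq_zero_of_eq_neg {W : Type*} [AddCommGroup W] [Module F W] {x : W} (h : x = -x) : x = 0 := by
  have : (2 : F) • x = 0 := by rw [two_smul]; nth_rewrite 2 [h]; exact add_neg_cancel x
  exact (smul_eq_zero.1 this).resolve_left h2

include hmul hinv h2 ha in
/-- A nonzero cross axis spreads to all cross axes of that direction. -/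
theorem cross_of_link (hB : BlockTv S a) {b : V} {ψ : V →ₗ[F] F} (hb : a b = -b) (hb0 : b ≠ 0)
    (hψ : ψ ∘ₗ a = ψ) (hψ0 : ψ ≠ 0) (hl : Ax S b ψ) {w : V} {φ : V →ₗ[F] F} (hw : a w = -w)
    (hφ : φ ∘ₗ a = φ) : Ax S w φ := by
  have kill : ∀ (θ : V →ₗ[F] F), θ ∘ₗ a = θ → ∀ x : V, a x = -x → θ x = 0 := fun θ hθ x hx => by
    have e := LinearMap.congr_fun hθ x
    rw [LinearMap.comp_apply, hx, map_neg] at e
    exact eq_zero_of_eq_neg h2 e.symm
  have hψw : Ax S w ψ := by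
    by_cases hd : w ∈ Submodule.span F {b}
    · obtain ⟨c, rfl⟩ := Submodule.mem_span_singleton.1 hd
      exact hl.smul_left c
    have hw0 : w ≠ 0 := fun e => hd (by rw [e]; exact zero_mem _)
    have hbw : b ∉ Submodule.span F {w} := by
      intro hm
      obtain ⟨c, hc⟩ := Submodule.mem_span_singleton.1 hm
      have hc0 : c ≠ 0 := by rintro rfl; exact hb0 (by simpa using hc.symm)
      exact hd (Submodule.mem_span_singleton.2 ⟨c⁻¹, by rw [← hc, inv_smul_smul₀ hc0]⟩)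
    obtain ⟨χ₀, hχw, hχb⟩ := exists_dual hw0 hbw
    set χ : V →ₗ[F] F := (2 : F)⁻¹ • (χ₀ - χ₀ ∘ₗ a) with hχ
    have e1 : χ ∘ₗ a = -χ := LinearMap.ext fun x => by
      have e : a (a x) = x := LinearMap.congr_fun ha x
      simp [hχ, e]; ring
    have e2 : χ w = 0 := by simp [hχ, hw, hχw]
    have e3 : χ b = 1 := by simp [hχ, hb, hχb]; field_simp; norm_num
    have h1 := hl.conj_tv (tvNorm_of_mem hmul hinv (hB.2 w χ hw e1 e2))
    rw [e3, one_smul, kill ψ hψ w hw, zero_smul, sub_zero] at h1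
    have h3 := Ax.add_left hmul h1 (hl.smul_left (-1))
    rwa [neg_one_smul, add_neg_cancel_comm] at h3
  by_cases hd : ∀ c : F, ψ ≠ c • φ
  · obtain ⟨u₀, hu, hu'⟩ := ker_not_le hd
    set u := (2 : F)⁻¹ • (u₀ + a u₀) with hudef
    have eu : a u = u := by
      have e : a (a u₀) = u₀ := LinearMap.congr_fun ha u₀
      simp [hudef, e, add_comm]
    have half : ∀ θ : V →ₗ[F] F, θ ∘ₗ a = θ → θ u = θ u₀ := fun θ hθ => by
      have e := LinearMap.congr_fun hθ u₀
      rw [LinearMap.comp_apply] at e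
      simp [hudef, e]; field_simp; ring
    have hφu : φ u = 0 := by rw [half φ hφ, hu]
    have h1 := hψw.conj_tv (tvNorm_of_mem hmul hinv (hB.1 u φ eu hφ hφu))
    rw [kill φ hφ w hw, zero_smul, add_zero] at h1
    have h3 := (Ax.add hmul hψw (h1.smul (-1))).smul (ψ u)⁻¹
    have hne : ψ u ≠ 0 := by rw [half ψ hψ]; exact hu'
    convert h3 using 1
    match_scalars <;> field_simp <;> ring
  · push Not at hd
    obtain ⟨c, hc⟩ := hd
    have hc0 : c ≠ 0 := by rintro rfl; exact hψ0 (by simpa using hc)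
    have h3 := hψw.smul c⁻¹
    rwa [hc, smul_smul, inv_mul_cancel₀ hc0, one_smul] at h3

include hmul hinv h2 ha in
/-- Block transvections and cross axes in both directions give every transvection. -/
theorem allTv_of_cross (hB : BlockTv S a) (h1 : (1 : Module.End F V) ∈ S)
    (hc1 : ∀ (w : V) (φ : V →ₗ[F] F), a w = -w → φ ∘ₗ a = φ → Ax S w φ)
    (hc2 : ∀ (w : V) (φ : V →ₗ[F] F), a w = w → φ ∘ₗ a = -φ → Ax S w φ) : AllTv S := by
  intro v φ hφ
  have aa : ∀ x : V, a (a x) = x := fun x => LinearMap.congr_fun ha x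
  have fullpart : ∀ x : V, (a x = x ∨ a x = -x) → ∀ ρ : V →ₗ[F] F, ρ x = 0 → Ax S x ρ := by
    intro x hx ρ hρ
    set p := (2 : F)⁻¹ • (ρ + ρ ∘ₗ a) with hp
    set n := (2 : F)⁻¹ • (ρ - ρ ∘ₗ a) with hn
    have e : ρ = p + n := by rw [hp, hn]; match_scalars <;> field_simp <;> norm_num
    have ep : p ∘ₗ a = p := LinearMap.ext fun y => by simp [hp, aa]; ring
    have en : n ∘ₗ a = -n := LinearMap.ext fun y => by simp [hn, aa]; ring
    rw [e]
    rcases hx with hx | hx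
    · exact Ax.add hmul (hB.1 x p hx ep (by simp [hp, hx, hρ])) (hc2 x n hx en)
    · exact Ax.add hmul (hc1 x p hx ep) (hB.2 x n hx en (by simp [hn, hx, hρ]))
  set x := (2 : F)⁻¹ • (v + a v) with hx
  set y := (2 : F)⁻¹ • (v - a v) with hy
  have ex : a x = x := by simp [hx, aa, add_comm]
  have ey : a y = -y := by simp [hy, aa, ← smul_neg]
  have hv : v = x + y := by rw [hx, hy]; match_scalars <;> field_simp <;> norm_num
  by_cases hx0 : x = 0
  · rw [hx0, zero_add] at hv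
    have h5 := (fullpart y (Or.inr ey) φ (by rw [← hv, hφ])).2 1
    rwa [one_smul, ← hv] at h5
  by_cases hy0 : y = 0
  · rw [hy0, add_zero] at hv
    have h5 := (fullpart x (Or.inl ex) φ (by rw [← hv, hφ])).2 1
    rwa [one_smul, ← hv] at h5
  have hxy : x ∉ Submodule.span F {y} := by
    intro hm
    obtain ⟨c, hc⟩ := Submodule.mem_span_singleton.1 hm
    have : a x = -x := by rw [← hc, map_smul, ey, smul_neg]
    exact hx0 (eq_zero_of_eq_neg h2 (ex.symm.trans this))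
  obtain ⟨χ, hχy, hχx⟩ := exists_dual hy0 hxy
  have hn := tvNorm_of_mem hmul hinv (fullpart y (Or.inr ey) χ hχy)
  have h4 := (fullpart x (Or.inl ex) (φ + φ y • χ) (by
    simp [hχx]; rw [← map_add, ← hv, hφ])).conj_tv hn
  rw [hχx, one_smul, ← hv] at h4
  have e : (φ + φ y • χ) - (φ + φ y • χ) y • χ = φ := by simp [hχy]
  rw [e] at h4
  simpa using h4.2 1

end blocks

end Cfsg.Agent.C6Two
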