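/-
A group containing all T(a) whose restriction to one eigenspace contains all transvections contains
all transvections. Main results: `Setup`, `FullTel`, `Setup.restrict`, `Setup.caseA`.
-/
import Cfsg.Agent.Lib.C6Two.Spread

set_option autoImplicit false
set_option linter.unusedSectionVars false

namespace Cfsg.Agent.C6Two

open Module

variable {F : Type*} [Field F] {V : Type*} [AddCommGroup V] [Module F V]

/-- A group of automorphisms (as a set) containing a system and all its elements T(a). -/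
structure Setup (R S : Set (Module.End F V)) (i : F) : Prop where
  pauli : Pauli R
  le : R ⊆ S
  mul : ∀ x ∈ S, ∀ y ∈ S, x * y ∈ S
  inv : ∀ x ∈ S, ∃ y ∈ S, x * y = 1 ∧ y * x = 1
  tel2 : ∀ a ∈ R, a * a = 1 → NS a → ∀ b ∈ R, b * b = 1 → NS b → tEl i a * tEl i b ∈ S
  sqrt : i * i = -1
  two : (2 : F) ≠ 0

theorem smul_mul_smul_comm' (e : F) :
    (e • (1 : Module.End F V)) * (e • 1) = (e * e) • 1 := by
  rw [smul_mul_smul_comm, mul_one]

/-- All elements T(a) are present. -/
def FullTel (R S : Set (Module.End F V)) (i : F) : Prop := ∀ a ∈ R, a * a = 1 → tEl i a ∈ S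

section

variable {R S : Set (Module.End F V)} {i : F} (hS : Setup R S i) {a : Module.End F V}

include hS

theorem Setup.one_mem : (1 : Module.End F V) ∈ S := hS.le hS.pauli.one_mem

theorem Setup.smul_mem {c : F} (hc : c ≠ 0) {x : Module.End F V} (hx : x ∈ S) : c • x ∈ S := by
  simpa using hS.mul _ (hS.le (hS.pauli.scal c hc)) _ hx

theorem Setup.inv_mem {x y : Module.End F V} (hx : x ∈ S) (h : x * y = 1) : y ∈ S := by
  obtain ⟨z, hz, -, hzx⟩ := hS.inv x hx
  have : y = z := by rw [← one_mul y, ← hzx, mul_assoc, h, mul_one]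
  rwa [this]

theorem Setup.hinv (w : V) (ψ : V →ₗ[F] F) (h : ψ w = 0) (hm : tvEl w ψ ∈ S) : tvEl w (-ψ) ∈ S :=
  hS.inv_mem hm (tvEl_inv h).1

theorem Setup.neg_invol (ha : a * a = 1) : (-a) * (-a) = 1 := by rw [neg_mul_neg, ha]

/-- The elements `c f` on the first eigenspace of a and trivial on the second, for `c = ± i`. -/
theorem Setup.kerElt_mem [FiniteDimensional F V] [Nontrivial V] (haR : a ∈ R) (ha : a * a = 1) (hns : NS a)
    {f : Module.End F V} (hf : f ∈ R) (hff : f * f = 1) (haf : a * f = f * a) (hnf : NS f) (hnaf : NS (a * f)) :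
    prj (-a) + i • (f * prj a) ∈ S := by
  have h2 := hS.two
  obtain ⟨w, hw, hww, hfw, haw⟩ := hS.pauli.exists_partner_two h2 hf haR haf.symm hnf (haf ▸ hnaf)
  set x := i • (f * w) with hx
  have hi0 : i ≠ 0 := fun e => by simpa [e] using hS.sqrt
  have hxR : x ∈ R := hS.pauli.smul_mem hi0 (hS.pauli.mul f hf w hw)
  have hxx : x * x = 1 := by
    rw [hx, smul_mul_assoc, mul_smul_comm, smul_smul, hS.sqrt, mul_assoc, ← mul_assoc w f w, anti_symm hfw,
      neg_mul, mul_assoc f w w, hww, mul_one, mul_neg, hff, neg_one_smul, neg_neg]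
  have hax : a * x = x * a := by rw [hx, mul_smul_comm, comm_mul haf haw, smul_mul_assoc]
  have inv2 : ∀ y : Module.End F V, a * y = y * a → y * y = 1 → (a * y) * (a * y) = 1 := fun y hy hyy => by
    rw [mul_assoc, ← mul_assoc y a y, ← hy, mul_assoc a y y, hyy, mul_one, ha]
  have hprod : ∀ y : Module.End F V, a * y = y * a → y * y = 1 →
      tEl i (-a) * tEl i y * tEl i (a * y) = (2 * (1 + i)) • (prj (-a) + y * prj a) := by
    intro y hy hyy
    have e2 : y * (a * y) = a := by rw [hy, ← mul_assoc, hyy, one_mul]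
    have e3 : a * (a * y) = y := by rw [← mul_assoc, ha, one_mul]
    have e0 : prj (-a) + y * prj a = (2 : F)⁻¹ • (1 - a + y + y * a + y - y) := by
      simp only [prj, mul_add, mul_smul_comm, mul_one, add_sub_cancel_right, smul_add, smul_sub, smul_neg]
      abel
    rw [e0, show (1 : Module.End F V) - a + y + y * a + y - y = 1 - a + y + a * y by rw [hy]; abel]
    simp only [tEl, mul_add, add_mul, one_mul, mul_one, smul_mul_assoc, mul_smul_comm, smul_smul,
      neg_mul, smul_neg, mul_assoc, e2, e3, mul_neg, ha, smul_add, smul_sub]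
    match_scalars <;> field_simp <;> grind [hS.sqrt]
  have hna := hS.pauli.neg_mem haR
  have hxw' : x * w = -(w * x) := by
    rw [hx, smul_mul_assoc, mul_smul_comm, ← mul_assoc, anti_symm hfw, neg_mul, mul_assoc, smul_neg, neg_neg]
  have hax' := hS.pauli.mul a haR x hxR
  have haw' := hS.pauli.mul a haR w hw
  have nx := hS.pauli.ns_of_anti h2 hxR hw hxw'
  have nax : NS (a * x) := hS.pauli.ns_of_anti h2 hax' hw (by
    rw [mul_assoc, hxw', mul_neg, ← mul_assoc, haw, mul_assoc])
  have nw := hS.pauli.ns_of_anti h2 hw hf (anti_symm hfw)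
  have naw : NS (a * w) := hS.pauli.ns_of_anti h2 haw' hf (by
    rw [mul_assoc, anti_symm hfw, mul_neg, ← mul_assoc, haf, mul_assoc])
  have hm := hS.mul _ (hS.mul _ (hS.tel2 _ hna (hS.neg_invol ha) hns.neg' x hxR hxx nx) _
    (hS.tel2 _ hax' (inv2 x hax hxx) nax _ hna (hS.neg_invol ha) hns.neg')) _
    (hS.tel2 w hw hww nw _ haw' (inv2 w haw hww) naw)
  rw [show tEl i (-a) * tEl i x * (tEl i (a * x) * tEl i (-a)) * (tEl i w * tEl i (a * w)) =
      (tEl i (-a) * tEl i x * tEl i (a * x)) * (tEl i (-a) * tEl i w * tEl i (a * w)) by simp only [mul_assoc],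
    hprod x hax hxx, hprod w haw hww, smul_mul_smul_comm] at hm
  have hpc : prj a * w = w * prj a ∧ prj (-a) * w = w * prj (-a) := by
    simp [prj, mul_add, add_mul, haw]
  have hxw : x * w = i • f := by rw [hx, smul_mul_assoc, mul_assoc, hww, mul_one]
  have e : (prj (-a) + x * prj a) * (prj (-a) + w * prj a) = prj (-a) + i • (f * prj a) := by
    have pp : prj a * prj a = prj a := prj_sq h2 ha
    have qq : prj (-a) * prj (-a) = prj (-a) := prj_sq h2 (hS.neg_invol ha)
    have pq : prj a * prj (-a) = 0 ∧ prj (-a) * prj a = 0 := by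
      constructor <;>
        (simp only [prj, mul_add, add_mul, smul_mul_assoc, mul_smul_comm, mul_one, one_mul, neg_mul, mul_neg,
          ha, smul_smul, smul_add, smul_neg]
         match_scalars <;> ring)
    rw [add_mul, mul_add, mul_add, qq, ← mul_assoc (prj (-a)), hpc.2, mul_assoc w, pq.2, mul_zero, add_zero,
      mul_assoc x, pq.1, mul_zero, zero_add, mul_assoc x, ← mul_assoc (prj a), hpc.1, mul_assoc w, pp, ← mul_assoc,
      hxw, smul_mul_assoc]
  rw [e] at hm
  have hi1 : (2 * (1 + i) : F) ≠ 0 :=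
    mul_ne_zero h2 fun h => h2 (by linear_combination hS.sqrt + (1 - i) * h)
  have h := hS.smul_mem (inv_ne_zero (mul_ne_zero hi1 hi1)) hm
  rwa [inv_smul_smul₀ (mul_ne_zero hi1 hi1)] at h

/-- The restriction contains all elements T(a). -/
theorem Setup.restrict_tel (haR : a ∈ R) (ha : a * a = 1) (hna : NS a) (hne : ∃ v : fxd a, v ≠ 0) :
    FullTel (resSet ha R) (resSet ha S) i := by
  rintro _ ⟨f, ⟨hf, hfa⟩, rfl⟩ hff
  obtain ⟨c, -, hcc⟩ := hS.pauli.sq f hf
  have hf1 : f * f = 1 := by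
    rw [← res_mul hS.two ha hfa, hcc, map_smul, res_one hS.two ha] at hff
    obtain ⟨v, hv⟩ := hne
    have h := LinearMap.congr_fun hff v
    simp only [LinearMap.smul_apply, Module.End.one_apply] at h
    rw [hcc, show c * c = 1 from smul_left_injective F hv (by simpa using h), one_smul]
  have hi1 : (1 + i : F) ≠ 0 := fun h => hS.two (by linear_combination hS.sqrt + (1 - i) * h)
  have hcf : a * tEl i f = tEl i f * a := (tEl_commute hfa.symm).symm
  by_cases hnf : NS f
  swap
  · simp only [NS, ne_eq, not_forall, not_not] at hnf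
    obtain ⟨e, he⟩ := hnf
    have hee : (e * e - 1) • (1 : Module.End F V) = 0 := by
      rw [sub_smul, one_smul, ← smul_mul_smul_comm' e, ← he, hf1, sub_self]
    have hV : (1 : Module.End F V) ≠ 0 := fun h => by
      obtain ⟨v, hv⟩ := hne
      exact hv (Subtype.ext (by simpa using LinearMap.congr_fun h (v : V)))
    have h' := sub_eq_zero.1 ((smul_eq_zero.1 hee).resolve_right hV)
    refine ⟨(1 + i * e) • (1 : Module.End F V), ⟨hS.smul_mem (fun h => hS.two ?_) hS.one_mem, by simp⟩, ?_⟩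
    · linear_combination (1 - i * e) * h + e * e * hS.sqrt - h'
    · rw [he, map_smul, map_smul, res_one hS.two ha, tEl, smul_smul, add_smul, one_smul]
  refine ⟨(1 + i)⁻¹ • (tEl i a * tEl i f),
    ⟨hS.smul_mem (inv_ne_zero hi1) (hS.tel2 a haR ha hna f hf hf1 hnf), ?_⟩, ?_⟩
  · rw [mul_smul_comm, smul_mul_assoc, comm_mul ((tEl_commute (i := i) (rfl : a * a = a * a)).symm) hcf]
  · rw [map_smul, res_mul hS.two ha hcf, res_tEl ha hS.two, res_self hS.two ha, res_tEl ha hS.two,
      show tEl i (1 : Module.End F (fxd a)) = (1 + i) • 1 by rw [tEl, add_smul, one_smul], smul_mul_assoc,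
      one_mul, inv_smul_smul₀ hi1]

/-- The setting passes to the restriction. -/
theorem Setup.restrict (haR : a ∈ R) (ha : a * a = 1) (hna : NS a) (hne : ∃ v : fxd a, v ≠ 0) :
    Setup (resSet ha R) (resSet ha S) i :=
  have hmul : ∀ x ∈ resSet ha S, ∀ y ∈ resSet ha S, x * y ∈ resSet ha S := by
    rintro _ ⟨f, ⟨hf, hfa⟩, rfl⟩ _ ⟨g, ⟨hg, hga⟩, rfl⟩
    exact ⟨f * g, ⟨hS.mul f hf g hg, comm_mul hfa hga⟩, res_mul hS.two ha hga⟩
  { pauli := hS.pauli.restrict hS.two ha haR
    le := by
      rintro _ ⟨f, ⟨hf, hfa⟩, rfl⟩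
      exact ⟨f, ⟨hS.le hf, hfa⟩, rfl⟩
    mul := hmul
    inv := by
      rintro _ ⟨f, ⟨hf, hfa⟩, rfl⟩
      obtain ⟨g, hg, h1, h3⟩ := hS.inv f hf
      have hga : a * g = g * a := by
        calc a * g = (g * f) * (a * g) := by rw [h3, one_mul]
          _ = g * ((f * a) * g) := by simp only [mul_assoc]
          _ = g * ((a * f) * g) := by rw [hfa]
          _ = g * a * (f * g) := by simp only [mul_assoc]
          _ = g * a := by rw [h1, mul_one]
      exact ⟨res ha g, ⟨g, ⟨hg, hga⟩, rfl⟩, by rw [← res_mul hS.two ha hga, h1, res_one hS.two ha],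
        by rw [← res_mul hS.two ha hfa, h3, res_one hS.two ha]⟩
    tel2 := fun x hx hxx _ y hy hyy _ =>
      hmul _ (hS.restrict_tel haR ha hna hne x hx hxx) _ (hS.restrict_tel haR ha hna hne y hy hyy)
    sqrt := hS.sqrt
    two := hS.two }

/-- The block of the restriction: elements trivial on the other eigenspace. -/
def kerSet (ha : a * a = 1) (S : Set (Module.End F V)) : Set (Module.End F (fxd a)) :=
  res ha '' {g | g ∈ S ∧ a * g = g * a ∧ g * ((2 : F)⁻¹ • (1 - a)) = (2 : F)⁻¹ • (1 - a)}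

/-- A nontrivial involution on the eigenspace and all transvections in the restriction give all
transvections in the kernel of restriction to the other eigenspace. -/
theorem Setup.allTv_kerSet [FiniteDimensional F V] [Nontrivial V] (haR : a ∈ R) (ha : a * a = 1) (hnsa : NS a)
    (hall : AllTv (resSet ha S))
    {f : Module.End F V} (hf : f ∈ R) (hff : f * f = 1) (haf : a * f = f * a)
    (hns : NS (res ha f)) : AllTv (kerSet ha S) := by
  have h2 := hS.two
  set q := (2 : F)⁻¹ • (1 - a) with hq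
  have hqa : ∀ g, a * g = g * a → q * g = g * q := fun g hg => by
    simp [hq, sub_mul, mul_sub, hg]
  have hmul : ∀ x ∈ kerSet ha S, ∀ y ∈ kerSet ha S, x * y ∈ kerSet ha S := by
    rintro _ ⟨g, ⟨hg, hga, hgq⟩, rfl⟩ _ ⟨h, ⟨hh, hha, hhq⟩, rfl⟩
    exact ⟨g * h, ⟨hS.mul g hg h hh, comm_mul hga hha, by rw [mul_assoc, hhq, hgq]⟩,
      res_mul h2 ha hha⟩
  have h1 : (1 : Module.End F (fxd a)) ∈ kerSet ha S :=
    ⟨1, ⟨hS.one_mem, by simp, by simp⟩, res_one h2 ha⟩
  have hnorm : ∀ x ∈ resSet ha S, ∀ y ∈ resSet ha S, x * y = 1 → y * x = 1 → ∀ k ∈ kerSet ha S,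
      x * k * y ∈ kerSet ha S := by
    rintro _ ⟨g, ⟨hg, hga⟩, rfl⟩ _ ⟨h, ⟨-, hha⟩, rfl⟩ hxy - _ ⟨k, ⟨hk, hka, hkq⟩, rfl⟩
    obtain ⟨g', hg', e1, e2⟩ := hS.inv g hg
    have hg'a : a * g' = g' * a := by
      calc a * g' = (g' * g) * (a * g') := by rw [e2, one_mul]
        _ = g' * ((g * a) * g') := by simp only [mul_assoc]
        _ = g' * ((a * g) * g') := by rw [hga]
        _ = g' * a * (g * g') := by simp only [mul_assoc]
        _ = g' * a := by rw [e1, mul_one]
    have e3 : res ha h = res ha g' := by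
      rw [← one_mul (res ha h), ← res_one h2 ha, ← e2, res_mul h2 ha hga, mul_assoc, hxy, mul_one]
    refine ⟨g * k * g', ⟨hS.mul _ (hS.mul g hg k hk) _ hg', comm_mul (comm_mul hga hka) hg'a, ?_⟩, ?_⟩
    · rw [mul_assoc _ g' q, ← hqa _ hg'a, mul_assoc g k, ← mul_assoc k q, hkq, ← mul_assoc,
        ← hqa g hga, mul_assoc, e1, mul_one]
    · rw [res_mul h2 ha hg'a, res_mul h2 ha hka, e3]
  set f' := res ha f with hf'
  have hf2 : f' * f' = 1 := by rw [hf', ← res_mul h2 ha haf, hff, res_one h2 ha]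
  have ff' : ∀ x : fxd a, f' (f' x) = x := fun x => LinearMap.congr_fun hf2 x
  have hnf : NS f ∧ NS (a * f) := ⟨fun c hc => hns c (by rw [hf', hc, map_smul, res_one h2 ha]), fun c hc => hns c (by
    rw [hf', ← one_mul (res ha f), ← res_self h2 ha, ← res_mul h2 ha haf, hc, map_smul, res_one h2 ha,
      res_self h2 ha])⟩
  have hna := hS.neg_invol ha
  have hpa : a * prj a = prj a * a := by simp [prj, mul_add, add_mul]
  have hqa' : a * prj (-a) = prj (-a) * a := by simp [prj, mul_add, add_mul]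
  have hE : ∀ g : Module.End F V, g ∈ R → g * g = 1 → a * g = g * a → NS g → NS (a * g) →
      i • res ha g ∈ kerSet ha S := by
    intro g hg hgg hag hng hnag
    refine ⟨prj (-a) + i • (g * prj a), ⟨hS.kerElt_mem haR ha hnsa hg hgg hag hng hnag, ?_, ?_⟩, ?_⟩
    · rw [mul_add, add_mul, hqa', mul_smul_comm, comm_mul hag hpa, smul_mul_assoc]
    · simp only [hq, prj, mul_add, add_mul, mul_sub, sub_mul, mul_one, one_mul, mul_smul_comm, smul_mul_assoc,
        smul_smul, ha, neg_mul, mul_assoc, smul_add, smul_sub, smul_neg]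
      match_scalars <;> field_simp <;> ring
    · have p1 : res ha (prj a) = 1 := by
        simp [prj, res_one h2 ha, res_self h2 ha]
        match_scalars <;> field_simp <;> norm_num
      have p2 : res ha (prj (-a)) = 0 := by simp [prj, res_one h2 ha, res_self h2 ha]
      rw [map_add, map_smul, res_mul h2 ha hpa, p1, p2, mul_one, zero_add]
  have hfK : i • f' ∈ kerSet ha S := hE f hf hff haf hnf.1 hnf.2
  have hfK' : (-i) • f' ∈ kerSet ha S := by
    have h := hE (-f) (hS.pauli.neg_mem hf) (by rw [neg_mul_neg, hff]) (by rw [mul_neg, neg_mul, haf])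
      hnf.1.neg' (by rw [mul_neg]; exact hnf.2.neg')
    rwa [map_neg, smul_neg, ← neg_smul, ← hf'] at h
  obtain ⟨v, hfv, hv0⟩ : ∃ v : fxd a, f' v = v ∧ v ≠ 0 := by
    by_contra hc
    push Not at hc
    refine hns (-1) (LinearMap.ext fun x => ?_)
    have := hc (x + f' x) (by rw [map_add, ff', add_comm])
    simpa using eq_neg_of_add_eq_zero_right this
  obtain ⟨φ, hφf, hφ0⟩ : ∃ φ : fxd a →ₗ[F] F, φ ∘ₗ f' = -φ ∧ φ ≠ 0 := by
    by_contra hc
    push Not at hc
    refine hns 1 (LinearMap.ext fun x => ?_)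
    rw [one_smul, Module.End.one_apply, ← sub_eq_zero, ← Module.forall_dual_apply_eq_zero_iff F]
    intro χ
    have h3 := LinearMap.congr_fun (hc (χ ∘ₗ f' - χ) (LinearMap.ext fun y => by simp [ff'])) x
    simpa using h3
  have hφv : φ v = 0 := by
    have e := LinearMap.congr_fun hφf v
    rw [LinearMap.comp_apply, hfv] at e
    exact eq_zero_of_eq_neg h2 e
  refine allTv_of_one hmul (fun w ψ hψ => ⟨hψ, fun x hx => hnorm _ (hall w ψ hψ) _
    (hall w (-ψ) (by simp [hψ])) (tvEl_inv hψ).1 (tvEl_inv hψ).2 x hx⟩) h1 hv0 hφ0 ⟨hφv, fun c => ?_⟩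
  have h3 : tvEl v ((c / 2) • φ) * (i • f') * tvEl v (-((c / 2) • φ)) ∈ kerSet ha S :=
    hnorm _ (hall v _ (by simp [hφv])) _ (hall v _ (by simp [hφv]))
      (tvEl_inv (by simp [hφv])).1 (tvEl_inv (by simp [hφv])).2 _ hfK
  have h4 := hmul _ h3 _ hfK'
  simp only [mul_smul_comm, smul_mul_assoc, smul_smul] at h4
  rw [show -i * i = (1 : F) by linear_combination -hS.sqrt, one_smul] at h4
  rw [mul_assoc, mul_assoc, ← mul_assoc f', tvEl_conj hf2, hfv, tvEl_mul (by simp [hφv])] at h4
  convert h4 using 2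
  rw [LinearMap.neg_comp, LinearMap.smul_comp, hφf]
  match_scalars
  field_simp; ring

/-- Blocks from the kernel set. -/
theorem Setup.blockPlus (ha : a * a = 1) (hk : AllTv (kerSet ha S)) (v : V) (φ : V →ₗ[F] F)
    (hv : a v = v) (hφ : φ ∘ₗ a = φ) (h0 : φ v = 0) : Ax S v φ := by
  refine ⟨h0, fun c => ?_⟩
  obtain ⟨g, ⟨hg, hga, hgq⟩, hres⟩ :=
    hk ⟨v, mem_fxd.2 hv⟩ ((c • φ).comp (fxd a).subtype) (by simp [h0])
  have : g = tvEl v (c • φ) := by
    refine LinearMap.ext fun x => ?_
    have hdec : x = prj a x + ((2 : F)⁻¹ • (1 - a)) x := by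
      simp [prj]
      match_scalars <;> field_simp [hS.two] <;> norm_num
    have e1 : g (prj a x) = tvEl v (c • φ) (prj a x) := by
      have := congrArg (fun X : Module.End F (fxd a) => (X ⟨prj a x, prj_mem ha x⟩ : V)) hres
      simpa [res_apply_comm hS.two ha hga, tvEl_apply] using this
    have e2 : φ (((2 : F)⁻¹ • (1 - a)) x) = 0 := by
      have e := LinearMap.congr_fun hφ x
      rw [LinearMap.comp_apply] at e
      simp [e, map_sub]
    have e3 : g (((2 : F)⁻¹ • (1 - a)) x) = ((2 : F)⁻¹ • (1 - a)) x := LinearMap.congr_fun hgq x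
    rw [hdec, map_add, map_add, e1, e3, tvEl_apply v _ (((2 : F)⁻¹ • (1 - a)) x),
      LinearMap.smul_apply c φ, e2, smul_zero, zero_smul, add_zero]
  exact this ▸ hg

theorem Setup.ax_conj {g h : Module.End F V} (hg : g ∈ S) (hgh : g * h = 1) (hhg : h * g = 1)
    {v : V} {φ : V →ₗ[F] F} (hv : Ax S v φ) : Ax S (g v) (φ ∘ₗ h) :=
  hv.conj hgh hhg fun _ hx => hS.mul _ (hS.mul g hg _ hx) _ (hS.inv_mem hg hgh)

variable [FiniteDimensional F V] [Nontrivial V]

set_option maxHeartbeats 3200000 in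
/-- All transvections of one restriction give all transvections. -/
theorem Setup.caseA (haR : a ∈ R) (ha : a * a = 1) (hnsa : NS a) (hall : AllTv (resSet ha S))
    {f : Module.End F V} (hf : f ∈ R) (hff : f * f = 1) (haf : a * f = f * a)
    (hns : NS (res ha f)) : AllTv S := by
  have h2 := hS.two
  have hplus := hS.blockPlus ha (hS.allTv_kerSet haR ha hnsa hall hf hff haf hns)
  have hnsf : NS (a * f) := fun c hc => hns c (by
    rw [← one_mul (res ha f), ← res_self h2 ha, ← res_mul h2 ha haf, hc, map_smul, res_one h2 ha, res_self h2 ha])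
  obtain ⟨b, hb, hbb, hab, hfb⟩ := hS.pauli.exists_partner_two h2 haR hf haf hnsa hnsf
  have hba : b * a = -(a * b) := anti_symm hab
  have bb : ∀ x : V, b (b x) = x := fun x => LinearMap.congr_fun hbb x
  have aa : ∀ x : V, a (a x) = x := fun x => LinearMap.congr_fun ha x
  have ab : ∀ x : V, a (b x) = -b (a x) := fun x => LinearMap.congr_fun hab x
  have hB : BlockTv S a := by
    refine ⟨hplus, fun v φ hv hφ h0 => ?_⟩
    have h := hS.ax_conj (hS.le hb) hbb hbb (hplus (b v) (φ ∘ₗ b) (by rw [ab, hv, map_neg, neg_neg])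
      (LinearMap.ext fun x => by
        have e := LinearMap.congr_fun hφ (b x)
        rw [LinearMap.comp_apply, ab, map_neg, LinearMap.neg_apply, neg_inj] at e
        simpa using e) (by simp [bb, h0]))
    rw [bb, LinearMap.comp_assoc] at h
    rwa [show (b ∘ₗ b : V →ₗ[F] V) = LinearMap.id from hbb, LinearMap.comp_id] at h
  -- transfer the blocks to the partner
  set y := i • (a * b) with hy
  have hyR : y ∈ R := hS.pauli.smul_mem (fun e => by simpa [e] using hS.sqrt) (hS.pauli.mul a haR b hb)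
  have e_aba : a * (b * a) = -b := by rw [hba, mul_neg, ← mul_assoc, ha, one_mul]
  have hyy : y * y = 1 := by
    rw [hy, smul_mul_assoc, mul_smul_comm, smul_smul, hS.sqrt, mul_assoc, ← mul_assoc b a b, hba,
      neg_mul, mul_assoc, hbb, mul_one, mul_neg, ha, smul_neg, neg_smul, one_smul, neg_neg]
  have hya : y * a = -(a * y) := by
    rw [hy, smul_mul_assoc, mul_smul_comm, mul_assoc, e_aba, ← mul_assoc, ha, one_mul, smul_neg]
  have hconj : tEl i y * a = b * tEl i y := by
    rw [tEl_conj hS.sqrt hyy hya]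
    congr 1
    rw [hy, smul_mul_assoc, smul_smul, hS.sqrt, mul_assoc, e_aba, smul_neg, neg_smul, one_smul, neg_neg]
  have hyf : y * f = f * y := by
    rw [hy, smul_mul_assoc, mul_smul_comm, comm_mul haf.symm hfb]
  set t := tEl i y * tEl i f with ht
  have htS : t ∈ S := hS.tel2 y hyR hyy (hS.pauli.ns_of_anti h2 hyR haR hya) f hf hff
    (fun c hc => hns c (by rw [hc, map_smul, res_one h2 ha]))
  have hconj : t * a = b * t := by
    rw [ht, mul_assoc, tEl_commute haf.symm, ← mul_assoc, hconj, mul_assoc]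
  set t' := ((2 : F)⁻¹ * (2 : F)⁻¹) • (tEl (-i) f * tEl (-i) y) with ht'
  have hneg : ∀ {z : Module.End F V}, z * z = 1 → tEl (-i) z * tEl i z = (2 : F) • 1 := fun hz => by
    have := tEl_mul_neg (i := -i) (by linear_combination hS.sqrt) hz
    rwa [neg_neg] at this
  have h44 : (2 : F)⁻¹ * (2 : F)⁻¹ * 2 * 2 = 1 := by field_simp
  have htt : t * t' = 1 := by
    rw [ht, ht', mul_smul_comm, mul_assoc, ← mul_assoc (tEl i f), tEl_mul_neg hS.sqrt hff, smul_one_mul,
      mul_smul_comm, tEl_mul_neg hS.sqrt hyy, smul_smul, smul_smul, h44, one_smul]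
  have htt' : t' * t = 1 := by
    rw [ht, ht', smul_mul_assoc, mul_assoc, ← mul_assoc _ (tEl i y), hneg hyy, smul_one_mul,
      mul_smul_comm, hneg hff, smul_smul, smul_smul, h44, one_smul]
  have hBb : ∀ (v : V) (φ : V →ₗ[F] F), b v = v → φ ∘ₗ b = φ → φ v = 0 → Ax S v φ := by
    intro v φ hv hφ h0
    have e1 : a * t' = t' * b := by
      calc a * t' = (t' * t) * a * t' := by rw [htt', one_mul]
        _ = t' * (t * a) * t' := by simp only [mul_assoc]
        _ = t' * b * (t * t') := by rw [hconj]; simp only [mul_assoc]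
        _ = t' * b := by rw [htt, mul_one]
    have h := hS.ax_conj htS htt htt'
      (hplus (t' v) (φ ∘ₗ t) (by
        have e := LinearMap.congr_fun e1 v
        simpa [hv] using e)
        (by rw [LinearMap.comp_assoc]
            rw [show (t ∘ₗ a : V →ₗ[F] V) = b ∘ₗ t from hconj, ← LinearMap.comp_assoc, hφ])
        (by
          have e : t (t' v) = v := LinearMap.congr_fun htt v
          simp [e, h0]))
    have e : t (t' v) = v := LinearMap.congr_fun htt v
    rw [e, LinearMap.comp_assoc, show (t ∘ₗ t' : V →ₗ[F] V) = LinearMap.id from htt,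
      LinearMap.comp_id] at h
    exact h
  -- the link
  have ff : ∀ x : V, f (f x) = x := fun x => LinearMap.congr_fun hff x
  have af : ∀ x : V, a (f x) = f (a x) := fun x => LinearMap.congr_fun haf x
  have fb : ∀ x : V, f (b x) = b (f x) := fun x => LinearMap.congr_fun hfb x
  obtain ⟨u, hau, hfu, hu0⟩ : ∃ u : V, a u = u ∧ f u = u ∧ u ≠ 0 := by
    by_contra hc
    push Not at hc
    refine hns (-1) (LinearMap.ext fun x => Subtype.ext ?_)
    rw [res_apply_comm h2 ha haf]
    have := hc ((x : V) + f x) (by rw [map_add, af, mem_fxd.1 x.2]) (by rw [map_add, ff, add_comm])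
    simpa using eq_neg_of_add_eq_zero_right this
  obtain ⟨ψ, hψa, hψf, hψ0⟩ : ∃ ψ : V →ₗ[F] F, ψ ∘ₗ a = ψ ∧ ψ ∘ₗ f = -ψ ∧ ψ ≠ 0 := by
    by_contra hc
    push Not at hc
    refine hns 1 (LinearMap.ext fun x => Subtype.ext ?_)
    rw [res_apply_comm h2 ha haf, one_smul, Module.End.one_apply, ← sub_eq_zero,
      ← Module.forall_dual_apply_eq_zero_iff F]
    intro χ
    have h3 := LinearMap.congr_fun (hc (χ ∘ₗ f + χ ∘ₗ f ∘ₗ a - χ - χ ∘ₗ a)
      (LinearMap.ext fun z => by simp [aa]; ring)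
      (LinearMap.ext fun z => by simp [ff, af]; ring)) x
    have h5 : (2 : F) * (χ (f x) - χ x) = 0 := by
      simp [mem_fxd.1 x.2] at h3; linear_combination h3
    simpa using (mul_eq_zero.1 h5).resolve_left h2
  have hψu : ψ u = 0 := by
    have e := LinearMap.congr_fun hψf u
    rw [LinearMap.comp_apply, hfu] at e
    exact eq_zero_of_eq_neg h2 e
  have hψbu : ψ (b u) = 0 := by
    have e := LinearMap.congr_fun hψa (b u)
    rw [LinearMap.comp_apply, ab, hau, map_neg] at e
    exact eq_zero_of_eq_neg h2 e.symm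
  have hA1 : Ax S (u + b u) (ψ + ψ ∘ₗ b) :=
    hBb _ _ (by rw [map_add, bb, add_comm]) (LinearMap.ext fun z => by simp [bb, add_comm])
      (by simp [bb, hψu, hψbu])
  have e5 : f * (a * f) = a := by rw [haf, ← mul_assoc, hff, one_mul]
  have hnf : NS f := fun c hc => hns c (by rw [hc, map_smul, res_one h2 ha])
  have e6 : a * (a * f) = f := by rw [← mul_assoc, ha, one_mul]
  have hKS : ∀ c : F, c = i ∨ c = -i → (2 : F)⁻¹ • (1 + f + c • (a * (1 - f))) ∈ S := by
    intro c hc
    have hm := hS.mul _ (hS.kerElt_mem haR ha hnsa (hS.pauli.neg_mem hf) (by rw [neg_mul_neg, hff])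
      (by rw [mul_neg, neg_mul, haf]) hnf.neg' (by rw [mul_neg]; exact hnsf.neg')) _
      (hS.smul_mem (inv_ne_zero h2) (hS.tel2 a haR ha hnsa f hf hff hnf))
    have e : (prj (-a) + i • ((-f) * prj a)) * ((2 : F)⁻¹ • (tEl i a * tEl i f)) =
        (2 : F)⁻¹ • (1 + f + i • (a * (1 - f))) := by
      simp only [prj, tEl, mul_add, add_mul, mul_sub, mul_one, one_mul, mul_smul_comm, smul_mul_assoc, smul_smul,
        smul_add, smul_sub, neg_mul, mul_neg, smul_neg, mul_assoc, ha, hff, e5, e6, ← haf]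
      match_scalars <;> field_simp <;> grind [hS.sqrt]
    rw [e] at hm
    rcases hc with rfl | rfl
    · exact hm
    · refine hS.inv_mem hm ?_
      simp only [mul_add, add_mul, mul_sub, sub_mul, mul_one, one_mul, mul_smul_comm, smul_mul_assoc, smul_smul,
        smul_add, smul_sub, mul_assoc, ha, hff, e5, e6, ← haf]
      match_scalars <;> field_simp <;> grind [hS.sqrt]
  have hA2 : Ax S (u + b u) (ψ - ψ ∘ₗ b) := by
    set K := (2 : F)⁻¹ • (1 + f + i • (a * (1 - f))) with hK
    set K' := (2 : F)⁻¹ • (1 + f + (-i) • (a * (1 - f))) with hK'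
    have hKK : K * K' = 1 ∧ K' * K = 1 := by
      constructor <;>
      · simp only [hK, hK', mul_add, add_mul, mul_sub, sub_mul, mul_one, one_mul, mul_smul_comm, smul_mul_assoc,
          smul_smul, smul_add, smul_sub, mul_assoc, ha, hff, e5, e6, ← haf]
        match_scalars <;> field_simp <;> grind [hS.sqrt]
    have h3 := (hS.ax_conj (hKS i (Or.inl rfl)) hKK.1 hKK.2 hA1).smul i
    have e1 : K (u + b u) = u + b u := by
      simp [hK, map_add, hau, hfu, ab, fb]
      match_scalars <;> field_simp <;> ring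
    have e2 : i • ((ψ + ψ ∘ₗ b) ∘ₗ K') = ψ - ψ ∘ₗ b := LinearMap.ext fun z => by
      have p1 := fun w => LinearMap.congr_fun hψa w
      have p2 := fun w => LinearMap.congr_fun hψf w
      simp only [LinearMap.comp_apply, LinearMap.neg_apply] at p1 p2
      have q1 : ψ (b (f z)) = -ψ (b z) := by rw [← fb, p2]
      have q2 : ψ (b (a z)) = -ψ (b z) := by
        rw [show b (a z) = -a (b z) by rw [ab, neg_neg], map_neg, p1]
      have q3 : ψ (b (a (f z))) = ψ (b z) := by
        rw [show b (a (f z)) = -a (b (f z)) by rw [ab, neg_neg], map_neg, p1, q1, neg_neg]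
      simp [hK', p1, p2, q1, q2, q3]
      field_simp
      grind [hS.sqrt]
    rwa [e1, e2] at h3
  have hl : Ax S (b u) ψ := by
    have h3 := (Ax.add hS.mul hA1 hA2).smul (2 : F)⁻¹
    rw [show (2 : F)⁻¹ • (ψ + ψ ∘ₗ b + (ψ - ψ ∘ₗ b)) = ψ by match_scalars <;> field_simp <;> ring] at h3
    have h4 := Ax.add_left hS.mul h3 ((hB.1 u ψ hau hψa hψu).smul_left (-1))
    rwa [neg_one_smul, add_neg_cancel_comm] at h4
  have hc1 : ∀ (w : V) (φ : V →ₗ[F] F), a w = -w → φ ∘ₗ a = φ → Ax S w φ := fun w φ hw hφ =>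
    cross_of_link hS.mul hS.hinv h2 ha hB (by rw [ab, hau])
      (fun e => hu0 (by rw [← bb u, e, map_zero])) hψa hψ0 hl hw hφ
  refine allTv_of_cross hS.mul hS.hinv h2 ha hB hS.one_mem hc1 fun w φ hw hφ => ?_
  have h3 := hS.ax_conj (hS.le hb) hbb hbb (hc1 (b w) (φ ∘ₗ b) (by rw [ab, hw])
    (LinearMap.ext fun z => by
      have e := LinearMap.congr_fun hφ (b z)
      rw [LinearMap.comp_apply, ab, map_neg, LinearMap.neg_apply, neg_inj] at e
      simpa using e))
  rw [bb, LinearMap.comp_assoc] at h3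
  rwa [show (b ∘ₗ b : V →ₗ[F] V) = LinearMap.id from hbb, LinearMap.comp_id] at h3

end

end Cfsg.Agent.C6Two
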