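/-
The two-dimensional matrix algebra spanned by an involution and an anticommuting element, and the
subgroup of GL_2 mapped into a group. Main results: `slotHom`, `slotHom_injective`, `slotGroup`,
`Setup.slot_full`, `Setup.allTv_of_slot_surjective`.
-/
import Cfsg.Agent.Lib.C6Two.CaseA
import Cfsg.Agent.Lib.C6Two.SlotDickson

set_option autoImplicit false
set_option linter.unusedSectionVars false

namespace Cfsg.Agent.C6Two

open Matrix
open Cfsg.Agent

variable {F : Type*} [Field F] {V : Type*} [AddCommGroup V] [Module F V]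

/-- An involution and an element anticommuting with it whose square is a nonzero scalar. -/
structure SlotPair (z α : Module.End F V) (d : F) : Prop where
  two : (2 : F) ≠ 0
  sq : z * z = 1
  anti : z * α = -(α * z)
  sqα : α * α = d • 1
  d0 : d ≠ 0

variable {z α : Module.End F V} {d : F}

/-- The image of a 2 × 2 matrix. -/
def slotMap (z α : Module.End F V) (d : F) (M : Matrix (Fin 2) (Fin 2) F) : Module.End F V :=
  M 0 0 • prj z + M 1 1 • prj (-z) + M 1 0 • (α * prj z) + (M 0 1 * d⁻¹) • (α * prj (-z))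

theorem SlotPair.rel (h : SlotPair z α d) :
    prj z * prj z = prj z ∧ prj (-z) * prj (-z) = prj (-z) ∧ prj z * prj (-z) = 0 ∧
      prj (-z) * prj z = 0 ∧ prj z * α = α * prj (-z) ∧ prj (-z) * α = α * prj z := by
  have h2 := h.two
  have e1 : z * (α * z) = -α := by rw [← mul_assoc, h.anti, neg_mul, mul_assoc, h.sq, mul_one]
  refine ⟨?_, ?_, ?_, ?_, ?_, ?_⟩ <;>
    simp only [prj, mul_add, add_mul, smul_mul_assoc, mul_smul_comm, mul_one, one_mul, neg_mul, mul_neg,
      h.sq, h.anti, smul_smul, smul_add, neg_neg, smul_neg] <;>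
    match_scalars <;> field_simp <;> ring

theorem slotMap_one (h : SlotPair z α d) : slotMap z α d 1 = 1 := by
  have h2 := h.two
  simp [slotMap, prj]
  match_scalars <;> field_simp <;> ring

theorem slotMap_smul (c : F) (M : Matrix (Fin 2) (Fin 2) F) :
    slotMap z α d (c • M) = c • slotMap z α d M := by
  simp only [slotMap, Matrix.smul_apply, smul_eq_mul, smul_add, smul_smul, mul_assoc]

theorem slotMap_add (M N : Matrix (Fin 2) (Fin 2) F) :
    slotMap z α d (M + N) = slotMap z α d M + slotMap z α d N := by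
  simp only [slotMap, Matrix.add_apply, add_mul, add_smul]; abel

theorem slotMap_mul (h : SlotPair z α d) (M N : Matrix (Fin 2) (Fin 2) F) :
    slotMap z α d (M * N) = slotMap z α d M * slotMap z α d N := by
  obtain ⟨pp, qq, pq, qp, pa, qa⟩ := h.rel
  have hd := h.d0
  have t1 : ∀ X, prj z * (α * X) = α * (prj (-z) * X) := fun X => by rw [← mul_assoc, pa, mul_assoc]
  have t2 : ∀ X, prj (-z) * (α * X) = α * (prj z * X) := fun X => by rw [← mul_assoc, qa, mul_assoc]
  have t3 : ∀ X, α * (α * X) = d • X := fun X => by rw [← mul_assoc, h.sqα, smul_mul_assoc, one_mul]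
  simp only [slotMap, Matrix.mul_apply, Fin.sum_univ_two, mul_add, add_mul, smul_mul_assoc,
    mul_smul_comm, mul_assoc, t1, t2, t3, pp, qq, pq, qp, mul_zero, smul_zero, add_zero, zero_add,
    smul_smul]
  match_scalars <;> field_simp <;> ring

/-- The matrix algebra of a slot pair. -/
def slotHom (h : SlotPair z α d) : Matrix (Fin 2) (Fin 2) F →ₐ[F] Module.End F V :=
  AlgHom.ofLinearMap
    { toFun := slotMap z α d
      map_add' := slotMap_add
      map_smul' := slotMap_smul }
    (slotMap_one h) (slotMap_mul h)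

theorem slotHom_apply (h : SlotPair z α d) (M : Matrix (Fin 2) (Fin 2) F) :
    slotHom h M = slotMap z α d M := rfl

theorem slotHom_z (h : SlotPair z α d) : slotHom h !![1, 0; 0, -1] = z := by
  have h2 := h.two
  simp [slotHom_apply, slotMap, prj]
  match_scalars <;> field_simp <;> ring

theorem slotHom_alpha (h : SlotPair z α d) : slotHom h !![0, d; 1, 0] = α := by
  have h2 := h.two
  simp [slotHom_apply, slotMap, prj, mul_add, mul_inv_cancel₀ h.d0]
  match_scalars <;> field_simp <;> ring

theorem slotHom_injective [Nontrivial V] (h : SlotPair z α d) (hns : NS z) :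
    Function.Injective (slotHom h) := by
  rw [injective_iff_map_eq_zero]
  intro M hM
  rw [slotHom_apply] at hM
  obtain ⟨pp, qq, pq, qp, pa, qa⟩ := h.rel
  have t1 : ∀ X, prj z * (α * X) = α * (prj (-z) * X) := fun X => by rw [← mul_assoc, pa, mul_assoc]
  have t2 : ∀ X, prj (-z) * (α * X) = α * (prj z * X) := fun X => by rw [← mul_assoc, qa, mul_assoc]
  have h2 := h.two
  have hp : prj z ≠ 0 := fun e => hns (-1) (by
    have e' := congrArg ((2 : F) • ·) e
    simp [prj, smul_smul, mul_inv_cancel₀ h2] at e'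
    simpa using eq_neg_of_add_eq_zero_right e')
  have hq : prj (-z) ≠ 0 := fun e => hns 1 (by
    have e' := congrArg ((2 : F) • ·) e
    simp [prj, smul_smul, mul_inv_cancel₀ h2] at e'
    rw [one_smul]; exact (neg_inj.1 (eq_neg_of_add_eq_zero_right e')))
  have inj : ∀ X, α * X = 0 → X = 0 := fun X hX => by
    have e := congrArg (α * ·) hX
    simp only [← mul_assoc, h.sqα, smul_mul_assoc, one_mul, mul_zero] at e
    exact (smul_eq_zero.1 e).resolve_left h.d0
  have hap : α * prj z ≠ 0 := fun e => hp (inj _ e)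
  have haq : α * prj (-z) ≠ 0 := fun e => hq (inj _ e)
  have e00 := congrArg (fun X => prj z * X * prj z) hM
  have e11 := congrArg (fun X => prj (-z) * X * prj (-z)) hM
  have e10 := congrArg (fun X => prj (-z) * X * prj z) hM
  have e01 := congrArg (fun X => prj z * X * prj (-z)) hM
  simp only [slotMap, mul_add, add_mul, smul_mul_assoc, mul_smul_comm, mul_assoc, t1, t2, pp, qq, pq, qp,
    mul_zero, zero_mul, smul_zero, add_zero, zero_add, smul_eq_zero, hp, hq, hap, haq, or_false,
    mul_eq_zero, inv_eq_zero, h.d0] at e00 e11 e10 e01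
  ext a b
  fin_cases a <;> fin_cases b <;> simp [e00, e11, e10, e01]

section

variable {R S : Set (Module.End F V)} {i : F} (hS : Setup R S i)

/-- The matrices mapped into the group. -/
def slotGroup (hS : Setup R S i) (h : SlotPair z α d) : Subgroup (GL (Fin 2) F) where
  carrier := {g | slotHom h (g : Matrix (Fin 2) (Fin 2) F) ∈ S}
  one_mem' := by simpa using hS.one_mem
  mul_mem' := fun {x y} hx hy => by simpa using hS.mul _ hx _ hy
  inv_mem' := fun {x} hx => hS.inv_mem hx (by rw [← map_mul, ← Units.val_mul, mul_inv_cancel, Units.val_one, map_one])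

theorem mem_slotGroup (h : SlotPair z α d) {g : GL (Fin 2) F} :
    g ∈ slotGroup hS h ↔ slotHom h (g : Matrix (Fin 2) (Fin 2) F) ∈ S := Iff.rfl

theorem slotGroup_scalars (h : SlotPair z α d) : HasScalars (slotGroup hS h) := fun g c hg => by
  rw [mem_slotGroup, hg, map_smul, map_one]
  refine hS.le (hS.pauli.scal c fun e => ?_)
  have := g.det_ne_zero
  rw [hg, e, zero_smul, Matrix.det_zero] at this
  exact this rfl

include hS in
/-- The slot of two anticommuting involutions with an element outside the normaliser is full. -/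
theorem Setup.slot_full (htel : FullTel R S i) [Fintype F] {p : ℕ} [Fact p.Prime] (hF : Fintype.card F = p)
    (hp5 : 5 ≤ p)
    {a b : Module.End F V} (ha : a ∈ R) (haa : a * a = 1) (hb : b ∈ R) (hbb : b * b = 1)
    (h : SlotPair a b 1) {g : GL (Fin 2) F} (hg : slotHom h (g : Matrix (Fin 2) (Fin 2) F) ∈ S)
    (hgn : ∀ c : F, ∀ P ∈ ({!![1, 0; 0, -1], !![0, 1; 1, 0], !![0, 1; -1, 0]} :
      Set (Matrix (Fin 2) (Fin 2) F)), (g : Matrix (Fin 2) (Fin 2) F) * !![1, 0; 0, -1] ≠
        c • (P * (g : Matrix (Fin 2) (Fin 2) F))) :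
    ∀ u : PSL2.SL2 F, slotHom h u.1 ∈ S := by
  have h2 := hS.two
  let Z : GL (Fin 2) F := GeneralLinearGroup.mkOfDetNeZero !![1, 0; 0, -1] (by simp [Matrix.det_fin_two])
  let X : GL (Fin 2) F := GeneralLinearGroup.mkOfDetNeZero !![0, 1; 1, 0] (by simp [Matrix.det_fin_two])
  have hd : (1 + i) * (1 - i) = 2 := by linear_combination -hS.sqrt
  let TZ : GL (Fin 2) F := GeneralLinearGroup.mkOfDetNeZero !![1 + i, 0; 0, 1 - i]
    (by rw [Matrix.det_fin_two]; simpa [hd] using h2)
  let TX : GL (Fin 2) F := GeneralLinearGroup.mkOfDetNeZero !![1, i; i, 1]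
    (by simp [Matrix.det_fin_two, hS.sqrt]; intro e; exact h2 (by linear_combination e))
  have hz : slotHom h !![1, 0; 0, -1] = a := slotHom_z h
  have hx : slotHom h !![0, 1; 1, 0] = b := slotHom_alpha h
  have hgood := slTwo_le_of_pauli hF hp5 hS.sqrt (slotGroup_scalars hS h) (Z := Z) (X := X) (TZ := TZ)
    (TX := TX) (g := g) (by rw [mem_slotGroup]; show slotHom h !![1, 0; 0, -1] ∈ S; rw [hz]; exact hS.le ha) rfl
    (by rw [mem_slotGroup]; show slotHom h !![0, 1; 1, 0] ∈ S; rw [hx]; exact hS.le hb) rfl
    (by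
      rw [mem_slotGroup]
      show slotHom h !![1 + i, 0; 0, 1 - i] ∈ S
      rw [show (!![1 + i, 0; 0, 1 - i] : Matrix (Fin 2) (Fin 2) F) = 1 + i • !![1, 0; 0, -1] by
        ext r s; fin_cases r <;> fin_cases s <;> simp [sub_eq_add_neg], map_add, map_one, map_smul, hz]
      exact htel a ha haa) rfl
    (by
      rw [mem_slotGroup]
      show slotHom h !![1, i; i, 1] ∈ S
      rw [show (!![1, i; i, 1] : Matrix (Fin 2) (Fin 2) F) = 1 + i • !![0, 1; 1, 0] by
        ext r s; fin_cases r <;> fin_cases s <;> simp, map_add, map_one, map_smul, hx]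
      exact htel b hb hbb) rfl hg hgn
  exact fun u => hgood u

include hS in
/-- A full slot whose algebra is everything gives all transvections. -/
theorem Setup.allTv_of_slot_surjective [Nontrivial V] (h : SlotPair z α d) (hns : NS z)
    (hsurj : Function.Surjective (slotHom h)) (hall : ∀ u : PSL2.SL2 F, slotHom h u.1 ∈ S) : AllTv S := by
  intro v φ hφ
  obtain ⟨N, hN⟩ := hsurj (φ.smulRight v)
  have hN2 : N * N = 0 := slotHom_injective h hns (by
    rw [map_mul, hN, map_zero]; exact LinearMap.ext fun x => by simp [hφ])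
  have hdet : (1 + N).det = 1 := by
    have a00 := congrFun (congrFun hN2 0) 0
    have a11 := congrFun (congrFun hN2 1) 1
    have a01 := congrFun (congrFun hN2 0) 1
    have a10 := congrFun (congrFun hN2 1) 0
    simp [Matrix.mul_apply, Fin.sum_univ_two] at a00 a11 a01 a10
    simp [Matrix.det_fin_two]
    have e0 : N 0 0 + N 1 1 = 0 := by
      by_contra hne
      have h01 : N 0 1 = 0 := (mul_eq_zero.1 (show N 0 1 * (N 0 0 + N 1 1) = 0 by linear_combination a01)).resolve_right hne
      have h00 : N 0 0 = 0 := by simpa [h01] using a00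
      have h11 : N 1 1 = 0 := by simpa [h01] using a11
      exact hne (by rw [h00, h11, add_zero])
    have hsq : N 1 1 = -N 0 0 := eq_neg_of_add_eq_zero_right e0
    rw [hsq]
    linear_combination -a00
  have := hall ⟨1 + N, hdet⟩
  simpa [map_add, map_one, hN, tvEl] using this

end

end Cfsg.Agent.C6Two
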