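/-
Five anticommuting involutions and two half-vectors: a product in the group that normalises no
eigenspace system. Main results: `lin5`, `Setup.exists_witness`.
-/
import Cfsg.Agent.Lib.C6Two.Slot

set_option autoImplicit false
set_option linter.unusedSectionVars false

namespace Cfsg.Agent.C6Two

open Matrix
open scoped commutatorElement
open Cfsg.Agent

variable {F : Type*} [Field F] {V : Type*} [AddCommGroup V] [Module F V]

/-- Five pairwise anticommuting involutions. -/
def Five (Q : Fin 5 → Module.End F V) : Prop :=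
  (∀ j, Q j * Q j = 1) ∧ ∀ j k, j ≠ k → Q j * Q k = -(Q k * Q j)

/-- A linear combination of five operators. -/
def lin5 (Q : Fin 5 → Module.End F V) (x : Fin 5 → F) : Module.End F V := ∑ k, x k • Q k

/-- The dot product. -/
def dot5 (x y : Fin 5 → F) : F := ∑ k, x k * y k

variable {Q : Fin 5 → Module.End F V}

theorem Five.anticomm_sum (hQ : Five Q) (x y : Fin 5 → F) :
    lin5 Q x * lin5 Q y + lin5 Q y * lin5 Q x = (2 * dot5 x y) • 1 := by
  obtain ⟨hs, ha⟩ := hQ
  simp only [lin5, dot5, Fin.sum_univ_five, mul_add, add_mul, smul_mul_assoc, mul_smul_comm, smul_smul,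
    hs, ha 1 0 (by decide), ha 2 0 (by decide), ha 3 0 (by decide), ha 4 0 (by decide),
    ha 2 1 (by decide), ha 3 1 (by decide), ha 4 1 (by decide), ha 3 2 (by decide),
    ha 4 2 (by decide), ha 4 3 (by decide), smul_neg]
  match_scalars <;> ring

theorem Five.sandwich (hQ : Five Q) (x y : Fin 5 → F) :
    lin5 Q x * lin5 Q y * lin5 Q x = lin5 Q fun k => 2 * dot5 x y * x k - dot5 x x * y k := by
  have h1 := hQ.anticomm_sum x y
  have h2 := hQ.anticomm_sum x x
  have h3 : (2 : F) • (lin5 Q x * lin5 Q x) = (2 * dot5 x x) • 1 := by rw [two_smul]; exact h2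
  have hlin : (lin5 Q fun k => 2 * dot5 x y * x k - dot5 x x * y k) =
      (2 * dot5 x y) • lin5 Q x - dot5 x x • lin5 Q y := by
    simp only [lin5, Fin.sum_univ_five]; match_scalars <;> ring
  rw [hlin]
  by_cases h20 : (2 : F) = 0
  · have hz : lin5 Q x * lin5 Q x = dot5 x x • 1 := by
      obtain ⟨hs, ha⟩ := hQ
      simp only [lin5, dot5, Fin.sum_univ_five, mul_add, add_mul, smul_mul_assoc, mul_smul_comm, smul_smul,
        hs, ha 1 0 (by decide), ha 2 0 (by decide), ha 3 0 (by decide), ha 4 0 (by decide),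
        ha 2 1 (by decide), ha 3 1 (by decide), ha 4 1 (by decide), ha 3 2 (by decide),
        ha 4 2 (by decide), ha 4 3 (by decide), smul_neg]
      match_scalars <;> ring
    rw [eq_sub_of_add_eq h1, sub_mul, smul_mul_assoc, one_mul, mul_assoc, hz, mul_smul_comm, mul_one]
  · have hz : lin5 Q x * lin5 Q x = dot5 x x • 1 := by
      have h4 := congrArg ((2 : F)⁻¹ • ·) h3
      simpa [smul_smul, ← mul_assoc, inv_mul_cancel₀ h20] using h4
    rw [eq_sub_of_add_eq h1, sub_mul, smul_mul_assoc, one_mul, mul_assoc, hz, mul_smul_comm, mul_one]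

theorem Five.conj_single (hQ : Five Q) (j : Fin 5) (x : Fin 5 → F) :
    Q j * lin5 Q x * Q j = lin5 Q fun k => if k = j then x k else -x k := by
  simp only [lin5, Finset.mul_sum, Finset.sum_mul]
  refine Finset.sum_congr rfl fun k _ => ?_
  rw [mul_smul_comm, smul_mul_assoc]
  by_cases h : k = j
  · subst h; rw [hQ.1, one_mul, if_pos rfl]
  · rw [if_neg h, hQ.2 j k (Ne.symm h), neg_mul, mul_assoc, hQ.1, mul_one, smul_neg, neg_smul]

variable {R S : Set (Module.End F V)} {i : F} (hS : Setup R S i)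

include hS in
/-- The witness element. -/
theorem Setup.exists_witness [Fintype F] {p : ℕ} [Fact p.Prime] (hF : Fintype.card F = p) (hp5 : 5 ≤ p)
    (hp7 : p ≠ 7) (hQ : Five Q) (hR : ∀ k, Q k ∈ R) {h : F} (hh : 2 * h = 1)
    (hU : lin5 Q ![h, h, h, h, 0] ∈ S) (hU' : lin5 Q ![h, h, h, 0, h] ∈ S) :
    ∃ x : Fin 5 → F, x 3 = 0 ∧ lin5 Q x * Q 4 ∈ S ∧ dot5 x x = 1 ∧
      x 0 * x 1 + x 4 * x 2 ≠ 0 ∧ x 0 * x 1 - x 4 * x 2 ≠ 0 ∧
      x 0 * x 2 + x 4 * x 1 ≠ 0 ∧ x 0 * x 2 - x 4 * x 1 ≠ 0 := by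
  have := charP_of_card hF
  have nz : ∀ n : ℕ, 0 < n → n < p → (n : F) ≠ 0 := fun n h1 h3 e =>
    absurd (Nat.le_of_dvd h1 ((CharP.cast_eq_zero_iff F p n).1 e)) (by omega)
  have hQS : ∀ k, Q k ∈ S := fun k => hS.le (hR k)
  by_cases hp : p = 5
  · have hv : ((5 : ℕ) : F) = 0 := by rw [← hp]; exact CharP.cast_eq_zero F p
    push_cast at hv
    have h3 : h = 3 := by linear_combination (3 : F) * hh - h * hv
    have hw2 : lin5 Q ![h, -h, -h, 0, -h] ∈ S := by
      have e := hS.mul _ (hS.mul _ (hQS 0) _ hU') _ (hQS 0)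
      rw [hQ.conj_single] at e
      convert e using 2
      funext k; fin_cases k <;> simp
    have hw3 : lin5 Q ![h, -h, h, -h, 0] ∈ S := by
      have e := hS.mul _ (hS.mul _ (hQS 1) _ (hS.mul _ (hS.mul _ (hQS 3) _ hU) _ (hQS 3))) _ (hQS 1)
      rw [hQ.conj_single, hQ.conj_single] at e
      convert e using 2
      funext k; fin_cases k <;> simp
    have e := hS.mul _ (hS.mul _ hw3 _ (hS.mul _ (hS.mul _ hw2 _ hU) _ hw2)) _ hw3
    rw [hQ.sandwich, hQ.sandwich] at e
    refine ⟨![0, 1, 2, 0, 1], rfl, hS.mul _ ?_ _ (hQS 4), ?_, ?_, ?_, ?_, ?_⟩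
    · convert e using 2
      funext k
      fin_cases k <;> simp [dot5, Fin.sum_univ_five, h3] <;> grind
    · simp [dot5, Fin.sum_univ_five]; linear_combination hv
    · simpa using nz 2 (by omega) (by omega)
    · simpa using nz 2 (by omega) (by omega)
    · simp
    · simp
  have hp11 : 11 ≤ p := by
    have hpp : p.Prime := Fact.out
    by_contra hlt
    interval_cases p <;> first | omega | (norm_num at hpp)
  have n2 : (2 : F) ≠ 0 := by simpa using nz 2 (by omega) (by omega)
  have n3 : (3 : F) ≠ 0 := by simpa using nz 3 (by omega) (by omega)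
  have n4 : (4 : F) ≠ 0 := by simpa using nz 4 (by omega) (by omega)
  have n5 : (5 : F) ≠ 0 := by simpa using nz 5 (by omega) (by omega)
  have n7 : (7 : F) ≠ 0 := by simpa using nz 7 (by omega) (by omega)
  have n9 : (9 : F) ≠ 0 := by simpa using nz 9 (by omega) (by omega)
  set S₀ : Module.End F V := Q 0 + Q 1 + Q 2 with hS₀
  have hd3 : (-3 : F) ≠ 0 := neg_ne_zero.2 n3
  obtain ⟨hs, ha⟩ := hQ
  have c34 : (Q 3 * Q 4) * (Q 3 * Q 4) = -1 := by
    rw [mul_assoc, ← mul_assoc (Q 4), ha 4 3 (by decide), neg_mul, mul_assoc (Q 3), hs, mul_one, mul_neg, hs]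
  set z : Module.End F V := (-i) • (Q 3 * Q 4) with hz
  set α : Module.End F V := S₀ * Q 3 with hα
  have ass : ∀ j k, j ≠ k → ∀ X, Q j * (Q k * X) = -(Q k * (Q j * X)) := fun j k hjk X => by
    rw [← mul_assoc, ha j k hjk, neg_mul, mul_assoc]
  have sq' : ∀ j X, Q j * (Q j * X) = X := fun j X => by rw [← mul_assoc, hs, one_mul]
  have hp' : SlotPair z α (-3) := by
    refine ⟨hS.two, ?_, ?_, ?_, hd3⟩
    · rw [hz, smul_mul_assoc, mul_smul_comm, smul_smul, c34, neg_mul_neg, hS.sqrt, neg_smul, one_smul, neg_neg]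
    · simp only [hz, hα, hS₀, mul_add, add_mul, smul_mul_assoc, mul_smul_comm, mul_assoc, neg_smul,
        mul_neg, smul_neg, neg_mul, sq', hs, ass 3 0 (by decide), ass 3 1 (by decide), ass 3 2 (by decide),
        ass 4 0 (by decide), ass 4 1 (by decide), ass 4 2 (by decide), ass 4 3 (by decide),
        ha 4 3 (by decide), neg_neg]
      match_scalars <;> ring
    · simp only [hα, hS₀, mul_add, add_mul, mul_assoc, sq', hs, ass 3 0 (by decide), ass 3 1 (by decide),
        ass 3 2 (by decide), ass 1 0 (by decide), ass 2 0 (by decide), ass 2 1 (by decide),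
        ha 1 0 (by decide), ha 2 0 (by decide), ha 2 1 (by decide), ha 3 0 (by decide), ha 3 1 (by decide),
        ha 3 2 (by decide), mul_neg, neg_mul, neg_neg, mul_one]
      match_scalars <;> ring
  set H := slotGroup hS hp'
  have ez : slotHom hp' !![i, 0; 0, -i] = Q 3 * Q 4 := by
    rw [show (!![i, 0; 0, -i] : Matrix (Fin 2) (Fin 2) F) = i • !![1, 0; 0, -1] by
      ext r s; fin_cases r <;> fin_cases s <;> simp, map_smul, slotHom_z, hz, smul_smul, mul_neg,
      hS.sqrt, neg_neg, one_smul]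
  have eS4 : slotHom hp' !![0, 3 * i; i, 0] = S₀ * Q 4 := by
    rw [show (!![0, 3 * i; i, 0] : Matrix (Fin 2) (Fin 2) F) = !![0, -3; 1, 0] * !![i, 0; 0, -i] by
      ext r s; fin_cases r <;> fin_cases s <;> simp [Matrix.mul_apply, Fin.sum_univ_two],
      map_mul, slotHom_alpha, ez, hα, mul_assoc, sq']
  have el : ∀ y x : F, lin5 Q ![x, x, x, 0, y] * Q 4 = slotHom hp' !![y, 3 * i * x; i * x, y] := by
    intro y x
    rw [show (!![y, 3 * i * x; i * x, y] : Matrix (Fin 2) (Fin 2) F) = y • 1 + x • !![0, 3 * i; i, 0] by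
      ext r s; fin_cases r <;> fin_cases s <;> simp <;> ring, map_add, map_smul, map_smul, map_one, eS4]
    simp only [lin5, hS₀, Fin.sum_univ_five, add_mul, smul_mul_assoc, hs]
    simp
    match_scalars <;> ring
  let s : PSL2.SL2 F := ⟨h • !![1, 3; -1, 1], by
    simp [Matrix.det_fin_two]; linear_combination (2 * h + 1) * hh⟩
  let t : PSL2.SL2 F := ⟨h • !![1, -3 * i; -i, 1], by
    simp [Matrix.det_fin_two]; linear_combination (2 * h + 1) * hh - 3 * h * h * hS.sqrt⟩
  have hsm : s ∈ slPart H := by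
    rw [mem_slPart, mem_slotGroup]
    have e : slotHom hp' (h • !![1, 3; -1, 1]) = Q 3 * lin5 Q ![h, h, h, h, 0] := by
      rw [show (!![1, 3; -1, 1] : Matrix (Fin 2) (Fin 2) F) = 1 - !![0, -3; 1, 0] by
        ext r s; fin_cases r <;> fin_cases s <;> simp, map_smul, map_sub, map_one, slotHom_alpha]
      simp only [lin5, hα, hS₀, Fin.sum_univ_five, mul_add, add_mul, mul_smul_comm, hs,
        ha 3 0 (by decide), ha 3 1 (by decide), ha 3 2 (by decide), smul_sub]
      simp
      match_scalars <;> ring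
    show slotHom hp' (h • !![1, 3; -1, 1]) ∈ S
    rw [e]
    exact hS.mul _ (hQS 3) _ hU
  have htm : t ∈ slPart H := by
    rw [mem_slPart, mem_slotGroup]
    have e : slotHom hp' (h • !![1, -3 * i; -i, 1]) = Q 4 * lin5 Q ![h, h, h, 0, h] := by
      rw [show (!![1, -3 * i; -i, 1] : Matrix (Fin 2) (Fin 2) F) = 1 - !![0, 3 * i; i, 0] by
        ext r s; fin_cases r <;> fin_cases s <;> simp, map_smul, map_sub, map_one, eS4]
      simp only [lin5, hS₀, Fin.sum_univ_five, mul_add, add_mul, mul_smul_comm, hs,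
        ha 4 0 (by decide), ha 4 1 (by decide), ha 4 2 (by decide), smul_sub]
      simp
      match_scalars <;> ring
    show slotHom hp' (h • !![1, -3 * i; -i, 1]) ∈ S
    rw [e]
    exact hS.mul _ (hQS 4) _ hU'
  have hs1 : PSL2.tr s = 1 := by simp [PSL2.tr, s]; linear_combination hh
  have ht1 : PSL2.tr t = 1 := by simp [PSL2.tr, t]; linear_combination hh
  have hst : PSL2.tr (s * t) = h := by
    rw [PSL2.tr, mul_val]
    simp [s, t, Matrix.mul_apply, Fin.sum_univ_two]
    linear_combination h * hh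
  have htc : 4 * PSL2.tr ⁅s, t⁆ = -1 := by
    have e : h = (2 : F)⁻¹ := eq_inv_of_mul_eq_one_right hh
    simp only [PSL2.tr, commutatorElement_def, mul_val, Matrix.SpecialLinearGroup.coe_inv]
    simp [s, t, Matrix.mul_apply, Fin.sum_univ_two, Matrix.adjugate_fin_two, e]
    field_simp
    grind [hS.sqrt]
  have hall := slTwo_le_of_trace hF hp5 (slotGroup_scalars hS hp') hsm htm hs1 ht1
    ⟨fun e => n9 (by rw [e] at htc; linear_combination htc),
      fun e => n7 (by rw [e] at htc; linear_combination -htc)⟩ h hst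
    ⟨fun e => one_ne_zero (by rw [← hh, e, mul_zero]),
      fun e => n3 (by linear_combination -4 * e + (2 * h + 1) * hh),
      fun e => n7 (by linear_combination -4 * e + (2 * h + 1) * hh),
      fun e => n5 (by linear_combination 16 * e - (8 * h ^ 3 + 4 * h ^ 2 - 22 * h - 11) * hh)⟩
  have key : ∀ y x : F, y ^ 2 + 3 * x ^ 2 = 1 → lin5 Q ![x, x, x, 0, y] * Q 4 ∈ S := by
    intro y x hxy
    have := hall ⟨!![y, 3 * i * x; i * x, y], by
      simp [Matrix.det_fin_two]; linear_combination hxy - 3 * x ^ 2 * hS.sqrt⟩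
    rw [el]
    exact this
  obtain ⟨y, x, hxy, hx, hp, hm⟩ : ∃ y x : F, y ^ 2 + 3 * x ^ 2 = 1 ∧ x ≠ 0 ∧ x + y ≠ 0 ∧ x - y ≠ 0 := by
    by_cases h13 : p = 13
    · have hv : ((13 : ℕ) : F) = 0 := by rw [← h13]; exact CharP.cast_eq_zero F p
      push_cast at hv
      exact ⟨0, 3, by linear_combination 2 * hv, n3, by simpa using n3, by simpa using n3⟩
    · have hdv : ∀ n : ℕ, (n : F) = 0 → p ∣ n := fun n e => (CharP.cast_eq_zero_iff F p n).1 e
      have n13 : (13 : F) ≠ 0 := fun e => h13 ((Nat.prime_dvd_prime_iff_eq Fact.out (by norm_num)).1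
        (hdv 13 (by simpa using e)))
      have n15 : (15 : F) ≠ 0 := by
        rw [show (15 : F) = 3 * 5 by norm_num]; exact mul_ne_zero n3 n5
      refine ⟨-11 / 13, 4 / 13, by field_simp; ring, div_ne_zero n4 n13, ?_, ?_⟩
      · rw [← add_div, show (4 : F) + -11 = -7 by norm_num]
        exact div_ne_zero (neg_ne_zero.2 n7) n13
      · rw [← sub_div, show (4 : F) - -11 = 15 by norm_num]
        exact div_ne_zero n15 n13
  refine ⟨![x, x, x, 0, y], rfl, key y x hxy, ?_, ?_, ?_, ?_, ?_⟩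
  · simp [dot5, Fin.sum_univ_five]; linear_combination hxy
  all_goals
    simp
    first
    | (rw [show x * x + y * x = x * (x + y) by ring]; exact mul_ne_zero hx hp)
    | (rw [show x * x - y * x = x * (x - y) by ring]; exact mul_ne_zero hx hm)

end Cfsg.Agent.C6Two
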