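/-
The centraliser step: if the group is not all transvections and every restriction normalises, then
centralisers of the involutions of the system normalise it. Main results: `Norml`, `Setup.escape`,
`Setup.centralizer_norml`.
-/
import Cfsg.Agent.Lib.C6Two.Witness

set_option autoImplicit false
set_option linter.unusedSectionVars false

namespace Cfsg.Agent.C6Two

open Matrix
open Cfsg.Agent

variable {F : Type*} [Field F] {V : Type*} [AddCommGroup V] [Module F V]

/-- The element conjugates the system into itself. -/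
def Norml (R : Set (Module.End F V)) (g : Module.End F V) : Prop :=
  ∀ f ∈ R, ∃ f' ∈ R, g * f = f' * g

/-- A combination of quaternion units with two nonzero imaginary parts is no system element. -/
theorem quat_bad [Nontrivial V] (h2 : (2 : F) ≠ 0) {I J : Module.End F V} (hI : I * I = -1) (hJ : J * J = -1)
    (hIJ : I * J = -(J * I)) {A B C : F} (hB : B ≠ 0) (hC : C ≠ 0) :
    ¬ CAC (A • I + B • J + C • (I * J)) J := by
  have hJI : J * I = -(I * J) := anti_symm hIJ
  have e1 : (A • I + B • J + C • (I * J)) * J = A • (I * J) + (-B) • 1 + (-C) • I := by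
    simp only [add_mul, smul_mul_assoc, mul_assoc, hJ, _root_.mul_neg, mul_one, smul_neg, neg_smul]
  have e2 : J * (A • I + B • J + C • (I * J)) = (-A) • (I * J) + (-B) • 1 + C • I := by
    have e3 : J * (I * J) = I := by rw [← mul_assoc, hJI, _root_.neg_mul, mul_assoc, hJ, _root_.mul_neg, mul_one, neg_neg]
    simp only [mul_add, mul_smul_comm, hJI, hJ, e3, smul_neg, neg_smul]
  rintro (h | h) <;> rw [e1, e2] at h
  · have h3 : (2 : F) • (A • (I * J) - C • I) = 0 := by linear_combination (norm := module) h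
    have h4 : I * (A • (I * J) - C • I) = 0 := by rw [(smul_eq_zero.1 h3).resolve_left h2, mul_zero]
    rw [mul_sub, mul_smul_comm, mul_smul_comm, ← mul_assoc, hI, _root_.neg_mul, one_mul, smul_neg, smul_neg,
      sub_neg_eq_add, neg_add_eq_zero] at h4
    have h5 : A • J = C • (1 : Module.End F V) := h4
    by_cases hA : A = 0
    · rw [hA, zero_smul] at h5
      exact hC ((smul_eq_zero.1 h5.symm).resolve_right one_ne_zero)
    · have h6 : J = (C / A) • (1 : Module.End F V) := by
        rw [div_eq_inv_mul, mul_smul, ← h5, inv_smul_smul₀ hA]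
      rw [h6, mul_smul_comm, mul_one, smul_mul_assoc, one_mul] at hIJ
      have h7 := eq_zero_of_eq_neg h2 hIJ
      have hI0 : I ≠ 0 := fun e => by simp [e] at hI
      have hCA := (smul_eq_zero.1 h7).resolve_right hI0
      exact hC (by simpa [hA] using hCA)
  · have h3 : (2 * B) • (1 : Module.End F V) = 0 := by linear_combination (norm := module) -h
    exact mul_ne_zero h2 hB ((smul_eq_zero.1 h3).resolve_right one_ne_zero)

/-- Conjugation inside the quaternion algebra. -/
theorem quat_conj {I J : Module.End F V} (hI : I * I = -1) (hJ : J * J = -1) (hIJ : I * J = -(J * I))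
    (y a b c : F) :
    (y • 1 + a • I + b • J + c • (I * J)) * I * (y • 1 - a • I - b • J - c • (I * J)) =
      (y * y + a * a - b * b - c * c) • I + (2 * (a * b + y * c)) • J + (2 * (a * c - y * b)) • (I * J) := by
  have hJI : J * I = -(I * J) := anti_symm hIJ
  have aI : ∀ X, I * (I * X) = -X := fun X => by rw [← mul_assoc, hI, _root_.neg_mul, one_mul]
  have aJ : ∀ X, J * (J * X) = -X := fun X => by rw [← mul_assoc, hJ, _root_.neg_mul, one_mul]
  have aJI : ∀ X, J * (I * X) = -(I * (J * X)) := fun X => by rw [← mul_assoc, hJI, _root_.neg_mul, mul_assoc]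
  simp only [mul_add, add_mul, mul_sub, sub_mul, smul_mul_assoc, mul_smul_comm, mul_one, one_mul, mul_assoc,
    aI, aJ, aJI, hI, hJ, hJI, _root_.mul_neg, _root_.neg_mul, smul_neg, neg_neg, smul_add, smul_sub, smul_smul]
  match_scalars <;> ring

/-- The inverse of a unit quaternion. -/
theorem quat_inv {I J : Module.End F V} (hI : I * I = -1) (hJ : J * J = -1) (hIJ : I * J = -(J * I))
    {y a b c : F} (hd : y * y + a * a + b * b + c * c = 1) :
    (y • 1 + a • I + b • J + c • (I * J)) * (y • 1 - a • I - b • J - c • (I * J)) = 1 := by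
  have hJI : J * I = -(I * J) := anti_symm hIJ
  have aI : ∀ X, I * (I * X) = -X := fun X => by rw [← mul_assoc, hI, _root_.neg_mul, one_mul]
  have aJ : ∀ X, J * (J * X) = -X := fun X => by rw [← mul_assoc, hJ, _root_.neg_mul, one_mul]
  have aJI : ∀ X, J * (I * X) = -(I * (J * X)) := fun X => by
    rw [← mul_assoc, hJI, _root_.neg_mul, mul_assoc]
  simp only [mul_add, add_mul, mul_sub, sub_mul, smul_mul_assoc, mul_smul_comm, mul_one, one_mul, mul_assoc,
    aI, aJ, aJI, hI, hJ, hJI, _root_.mul_neg, smul_neg, neg_neg, smul_add, smul_sub, smul_smul]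
  match_scalars <;> first | ring1 | linear_combination hd

/-- A conjugate by a unipotent element is not a system element. -/
theorem unip_bad [Nontrivial V] (h2 : (2 : F) ≠ 0) {a s y : Module.End F V} (a2 : a * a = 1) (s2 : s * s = 1)
    (as' : a * s = -(s * a)) (hya : (1 + s * prj (-a)) * a = y * (1 + s * prj (-a))) : ¬ CAC y a := by
  have e1 : a * (s * a) = -s := by rw [← mul_assoc, as', _root_.neg_mul, mul_assoc, a2, mul_one]
  have aX : ∀ X, a * (a * X) = X := fun X => by rw [← mul_assoc, a2, one_mul]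
  have sX : ∀ X, s * (s * X) = X := fun X => by rw [← mul_assoc, s2, one_mul]
  have asX : ∀ X, a * (s * X) = -(s * (a * X)) := fun X => by rw [← mul_assoc, as', _root_.neg_mul, mul_assoc]
  have hinv : (1 + s * prj (-a)) * (1 - s * prj (-a)) = 1 := by
    simp only [prj, mul_add, add_mul, mul_sub, sub_mul, mul_one, one_mul, smul_mul_assoc, mul_smul_comm,
      mul_assoc, _root_.neg_mul, _root_.mul_neg, e1, as', s2, a2, aX, sX, asX, smul_smul, smul_neg, neg_neg,
      smul_add, smul_sub]
    match_scalars <;> ring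
  have hyv : y = a - s + s * a := by
    have e := congrArg (· * (1 - s * prj (-a))) hya
    simp only [mul_assoc, hinv, mul_one] at e
    rw [← e]
    simp only [prj, mul_add, add_mul, mul_sub, sub_mul, mul_one, one_mul, smul_mul_assoc, mul_smul_comm,
      mul_assoc, _root_.neg_mul, _root_.mul_neg, e1, as', s2, a2, aX, sX, asX, smul_smul, smul_neg, neg_neg,
      smul_add, smul_sub]
    match_scalars <;> field_simp <;> ring
  subst hyv
  have el : (a - s + s * a) * a = 1 - s * a + s := by
    rw [add_mul, sub_mul, a2, mul_assoc, a2, mul_one]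
  have er : a * (a - s + s * a) = 1 + s * a - s := by
    rw [mul_add, mul_sub, a2, as', e1]; abel
  rintro (h | h) <;> rw [el, er] at h
  · have h3 : (2 : F) • s = (2 : F) • (s * a) := by linear_combination (norm := module) h
    have h4 : s = s * a := smul_right_injective _ h2 h3
    have h5 : a = 1 := by
      have h6 := congrArg (s * ·) h4
      simpa only [← mul_assoc, s2, one_mul] using h6.symm
    rw [h5, one_mul, mul_one] at as'
    have h7 := eq_zero_of_eq_neg h2 as'
    rw [h7, mul_zero] at s2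
    exact zero_ne_one s2
  · have h3 : (2 : F) • (1 : Module.End F V) = 0 := by linear_combination (norm := module) h
    exact one_ne_zero ((smul_eq_zero.1 h3).resolve_left h2)

theorem half_mul (h2 : (2 : F) ≠ 0) {P Q R T : Module.End F V} (h : Q * R = (2 : F) • 1) :
    ((2 : F)⁻¹ • (P * Q)) * ((2 : F)⁻¹ • (R * T)) = (2 : F)⁻¹ • (P * T) := by
  rw [smul_mul_assoc, mul_smul_comm, smul_smul, mul_assoc P Q, ← mul_assoc Q R T, h, smul_mul_assoc, one_mul,
    mul_smul_comm, smul_smul]
  congr 1
  field_simp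

section

variable {R S : Set (Module.End F V)} {i : F} (hS : Setup R S i) [FiniteDimensional F V] [Nontrivial V]
variable {a : Module.End F V}

theorem res_prj_self (h2 : (2 : F) ≠ 0) (ha : a * a = 1) : res ha (prj a) = 1 ∧ res ha (prj (-a)) = 0 := by
  constructor <;>
  · simp [prj, res_one h2 ha, res_self h2 ha]
    try (match_scalars <;> field_simp <;> norm_num)

theorem exists_fxd_ne (ha : a * a = 1) (hns : NS a) : ∃ v : fxd a, v ≠ 0 := by
  by_contra h
  push Not at h
  refine hns (-1) (LinearMap.ext fun x => ?_)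
  have h1 := congrArg Subtype.val (h ⟨x + a x, mem_fxd.2 (by
    rw [map_add, show a (a x) = x from LinearMap.congr_fun ha x, add_comm])⟩)
  simpa using eq_neg_of_add_eq_zero_right h1

theorem NS.neg {b : Module.End F V} (h : NS b) : NS (-b) := fun c hc => h (-c) (by
  rw [neg_smul, ← hc, neg_neg])

include hS

/-- An element of the system commuting with `a` outside its span is nonscalar on the eigenspace. -/
theorem Setup.res_ns (haR : a ∈ R) (ha : a * a = 1) (hns : NS a) {f : Module.End F V} (hf : f ∈ R)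
    (haf : a * f = f * a) (h1 : NS f) (h3 : NS (a * f)) : NS (res ha f) := by
  intro c hc
  obtain ⟨b, hb, hbb, hab, hfb⟩ := hS.pauli.exists_partner_two hS.two haR hf haf hns h3
  have hna := hS.neg_invol ha
  refine h1 c (eq_of_res_eq hS.two ha hna haf (by rw [mul_smul_comm, mul_one, smul_mul_assoc, one_mul])
    (by rw [hc, map_smul, res_one hS.two ha]) ?_)
  refine LinearMap.ext fun v => Subtype.ext ?_
  have hv : a (v : V) = -(v : V) := neg_eq_iff_eq_neg.1 (mem_fxd.1 v.2)
  have hbv : b v ∈ fxd a := mem_fxd.2 (by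
    have e := LinearMap.congr_fun hab (v : V)
    simpa [hv] using e)
  have e := congrArg (fun X : Module.End F (fxd a) => (X ⟨b v, hbv⟩ : V)) hc
  simp [res_apply_comm hS.two ha haf] at e
  have e2 : f (b (v : V)) = b (f v) := LinearMap.congr_fun hfb (v : V)
  rw [e2, ← map_smul] at e
  have bb : ∀ x : V, b (b x) = x := fun x => LinearMap.congr_fun hbb x
  have e3 : f (v : V) = c • (v : V) := by rw [← bb (f v), e, bb]
  rw [res_apply_comm hS.two hna (by rw [_root_.neg_mul, _root_.mul_neg, haf]),
    res_apply_comm hS.two hna (by simp)]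
  simpa using e3

/-- If some restriction fails to normalise then all transvections are present. -/
theorem Setup.escape (haR : a ∈ R) (ha : a * a = 1) (hns : NS a)
    (hIH : AllTv (resSet ha S) ∨ ∀ M ∈ resSet ha S, Norml (resSet ha R) M)
    {M : Module.End F (fxd a)} (hM : M ∈ resSet ha S) (hMn : ¬ Norml (resSet ha R) M) : AllTv S := by
  rcases hIH with h | h
  swap
  · exact absurd (h M hM) hMn
  obtain ⟨f, hf, haf, hnsf⟩ : ∃ f ∈ R, a * f = f * a ∧ NS (res ha f) := by
    by_contra hc
    push Not at hc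
    refine hMn fun y hy => ⟨y, hy, ?_⟩
    obtain ⟨f, ⟨hf, haf⟩, rfl⟩ := hy
    have := hc f hf haf
    simp only [NS, ne_eq, not_forall, not_not] at this
    obtain ⟨c, hc'⟩ := this
    rw [hc', mul_smul_comm, mul_one, smul_mul_assoc, one_mul]
  obtain ⟨c, hc0, hcf, hcc⟩ := hS.pauli.exists_invol hf
  refine hS.caseA haR ha hns h hcf hcc (by rw [mul_smul_comm, haf, smul_mul_assoc]) fun d hd => ?_
  refine hnsf (c⁻¹ * d) ?_
  rw [map_smul] at hd
  rw [mul_smul, ← hd, inv_smul_smul₀ hc0]

/-- Scaled involutions commuting up to the same signs. -/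
theorem Setup.res_sq_one (ha : a * a = 1) (hns : NS a) {u : Module.End F V} (hu : u ∈ R)
    (hau : a * u = u * a) (h : res ha u * res ha u = 1) : u * u = 1 := by
  obtain ⟨c, -, hcc⟩ := hS.pauli.sq u hu
  obtain ⟨v, hv⟩ := exists_fxd_ne ha hns
  rw [← res_mul hS.two ha hau, hcc, map_smul, res_one hS.two ha] at h
  have e := LinearMap.congr_fun h v
  simp only [LinearMap.smul_apply, Module.End.one_apply] at e
  rw [hcc, show c * c = 1 from smul_left_injective F hv (by simpa using e), one_smul]

set_option maxHeartbeats 6400000 in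
/-- Centralisers of the involutions normalise the system unless all transvections are present. -/
theorem Setup.centralizer_norml [Finite F] [Fintype F] {p : ℕ} [Fact p.Prime] (hF : Fintype.card F = p)
    (hp5 : 5 ≤ p) (hp7 : p ≠ 7)
    (hIH : ∀ a : Module.End F V, a ∈ R → ∀ ha : a * a = 1, NS a →
      AllTv (resSet ha S) ∨ ∀ M ∈ resSet ha S, Norml (resSet ha R) M)
    (haR : a ∈ R) (ha : a * a = 1) (hns : NS a) (hbig : ∃ c ∈ R, a * c = c * a ∧ NS c ∧ NS (a * c))
    {g : Module.End F V} (hg : g ∈ S)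
    (hag : a * g = g * a) : AllTv S ∨ Norml R g := by
  by_contra hcon
  push Not at hcon
  obtain ⟨hnot, hgn⟩ := hcon
  have h2 := hS.two
  have hi0 : i ≠ 0 := fun e => by simpa [e] using hS.sqrt
  have hN : ∀ c : Module.End F V, c ∈ R → ∀ hc : c * c = 1, NS c → ∀ h ∈ S, c * h = h * c →
      Norml (resSet hc R) (res hc h) := fun c hcR hc hnsc h hh hch => by
    by_contra hn
    exact hnot (hS.escape hcR hc hnsc (hIH c hcR hc hnsc) ⟨h, ⟨hh, hch⟩, rfl⟩ hn)
  obtain ⟨g', hg', hgg, hgg'⟩ := hS.inv g hg
  have hag' : a * g' = g' * a := by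
    calc a * g' = (g' * g) * (a * g') := by rw [hgg', one_mul]
      _ = g' * ((g * a) * g') := by simp only [mul_assoc]
      _ = g' * ((a * g) * g') := by rw [hag]
      _ = g' * a * (g * g') := by simp only [mul_assoc]
      _ = g' * a := by rw [hgg, mul_one]
  have hna := hS.neg_invol ha
  have hnsn := hns.neg
  have haRn := hS.pauli.neg_mem haR
  by_cases hagree : ∀ f ∈ R, a * f = f * a → ∃ r ∈ R, g * f = r * g
  · -- the element acts as a permutation of the centraliser
    obtain ⟨b, hb, hbb, hab⟩ := hS.pauli.exists_partner haR hns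
    set Q := g * b * g' with hQ
    have hQg : Q * g = g * b := by rw [hQ, mul_assoc _ g' g, hgg', mul_one]
    have hQQ : Q * Q = 1 := by
      rw [hQ, show g * b * g' * (g * b * g') = g * b * (g' * g) * b * g' by simp only [mul_assoc], hgg',
        mul_one, mul_assoc g b b, hbb, mul_one, hgg]
    have hQa : a * Q = -(Q * a) := by
      rw [hQ, ← mul_assoc, ← mul_assoc, hag, mul_assoc g a b, hab, _root_.mul_neg, _root_.neg_mul, ← mul_assoc,
        mul_assoc (g * b) a g', hag', ← mul_assoc]
    have hfin : Finite (Module.End F V) := Module.finite_of_finite F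
    let C := {f : Module.End F V // f ∈ R ∧ a * f = f * a}
    choose r hr hrg using hagree
    have hra : ∀ (f) (hf : f ∈ R) (haf : a * f = f * a), a * r f hf haf = r f hf haf * a := fun f hf haf => by
      have e : (a * r f hf haf) * g = (r f hf haf * a) * g := by
        rw [mul_assoc, ← hrg, ← mul_assoc, hag, mul_assoc, haf, ← mul_assoc, hrg, mul_assoc, ← hag, ← mul_assoc]
      have e' := congrArg (· * g') e
      simpa only [mul_assoc, hgg, mul_one] using e'
    have hsurj : Function.Surjective (fun f : C => (⟨r f.1 f.2.1 f.2.2, hr _ _ _, hra _ _ _⟩ : C)) := by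
      refine Finite.injective_iff_surjective.1 fun f f' e => Subtype.ext ?_
      have e' : g * f.1 = g * f'.1 := by
        rw [hrg f.1 f.2.1 f.2.2, hrg f'.1 f'.2.1 f'.2.2]
        exact congrArg (fun x : C => x.1 * g) e
      have e'' := congrArg (g' * ·) e'
      simpa only [← mul_assoc, hgg', one_mul] using e''
    have hcac : ∀ f ∈ R, a * f = f * a → CAC Q f := by
      intro f hf haf
      obtain ⟨⟨f₀, hf₀, haf₀⟩, e⟩ := hsurj ⟨f, hf, haf⟩
      have e' : f = g * f₀ * g' := by
        rw [hrg f₀ hf₀ haf₀, mul_assoc, hgg, mul_one]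
        exact (congrArg Subtype.val e).symm
      rcases hS.pauli.cac b hb f₀ hf₀ with h | h
      · left
        rw [e', hQ, show g * b * g' * (g * f₀ * g') = g * (b * ((g' * g) * f₀)) * g' by simp only [mul_assoc],
          show g * f₀ * g' * (g * b * g') = g * (f₀ * ((g' * g) * b)) * g' by simp only [mul_assoc], hgg',
          one_mul, one_mul, h]
      · right
        rw [e', hQ, show g * b * g' * (g * f₀ * g') = g * (b * ((g' * g) * f₀)) * g' by simp only [mul_assoc],
          show g * f₀ * g' * (g * b * g') = g * (f₀ * ((g' * g) * b)) * g' by simp only [mul_assoc], hgg',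
          one_mul, one_mul, h, _root_.mul_neg, _root_.neg_mul]
    have hQ0 : Q ≠ 0 := fun e => by rw [e, zero_mul] at hQQ; exact zero_ne_one hQQ
    obtain ⟨r₀, hr₀, hmatch⟩ := hS.pauli.exists_match h2 hQ0
    obtain ⟨c₀, hc₀, hcr, hcrr⟩ := hS.pauli.exists_invol hr₀
    set s := c₀ • r₀ with hs
    set M := Q * s with hM
    have hMc : ∀ f ∈ R, a * f = f * a → M * f = f * M := fun f hf haf => by
      rw [hM, hs, mul_smul_comm, smul_mul_assoc, mul_smul_comm, hmatch f hf (hcac f hf haf)]
    have hMa : a * M = M * a := (hMc a haR rfl).symm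
    have hsa : a * s = -(s * a) := by
      rcases hS.pauli.cac a haR s hcr with h | h
      · exfalso
        have e : M * a = -(M * a) := by
          nth_rewrite 1 [← hMa]
          rw [hM, ← mul_assoc, hQa, _root_.neg_mul, mul_assoc, h, ← mul_assoc]
        have h0 := eq_zero_of_eq_neg h2 e
        have h0' := congrArg (· * a) h0
        simp only [mul_assoc, ha, mul_one, zero_mul] at h0'
        rw [hM] at h0'
        exact hQ0 (hS.pauli.mul_right_cancel (x := Q) (y := 0) hcr (by rw [h0', zero_mul]))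
      · exact h
    obtain ⟨l, hl⟩ := (hS.pauli.restrict h2 ha haR).central (M := res ha M) (by
      rintro _ ⟨f, ⟨hf, haf⟩, rfl⟩
      rw [← res_mul h2 ha haf, hMc f hf haf, res_mul h2 ha hMa])
    obtain ⟨m, hm⟩ := (hS.pauli.restrict h2 hna haRn).central (M := res hna M) (by
      rintro _ ⟨f, ⟨hf, haf⟩, rfl⟩
      have haf' : a * f = f * a := by simpa using haf
      rw [← res_mul h2 hna haf, hMc f hf haf', res_mul h2 hna (by rw [_root_.neg_mul, _root_.mul_neg, hMa])])
    have hMval : M = l • prj a + m • prj (-a) := by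
      refine eq_of_res_eq h2 ha hna hMa (by simp [prj, mul_add, add_mul]) ?_ ?_
      · rw [hl, map_add, map_smul, map_smul, (res_prj_self h2 ha).1, (res_prj_self h2 ha).2, smul_zero, add_zero]
      · have e := res_prj_self h2 hna
        simp only [neg_neg] at e
        rw [hm, map_add, map_smul, map_smul, e.1, e.2, smul_zero, zero_add]
    have hQval : Q = ((l + m) / 2) • s + ((m - l) / 2) • (s * a) := by
      have e : Q = M * s := by rw [hM, mul_assoc, hcrr, mul_one]
      rw [e, hMval]
      simp only [prj, add_mul, smul_mul_assoc, one_mul, _root_.neg_mul, hsa, smul_add, smul_smul, smul_neg, neg_neg]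
      match_scalars <;> ring
    have hlm : l * m = 1 := by
      rw [hQval] at hQQ
      have e1 : s * (s * a) = a := by rw [← mul_assoc, hcrr, one_mul]
      have e2 : s * a * s = -a := by rw [mul_assoc, hsa, _root_.mul_neg, ← mul_assoc, hcrr, one_mul]
      have e3 : s * a * (s * a) = -1 := by rw [← mul_assoc, e2, _root_.neg_mul, ha]
      simp only [mul_add, add_mul, smul_mul_assoc, mul_smul_comm, smul_smul, hcrr, e1, e2, e3] at hQQ
      have e4 : (l * m - 1) • (1 : Module.End F V) = 0 := by
        rw [show l * m - 1 = (l + m) / 2 * ((l + m) / 2) - (m - l) / 2 * ((m - l) / 2) - 1 by field_simp; ring]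
        linear_combination (norm := module) hQQ
      exact sub_eq_zero.1 ((smul_eq_zero.1 e4).resolve_right one_ne_zero)
    by_cases hdeg : l = m ∨ l = -m
    · apply hgn
      have hQR : Q ∈ R := by
        have hl0 : l ≠ 0 := fun e => by rw [e, zero_mul] at hlm; exact zero_ne_one hlm
        rw [hQval]
        rcases hdeg with e | e
        · rw [← e, sub_self, zero_div, zero_smul, add_zero]
          exact hS.pauli.smul_mem (div_ne_zero (by rw [← two_mul]; exact mul_ne_zero h2 hl0) h2) hcr
        · have e' : m = -l := by rw [e, neg_neg]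
          rw [e', add_neg_cancel, zero_div, zero_smul, zero_add]
          exact hS.pauli.smul_mem (div_ne_zero (fun hz => mul_ne_zero h2 hl0 (by linear_combination -hz)) h2)
            (hS.pauli.mul _ hcr _ haR)
      intro f hf
      rcases hS.pauli.cac a haR f hf with h | h
      · exact ⟨r f hf h, hr f hf h, hrg f hf h⟩
      · have hfb := hS.pauli.mul f hf b hb
        have hafb : a * (f * b) = f * b * a := anti_mul h hab
        refine ⟨r _ hfb hafb * Q, hS.pauli.mul _ (hr _ hfb hafb) _ hQR, ?_⟩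
        rw [mul_assoc, hQg, ← mul_assoc, ← hrg, mul_assoc g, mul_assoc f, hbb, mul_one]
    push Not at hdeg
    obtain ⟨c₀, hc₀, hac₀, hnc₀, hnac₀⟩ := hbig
    obtain ⟨c, hc, hac, hsc, hnsc⟩ : ∃ c ∈ R, a * c = c * a ∧ s * c = c * s ∧ NS c := by
      rcases hS.pauli.cac s hcr c₀ hc₀ with h | h
      · exact ⟨c₀, hc₀, hac₀, h, hnc₀⟩
      · exact ⟨c₀ * a, hS.pauli.mul _ hc₀ _ haR, comm_mul hac₀ rfl, anti_mul h (anti_symm hsa), hac₀ ▸ hnac₀⟩
    obtain ⟨d, hd, hdc, hdd⟩ := hS.pauli.exists_invol hc
    set e := d • c with he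
    have hae : a * e = e * a := by rw [he, mul_smul_comm, hac, smul_mul_assoc]
    have hse : s * e = e * s := by rw [he, mul_smul_comm, hsc, smul_mul_assoc]
    have hnse : NS e := fun k hk => hnsc (d⁻¹ * k) (by rw [mul_smul, ← hk, he, inv_smul_smul₀ hd])
    have hQe : e * Q = Q * e := by
      have h5 : e * (s * a) = s * a * e := comm_mul hse.symm hae.symm
      rw [hQval]
      simp only [mul_add, add_mul, mul_smul_comm, smul_mul_assoc, hse, h5]
    have hXS : tEl i Q * tEl i a ∈ S := by
      have h5 : g' * tEl i a = tEl i a * g' := (tEl_commute hag').symm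
      have h6 : tEl i Q * tEl i a = g * (tEl i b * tEl i a) * g' := by
        rw [show g * (tEl i b * tEl i a) * g' = g * tEl i b * (tEl i a * g') by simp only [mul_assoc], ← h5,
          ← mul_assoc]
        simp only [tEl, mul_add, add_mul, mul_one, mul_smul_comm, smul_mul_assoc, hgg, hQ, mul_assoc]
      rw [h6]
      exact hS.mul _ (hS.mul _ hg _ (hS.tel2 b hb hbb (hS.pauli.ns_of_anti h2 hb haR (anti_symm hab)) a haR ha hns)) _ hg'
    obtain ⟨y, hy, hya⟩ := hN e hdc hdd hnse _ hXS (comm_mul ((tEl_commute (i := i) hQe.symm).symm)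
      ((tEl_commute (i := i) hae).symm)) (res hdd a) ⟨a, ⟨haR, hae.symm⟩, rfl⟩
    have := exists_fxd_ne hdd hnse
    haveI : Nontrivial (fxd e) := ⟨⟨this.choose, 0, this.choose_spec⟩⟩
    have hcac := (hS.pauli.restrict h2 hdd hdc).cac y hy _ ⟨s, ⟨hcr, hse.symm⟩, rfl⟩
    rw [res_mul h2 hdd ((tEl_commute (i := i) hae).symm), res_tEl hdd h2, res_tEl hdd h2] at hya
    set a' := res hdd a with ha'
    set s' := res hdd s with hs'
    set Q' := res hdd Q with hQ'
    have a2 : a' * a' = 1 := by rw [ha', ← res_mul h2 hdd hae.symm, ha, res_one h2 hdd]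
    have s2 : s' * s' = 1 := by rw [hs', ← res_mul h2 hdd hse.symm, hcrr, res_one h2 hdd]
    have Q2 : Q' * Q' = 1 := by rw [hQ', ← res_mul h2 hdd hQe, hQQ, res_one h2 hdd]
    have as' : a' * s' = -(s' * a') := by
      rw [ha', hs', ← res_mul h2 hdd hse.symm, hsa, map_neg, res_mul h2 hdd hae.symm]
    have Qa' : Q' * a' = -(a' * Q') := by
      rw [hQ', ha', ← res_mul h2 hdd hae.symm, anti_symm hQa, map_neg, res_mul h2 hdd hQe]
    have ey : y = i • (Q' * a') := by
      rw [mul_assoc, tEl_commute (i := i) (rfl : a' * a' = a' * a'), ← mul_assoc, tEl_conj hS.sqrt Q2 Qa',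
        mul_assoc] at hya
      have h7 := congrArg (· * (tEl (-i) a' * tEl (-i) Q')) hya
      have h8 : tEl i Q' * tEl i a' * (tEl (-i) a' * tEl (-i) Q') = (2 * 2 : F) • 1 := by
        rw [mul_assoc, ← mul_assoc (tEl i a'), tEl_mul_neg hS.sqrt a2, smul_one_mul, mul_smul_comm,
          tEl_mul_neg hS.sqrt Q2, smul_smul]
      simp only [mul_assoc] at h7 h8
      rw [h8, mul_smul_comm, mul_one, mul_smul_comm, mul_one] at h7
      exact (smul_right_injective _ (mul_ne_zero h2 h2) h7).symm
    have eQ : Q' = ((l + m) / 2) • s' + ((m - l) / 2) • (s' * a') := by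
      rw [hQ', hQval, map_add, map_smul _ ((l + m) / 2), map_smul _ ((m - l) / 2), res_mul h2 hdd hae.symm]
    have hl0 : l ≠ 0 := fun e => by rw [e, zero_mul] at hlm; exact zero_ne_one hlm
    have ss : s' * (s' * a') = a' := by rw [← mul_assoc, s2, one_mul]
    have sa : s' * a' * s' = -a' :=
      (mul_assoc _ _ _).trans ((congrArg (s' * ·) as').trans ((mul_neg s' (s' * a')).trans (congrArg Neg.neg ss)))
    rw [ey, eQ] at hcac
    simp only [CAC, add_mul, mul_add, smul_mul_assoc, mul_smul_comm, mul_assoc s' a' a', a2, mul_one, sa, s2, ss,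
      smul_add, smul_neg, smul_smul] at hcac
    rcases hcac with h | h
    · have h9 : (2 * i * ((l + m) / 2)) • a' = 0 := by linear_combination (norm := module) -h
      have ha0 : a' ≠ 0 := fun e => by rw [e, mul_zero] at a2; exact zero_ne_one a2
      have h10 := (mul_eq_zero.1 ((smul_eq_zero.1 h9).resolve_right ha0)).resolve_left (mul_ne_zero h2 hi0)
      exact hdeg.2 (eq_neg_of_add_eq_zero_left ((div_eq_zero_iff.1 h10).resolve_right h2))
    · have h9 : (2 * i * ((m - l) / 2)) • (1 : Module.End F (fxd e)) = 0 := by linear_combination (norm := module) h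
      have h10 := (mul_eq_zero.1 ((smul_eq_zero.1 h9).resolve_right one_ne_zero)).resolve_left (mul_ne_zero h2 hi0)
      exact hdeg.1 (sub_eq_zero.1 ((div_eq_zero_iff.1 h10).resolve_right h2)).symm
  -- the element differs on the two eigenspaces
  push Not at hagree
  obtain ⟨f₀, hf₀, haf₀, hf₀n⟩ := hagree
  obtain ⟨d₀, hd₀, hfR, hff⟩ := hS.pauli.exists_invol hf₀
  set f := d₀ • f₀ with hfdef
  have haf : a * f = f * a := by rw [hfdef, mul_smul_comm, haf₀, smul_mul_assoc]
  have hbad : ∀ r ∈ R, g * f ≠ r * g := fun r hr e => hf₀n (d₀⁻¹ • r) (hS.pauli.smul_mem (inv_ne_zero hd₀) hr) (by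
    rw [smul_mul_assoc, ← e, hfdef, mul_smul_comm, inv_smul_smul₀ hd₀])
  have hfns : NS f := fun c hc => hbad f hfR (by rw [hc, mul_smul_comm, mul_one, smul_mul_assoc, one_mul])
  have hafns : NS (a * f) := fun c hc => hbad f hfR (by
    have e : f = c • a := by
      rw [← one_mul f, ← ha, mul_assoc, hc, mul_smul_comm, mul_one]
    rw [e, mul_smul_comm, smul_mul_assoc, hag])
  have side : ∀ (c : Module.End F V), c ∈ R → ∀ hc : c * c = 1, NS c → c * g = g * c → c * g' = g' * c →
      c * f = f * c → NS (c * f) →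
      ∃ u ∈ R, c * u = u * c ∧ u * u = 1 ∧ NS (res hc u) ∧ res hc (g * f) = res hc (u * g) := by
    intro c hcR hc hnsc hcg hcg' hcf hcfn
    obtain ⟨y, ⟨u, ⟨hu, hcu⟩, rfl⟩, e⟩ := hN c hcR hc hnsc g hg hcg _ ⟨f, ⟨hfR, hcf⟩, rfl⟩
    have e1 : res hc g * res hc g' = 1 := by rw [← res_mul h2 hc hcg', hgg, res_one h2 hc]
    have e1' : res hc g' * res hc g = 1 := by rw [← res_mul h2 hc hcg, hgg', res_one h2 hc]
    have e2 : res hc u = res hc g * res hc f * res hc g' := by rw [e, mul_assoc, e1, mul_one]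
    refine ⟨u, hu, hcu, hS.res_sq_one hc hnsc hu hcu ?_, fun k hk => ?_, by
      rw [res_mul h2 hc hcf, res_mul h2 hc hcg]; exact e⟩
    · rw [e2, show res hc g * res hc f * res hc g' * (res hc g * res hc f * res hc g') =
          res hc g * res hc f * (res hc g' * res hc g) * res hc f * res hc g' by simp only [mul_assoc],
        e1', mul_one, mul_assoc (res hc g) _ (res hc f), ← res_mul h2 hc hcf, hff, res_one h2 hc, mul_one, e1]
    · refine hS.res_ns hcR hc hnsc hfR hcf hfns hcfn k ?_
      have h4 := congrArg (fun X => res hc g' * X * res hc g) e2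
      simp only [hk, mul_smul_comm, mul_one, smul_mul_assoc, e1', ← mul_assoc, one_mul] at h4
      rw [mul_assoc, e1', mul_one] at h4
      exact h4.symm
  obtain ⟨u, hu, hau, huu, huns, hue⟩ := side a haR ha hns hag hag' haf hafns
  obtain ⟨w, hw, haw', hww, hwns, hwe⟩ := side (-a) haRn hna hnsn (by rw [_root_.neg_mul, _root_.mul_neg, hag])
    (by rw [_root_.neg_mul, _root_.mul_neg, hag']) (by rw [_root_.neg_mul, _root_.mul_neg, haf]) (by rw [_root_.neg_mul]; exact hafns.neg)
  have haw : a * w = w * a := by simpa using haw'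
  -- the elements u and w are independent modulo a
  have hself : res hna a = -1 := by
    have e := res_self h2 hna
    rw [map_neg] at e
    exact neg_eq_iff_eq_neg.1 e
  have hagree' : ∀ (r : Module.End F V), r ∈ R → a * r = r * a → res ha r = res ha u →
      res hna r = res hna w → False := fun r hr har h3 h4 => by
    refine hbad r hr (eq_of_res_eq h2 ha hna (comm_mul hag haf) (comm_mul har hag) ?_ ?_)
    · rw [hue, res_mul h2 ha hag, res_mul h2 ha hag, h3]
    · rw [hwe, res_mul h2 hna (by rw [_root_.neg_mul, _root_.mul_neg, hag]), res_mul h2 hna (by rw [_root_.neg_mul, _root_.mul_neg, hag]), h4]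
  let kEl : Module.End F V → Module.End F V → Module.End F V := fun u w =>
    prj a + prj (-a) * ((2 : F)⁻¹ • (tEl (-i) u * tEl i w))
  have pp : prj a * prj a = prj a := prj_sq h2 ha
  have qq : prj (-a) * prj (-a) = prj (-a) := prj_sq h2 hna
  have pq : prj a * prj (-a) = 0 ∧ prj (-a) * prj a = 0 := by
    constructor <;>
      (simp only [prj, mul_add, add_mul, smul_mul_assoc, mul_smul_comm, mul_one, one_mul, _root_.neg_mul, _root_.mul_neg,
        ha, smul_smul, smul_add, smul_neg]
       match_scalars <;> ring)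
  have hpc : ∀ x, a * x = x * a → prj a * x = x * prj a ∧ prj (-a) * x = x * prj (-a) := fun x hx => by
    simp [prj, mul_add, add_mul, hx]
  have hta : ∀ (c : F) x, a * x = x * a → a * tEl c x = tEl c x * a := fun c x hx =>
    (tEl_commute hx.symm).symm
  have hk0 : kEl u w ∈ S := by
    have e : g * tEl i f * g' = prj a * tEl i u + prj (-a) * tEl i w := by
      have c1 : a * (g * tEl i f * g') = g * tEl i f * g' * a :=
        comm_mul (comm_mul hag (hta i f haf)) hag'
      have c2 : a * (prj a * tEl i u + prj (-a) * tEl i w) = (prj a * tEl i u + prj (-a) * tEl i w) * a := by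
        rw [mul_add, add_mul, comm_mul (by simp [prj, mul_add, add_mul]) (hta i u hau),
          comm_mul (by simp [prj, mul_add, add_mul]) (hta i w haw)]
      have key : ∀ (c : Module.End F V) (hc : c * c = 1), c * g = g * c → c * g' = g' * c → c * f = f * c →
          ∀ v, res hc (g * f) = res hc (v * g) → res hc (g * tEl i f * g') = tEl i (res hc v) := by
        intro c hc hcg hcg' hcf v hv
        have : res hc (g * tEl i f * g') = res hc (tEl i v * g * g') := by
          rw [res_mul h2 hc hcg', res_mul h2 hc hcg' (f := tEl i v * g)]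
          congr 1
          simp only [tEl, mul_add, add_mul, mul_one, one_mul, mul_smul_comm, smul_mul_assoc, map_add, map_smul, hv]
        rw [this, mul_assoc, hgg, mul_one, res_tEl hc h2]
      have r1 := res_prj_self h2 ha
      have r2 := res_prj_self h2 hna
      simp only [neg_neg] at r2
      refine eq_of_res_eq h2 ha hna c1 c2 ?_ ?_
      · rw [key a ha hag hag' haf u hue, map_add, res_mul h2 ha (hta i u hau), res_mul h2 ha (hta i w haw),
          r1.1, r1.2, one_mul, zero_mul, add_zero, res_tEl ha h2]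
      · rw [key (-a) hna (by rw [_root_.neg_mul, _root_.mul_neg, hag]) (by rw [_root_.neg_mul, _root_.mul_neg, hag'])
            (by rw [_root_.neg_mul, _root_.mul_neg, haf]) w hwe, map_add,
          res_mul h2 hna (by rw [_root_.neg_mul, _root_.mul_neg, hta i u hau]),
          res_mul h2 hna (by rw [_root_.neg_mul, _root_.mul_neg, hta i w haw]), r2.2, r2.1, zero_mul, one_mul, zero_add,
          res_tEl hna h2]
    have hca : tEl i a * g' = g' * tEl i a := tEl_commute hag'
    have hX : g * tEl i f * g' * tEl i a ∈ S := by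
      rw [mul_assoc (g * tEl i f), ← hca, ← mul_assoc, mul_assoc g]
      exact hS.mul _ (hS.mul _ hg _ (hS.tel2 f hfR hff hfns a haR ha hns)) _ hg'
    rw [e] at hX
    set Y := prj a * tEl i u + prj (-a) * tEl i w with hY
    have hYa : a * Y = Y * a := by
      rw [hY, mul_add, add_mul, comm_mul (by simp [prj, mul_add, add_mul]) (hta i u hau),
        comm_mul (by simp [prj, mul_add, add_mul]) (hta i w haw)]
    have hm0 := hS.smul_mem (inv_ne_zero (mul_ne_zero h2 h2))
      (hS.mul _ (hS.tel2 _ (hS.pauli.neg_mem hu) (by rw [neg_mul_neg, huu])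
        (NS.neg' fun c hc => huns c (by rw [hc, map_smul, res_one h2 ha])) _ haRn hna hnsn) _ hX)
    rw [← tEl_neg, ← tEl_neg] at hm0
    have hm : (2 : F)⁻¹ • (tEl (-i) u * Y) ∈ S := by
      have h5 : tEl (-i) a * (Y * tEl i a) = (2 : F) • Y := by
        rw [← tEl_commute (i := i) hYa, ← mul_assoc, show tEl (-i) a * tEl i a = (2 : F) • 1 by
          have := tEl_mul_neg (i := -i) (by linear_combination hS.sqrt) ha
          rwa [neg_neg] at this, smul_one_mul]
      rw [mul_assoc, h5, mul_smul_comm, smul_smul] at hm0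
      rwa [show ((2 : F) * 2)⁻¹ * 2 = 2⁻¹ by field_simp] at hm0
    have e2 : tEl (-i) u * tEl i u = (2 : F) • 1 := by
      have := tEl_mul_neg (i := -i) (by linear_combination hS.sqrt) huu
      rwa [neg_neg] at this
    have e' : kEl u w = (2 : F)⁻¹ • (tEl (-i) u * (prj a * tEl i u + prj (-a) * tEl i w)) := by
      have c := hpc (tEl (-i) u) (hta _ u hau)
      show prj a + prj (-a) * _ = _
      rw [mul_add, ← mul_assoc, ← mul_assoc, ← c.1, ← c.2, mul_assoc (prj a), e2, mul_assoc (prj (-a)), smul_add,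
        mul_smul_comm (2 : F) (prj a) 1, smul_smul, inv_mul_cancel₀ h2, one_smul, mul_one,
        ← mul_smul_comm (2 : F)⁻¹ (prj (-a))]
    rwa [e']
  obtain ⟨u₁, w₁, hu₁, hw₁, hau₁, haw₁, huu₁, hww₁, hanti, hk₁⟩ : ∃ u₁ w₁, u₁ ∈ R ∧ w₁ ∈ R ∧
      a * u₁ = u₁ * a ∧ a * w₁ = w₁ * a ∧ u₁ * u₁ = 1 ∧ w₁ * w₁ = 1 ∧ u₁ * w₁ = -(w₁ * u₁) ∧ kEl u₁ w₁ ∈ S := by
    rcases hS.pauli.cac u hu w hw with huw | huw
    swap
    · exact ⟨u, w, hu, hw, hau, haw, huu, hww, huw, hk0⟩
    have hnsu : NS u := fun k hk => huns k (by rw [hk, map_smul, res_one h2 ha])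
    have hnsau : NS (a * u) := fun k hk => huns k (by
      rw [← one_mul (res ha u), ← res_self h2 ha, ← res_mul h2 ha hau, hk, map_smul, res_one h2 ha, res_self h2 ha])
    have h1w : ∀ k : F, w = k • 1 → False := fun k hk => hwns k (by rw [hk, map_smul, res_one h2 hna])
    have h2w : ∀ k : F, w = k • a → False := fun k hk => hwns (-k) (by
      rw [hk, map_smul, hself, smul_neg]; exact (neg_smul _ _).symm)
    have hneg : res hna (a * u) = -res hna u := by
      rw [show a * u = -((-a) * u) by rw [_root_.neg_mul, neg_neg], map_neg,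
        res_mul h2 hna (by rw [_root_.neg_mul, _root_.mul_neg, hau]), res_self h2 hna, one_mul]
    have h3w : ∀ k : F, w = k • u → False := fun k hk => by
      have hk2 : k * k = 1 := by
        rw [hk, smul_mul_assoc, mul_smul_comm, smul_smul, huu] at hww
        have h5 : (k * k - 1) • (1 : Module.End F V) = 0 := by rw [sub_smul, hww, one_smul, sub_self]
        exact sub_eq_zero.1 ((smul_eq_zero.1 h5).resolve_right one_ne_zero)
      rcases mul_self_eq_one_iff.1 hk2 with rfl | rfl
      · exact hagree' u hu hau rfl (by rw [hk, one_smul])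
      · refine hagree' (a * u) (hS.pauli.mul _ haR _ hu) (comm_mul rfl hau) ?_ ?_
        · rw [res_mul h2 ha hau, res_self h2 ha, one_mul]
        · rw [hneg, hk, map_smul]; exact (neg_one_smul F _).symm
    have h4w : ∀ k : F, w = k • (a * u) → False := fun k hk => by
      have hau' : a * u * (a * u) = 1 := by
        rw [mul_assoc, ← mul_assoc u a u, ← hau, mul_assoc a u u, huu, mul_one, ha]
      have hk2 : k * k = 1 := by
        rw [hk, smul_mul_assoc, mul_smul_comm, smul_smul, hau'] at hww
        have h5 : (k * k - 1) • (1 : Module.End F V) = 0 := by rw [sub_smul, hww, one_smul, sub_self]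
        exact sub_eq_zero.1 ((smul_eq_zero.1 h5).resolve_right one_ne_zero)
      rcases mul_self_eq_one_iff.1 hk2 with rfl | rfl
      · refine hagree' (a * u) (hS.pauli.mul _ haR _ hu) (comm_mul rfl hau) ?_ (by rw [hk, one_smul])
        rw [res_mul h2 ha hau, res_self h2 ha, one_mul]
      · refine hagree' u hu hau rfl ?_
        rw [hk, map_smul, hneg]; exact (neg_neg _).symm.trans (neg_one_smul F _).symm
    have hout : NS w ∧ NS (w * a) ∧ NS (w * u) ∧ NS (w * (a * u)) := by
      refine ⟨fun k hk => h1w k hk, fun k hk => h2w k ?_, fun k hk => h3w k ?_, fun k hk => h4w k ?_⟩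
      · have := congrArg (· * a) hk
        rwa [mul_assoc, ha, mul_one, smul_mul_assoc, one_mul] at this
      · have := congrArg (· * u) hk
        rwa [mul_assoc, huu, mul_one, smul_mul_assoc, one_mul] at this
      · have := congrArg (· * (a * u)) hk
        rwa [mul_assoc, mul_assoc a u, ← mul_assoc u a, ← hau, mul_assoc a u, huu, mul_one, ha, mul_one,
          smul_mul_assoc, one_mul] at this
    obtain ⟨c, hc, hcc, hac, huc, hwc⟩ :=
      hS.pauli.exists_split h2 haR hu hw hau haw hns hnsu hnsau hout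
    set w' := i • (c * w) with hw'
    have hcw : c * w = -(w * c) := anti_symm hwc
    have hw'ww : w' * w' = 1 := by
      rw [hw', smul_mul_assoc, mul_smul_comm, smul_smul, hS.sqrt, mul_assoc, ← mul_assoc w c w, hwc, _root_.neg_mul,
        mul_assoc c w w, hww, mul_one, _root_.mul_neg, hcc, smul_neg, neg_smul, one_smul, neg_neg]
    have haw'' : a * w' = w' * a := by rw [hw', mul_smul_comm, comm_mul hac haw, smul_mul_assoc]
    refine ⟨w, w', hw, hS.pauli.smul_mem hi0 (hS.pauli.mul c hc w hw), haw, haw'', hww, hw'ww, ?_, ?_⟩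
    · rw [hw', mul_smul_comm, smul_mul_assoc, ← mul_assoc, hwc, _root_.neg_mul, mul_assoc c w w, ← smul_neg]
    · -- conjugate and divide
      have htc : tEl i c * tEl i a ∈ S :=
        hS.tel2 c hc hcc (hS.pauli.ns_of_anti h2 hc hw hcw) a haR ha hns
      have ec : tEl i c * kEl u w = kEl u w' * tEl i c := by
        have c1 := hpc (tEl i c) (hta i c hac)
        have e1 : tEl i c * tEl (-i) u = tEl (-i) u * tEl i c := by
          have h5 : tEl i c * u = u * tEl i c := tEl_commute huc.symm
          simp only [show tEl (-i) u = 1 + (-i) • u from rfl, mul_add, add_mul, mul_one, one_mul, mul_smul_comm,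
            smul_mul_assoc, h5]
        have e2 : tEl i c * tEl i w = tEl i w' * tEl i c := by
          have h5 : tEl i c * w = w' * tEl i c := tEl_conj hS.sqrt hcc hcw
          simp only [show tEl i w = 1 + i • w from rfl, show tEl i w' = 1 + i • w' from rfl, mul_add, add_mul,
            mul_one, one_mul, mul_smul_comm, smul_mul_assoc, h5]
        simp only [kEl, mul_add, add_mul, ← c1.1, ← mul_assoc, ← c1.2]
        rw [mul_assoc (prj (-a)), mul_assoc (prj (-a))]
        congr 2
        rw [mul_smul_comm, smul_mul_assoc, ← mul_assoc, e1, mul_assoc, e2, ← mul_assoc]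
      have hk' : kEl u w' ∈ S := by
        have hka : a * kEl u w = kEl u w * a := by
          simp only [kEl]
          rw [mul_add, add_mul, comm_mul (by simp [prj, mul_add, add_mul]) (by
            rw [mul_smul_comm, comm_mul (hta _ u hau) (hta _ w haw), smul_mul_assoc])]
          simp [prj, mul_add, add_mul]
        obtain ⟨t', ht', htt, -⟩ := hS.inv _ htc
        have ec : tEl i c * tEl i a * kEl u w = kEl u w' * (tEl i c * tEl i a) := by
          rw [mul_assoc, tEl_commute hka, ← mul_assoc, ec, mul_assoc]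
        have e := congrArg (· * t') ec
        simp only [mul_assoc, htt, mul_one] at e
        exact e ▸ hS.mul _ htc _ (hS.mul _ hk0 _ ht')
      let k2 := prj a + prj (-a) * ((2 : F)⁻¹ • (tEl (-i) w * tEl i u))
      have hinv : ∀ y : Module.End F V, a * y = y * a → ∀ z : Module.End F V, a * z = z * a →
          (prj a + prj (-a) * y) * (prj a + prj (-a) * z) = prj a + prj (-a) * (y * z) := by
        intro y hy z hz
        rw [mul_add, add_mul, add_mul, pp, mul_assoc (prj (-a)) y (prj a), ← (hpc y hy).1, ← mul_assoc (prj (-a)),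
          pq.2, zero_mul, add_zero, ← mul_assoc (prj a), pq.1, zero_mul, zero_add, mul_assoc (prj (-a)) y,
          ← mul_assoc y (prj (-a)) z, ← (hpc y hy).2, mul_assoc (prj (-a)) y z, ← mul_assoc (prj (-a)) (prj (-a)), qq]
      have cz : ∀ (x y : Module.End F V), a * x = x * a → a * y = y * a →
          a * ((2 : F)⁻¹ • (tEl (-i) x * tEl i y)) = (2 : F)⁻¹ • (tEl (-i) x * tEl i y) * a := fun x y hx hy => by
        rw [mul_smul_comm, comm_mul (hta _ x hx) (hta _ y hy), smul_mul_assoc]
      have eu : tEl i u * tEl (-i) u = (2 : F) • 1 := tEl_mul_neg hS.sqrt huu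
      have ew : tEl i w * tEl (-i) w = (2 : F) • 1 := tEl_mul_neg hS.sqrt hww
      have ew' : tEl (-i) w * tEl i w = (2 : F) • 1 := by
        have := tEl_mul_neg (i := -i) (by linear_combination hS.sqrt) hww
        rwa [neg_neg] at this
      have eu' : tEl (-i) u * tEl i u = (2 : F) • 1 := by
        have := tEl_mul_neg (i := -i) (by linear_combination hS.sqrt) huu
        rwa [neg_neg] at this
      have hk2 : k2 ∈ S := hS.inv_mem hk0 (by
        show kEl u w * k2 = 1
        rw [hinv _ (cz u w hau haw) _ (cz w u haw hau), half_mul h2 ew, eu', smul_smul, inv_mul_cancel₀ h2,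
          one_smul, mul_one]
        simp [prj]
        match_scalars <;> field_simp <;> ring)
      have := hS.mul _ hk2 _ hk'
      rw [hinv _ (cz w u haw hau) _ (cz u w' hau haw''), half_mul h2 eu] at this
      exact this
  -- the five anticommuting involutions
  obtain ⟨b, hb, hbb, hab, hub, hwb⟩ : ∃ b ∈ R, b * b = 1 ∧ a * b = -(b * a) ∧ u₁ * b = b * u₁ ∧
      w₁ * b = b * w₁ := by
    have hnsau : NS (a * u₁) := fun k hk => by
      have e : u₁ = k • a := by rw [← one_mul u₁, ← ha, mul_assoc, hk, mul_smul_comm, mul_one]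
      have e2 : u₁ * w₁ = w₁ * u₁ := by rw [e, smul_mul_assoc, mul_smul_comm, haw₁]
      rw [hanti] at e2
      have e3 := eq_zero_of_eq_neg h2 e2.symm
      exact hS.pauli.ne_zero (hS.pauli.mul _ hw₁ _ hu₁) e3
    obtain ⟨b₀, hb₀, hbb₀, hab₀, hub₀⟩ := hS.pauli.exists_partner_two h2 haR hu₁ hau₁ hns hnsau
    rcases hS.pauli.cac w₁ hw₁ b₀ hb₀ with h | h
    · exact ⟨b₀, hb₀, hbb₀, hab₀, hub₀, h⟩
    · refine ⟨b₀ * u₁, hS.pauli.mul _ hb₀ _ hu₁, ?_, anti_comm_mul hab₀ hau₁, comm_mul hub₀ rfl,
        anti_mul h (anti_symm hanti)⟩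
      rw [mul_assoc, ← mul_assoc u₁ b₀ u₁, hub₀, mul_assoc b₀ u₁ u₁, huu₁, mul_one, hbb₀]
  set I := (-i) • u₁ with hI
  set J := i • w₁ with hJ
  have hII : I * I = -1 := by
    rw [hI, smul_mul_assoc, mul_smul_comm, smul_smul, huu₁, neg_mul_neg, hS.sqrt, neg_smul, one_smul]
  have hJJ : J * J = -1 := by
    rw [hJ, smul_mul_assoc, mul_smul_comm, smul_smul, hww₁, hS.sqrt, neg_smul, one_smul]
  have hIJ : I * J = -(J * I) := by
    rw [hI, hJ, smul_mul_assoc, mul_smul_comm, smul_mul_assoc, mul_smul_comm, hanti, smul_smul, smul_smul,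
      smul_neg, mul_comm (-i) i]
  have hIm : I ∈ R := hS.pauli.smul_mem (neg_ne_zero.2 hi0) hu₁
  have hJm : J ∈ R := hS.pauli.smul_mem hi0 hw₁
  have haI : a * I = I * a := by rw [hI, mul_smul_comm, hau₁, smul_mul_assoc]
  have haJ : a * J = J * a := by rw [hJ, mul_smul_comm, haw₁, smul_mul_assoc]
  have hbI : b * I = I * b := by rw [hI, mul_smul_comm, ← hub, smul_mul_assoc]
  have hbJ : b * J = J * b := by rw [hJ, mul_smul_comm, ← hwb, smul_mul_assoc]
  have hba : b * a = -(a * b) := anti_symm hab
  have hJI : J * I = -(I * J) := anti_symm hIJ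
  have aI : ∀ X, I * (I * X) = -X := fun X => by rw [← mul_assoc, hII, _root_.neg_mul, one_mul]
  have aJ : ∀ X, J * (J * X) = -X := fun X => by rw [← mul_assoc, hJJ, _root_.neg_mul, one_mul]
  have aJI : ∀ X, J * (I * X) = -(I * (J * X)) := fun X => by rw [← mul_assoc, hJI, _root_.neg_mul, mul_assoc]
  have aa : ∀ X, a * (a * X) = X := fun X => by rw [← mul_assoc, ha, one_mul]
  have bb : ∀ X, b * (b * X) = X := fun X => by rw [← mul_assoc, hbb, one_mul]
  have aba : ∀ X, a * (b * X) = -(b * (a * X)) := fun X => by rw [← mul_assoc, hab, _root_.neg_mul, mul_assoc]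
  have Ib : ∀ X, I * (b * X) = b * (I * X) := fun X => by rw [← mul_assoc, ← hbI, mul_assoc]
  have Jb : ∀ X, J * (b * X) = b * (J * X) := fun X => by rw [← mul_assoc, ← hbJ, mul_assoc]
  have Ia : ∀ X, I * (a * X) = a * (I * X) := fun X => by rw [← mul_assoc, ← haI, mul_assoc]
  have Ja : ∀ X, J * (a * X) = a * (J * X) := fun X => by rw [← mul_assoc, ← haJ, mul_assoc]
  let Q : Fin 5 → Module.End F V := ![b * (a * I), b * (a * J), b * (a * (I * J)), b, a]
  have hQ : Five Q := by
    constructor
    · intro j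
      fin_cases j <;>
        simp [Q, mul_assoc, Ib, Jb, Ia, Ja, aba, bb, aa, aI, aJ, aJI, hII, hJJ, hJI, hbb, ha, ← hbI, ← hbJ]
    · intro j k hjk
      fin_cases j <;> fin_cases k <;>
        first
        | exact absurd rfl hjk
        | simp [Q, mul_assoc, Ib, Jb, Ia, Ja, aba, bb, aa, aI, aJ, aJI, hII, hJJ, hJI, hbb, ha, ← hbI, ← hbJ,
            ← haI, ← haJ, hab]
  have hQR : ∀ k, Q k ∈ R := by
    intro k
    fin_cases k
    · exact hS.pauli.mul _ hb _ (hS.pauli.mul _ haR _ hIm)
    · exact hS.pauli.mul _ hb _ (hS.pauli.mul _ haR _ hJm)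
    · exact hS.pauli.mul _ hb _ (hS.pauli.mul _ haR _ (hS.pauli.mul _ hIm _ hJm))
    · exact hb
    · exact haR
  set h : F := (2 : F)⁻¹ with hh
  have hh1 : 2 * h = 1 := mul_inv_cancel₀ h2
  have hkI : kEl u₁ w₁ = prj a + prj (-a) * (h • (1 + I + J + I * J)) := by
    have e : tEl (-i) u₁ * tEl i w₁ = 1 + I + J + I * J := by
      simp only [tEl, hI, hJ, mul_add, add_mul, mul_one, one_mul]
      abel
    simp only [kEl, e, ← hh]
  have hUS : lin5 Q ![h, h, h, h, 0] ∈ S := by
    obtain ⟨k', hk', hkk, -⟩ := hS.inv _ hk₁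
    have e : kEl u₁ w₁ * b = lin5 Q ![h, h, h, h, 0] * kEl u₁ w₁ := by
      rw [hkI]
      simp [lin5, Fin.sum_univ_five, Q, prj, mul_add, add_mul, smul_mul_assoc, mul_smul_comm, mul_assoc,
        Ib, Jb, Ia, Ja, aba, bb, aa, aI, aJ, aJI, hII, hJJ, hJI, hbb, ha, ← hbI, ← hbJ, ← haI, ← haJ, hab, ← hh,
        smul_smul, smul_add]
      match_scalars <;> grind
    have e' := congrArg (· * k') e
    simp only [mul_assoc, hkk, mul_one] at e'
    exact e' ▸ hS.mul _ hk₁ _ (hS.mul _ (hS.le hb) _ hk')
  have hU'S : lin5 Q ![h, h, h, 0, h] ∈ S := by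
    set y := i • (a * b) with hy
    have hyR : y ∈ R := hS.pauli.smul_mem hi0 (hS.pauli.mul _ haR _ hb)
    have hyy : y * y = 1 := by
      rw [hy, smul_mul_assoc, mul_smul_comm, smul_smul, hS.sqrt, mul_assoc, ← mul_assoc b a b, hba, _root_.neg_mul,
        mul_assoc a b b, hbb, mul_one, _root_.mul_neg, ha, smul_neg, neg_smul, one_smul, neg_neg]
    set z := i • (Q 0 * Q 1) with hz
    have hzR : z ∈ R := hS.pauli.smul_mem hi0 (hS.pauli.mul _ (hQR 0) _ (hQR 1))
    have hzz : z * z = 1 := by
      rw [hz, smul_mul_assoc, mul_smul_comm, smul_smul, hS.sqrt, mul_assoc, ← mul_assoc (Q 1), hQ.2 1 0 (by decide),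
        _root_.neg_mul, mul_assoc (Q 0), hQ.1, mul_one, _root_.mul_neg, hQ.1, smul_neg, neg_smul, one_smul, neg_neg]
    have hny : NS y := hS.pauli.ns_of_anti h2 hyR haR (by
      rw [hy, smul_mul_assoc, mul_smul_comm, mul_assoc, hba, _root_.mul_neg, smul_neg])
    have hnz : NS z := hS.pauli.ns_of_anti h2 hzR (hQR 0) (by
      rw [hz, smul_mul_assoc, mul_smul_comm, mul_assoc, hQ.2 1 0 (by decide), _root_.mul_neg, smul_neg])
    have hty := hS.tel2 y hyR hyy hny z hzR hzz hnz
    obtain ⟨t', ht', -, htt⟩ := hS.inv _ hty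
    have e : tEl i y * tEl i z * lin5 Q ![h, -h, h, 0, h] = lin5 Q ![h, h, h, h, 0] * (tEl i y * tEl i z) := by
      simp [lin5, Fin.sum_univ_five, Q, tEl, hy, hz, mul_add, add_mul, smul_mul_assoc, mul_smul_comm, mul_assoc,
        Ib, Jb, Ia, Ja, aba, bb, aa, aI, aJ, aJI, hII, hJJ, hJI, hbb, ha, ← hbI, ← hbJ, ← haI, ← haJ, hab,
        smul_smul, smul_add]
      match_scalars <;> grind [hS.sqrt]
    have e' := congrArg (t' * ·) e
    simp only [← mul_assoc, htt, one_mul] at e'
    have hw : lin5 Q ![h, -h, h, 0, h] ∈ S := by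
      rw [e']
      exact hS.mul _ (hS.mul _ (hS.mul _ ht' _ hUS) _ (hS.le (hS.pauli.one_mem))) _ hty
    have h0 := hS.mul _ (hS.mul _ (hS.le (hQR 3)) _ (hS.mul _ (hS.mul _ (hS.le (hQR 1)) _ hw) _ (hS.le (hQR 1))))
      _ (hS.le (hQR 3))
    rw [hQ.conj_single, hQ.conj_single] at h0
    convert h0 using 2
    funext k; fin_cases k <;> simp
  obtain ⟨x, hx3, hWS, hxd, hc1, hc2, hc3, hc4⟩ := hS.exists_witness hF hp5 hp7 hQ hQR hh1 hUS hU'S
  have hnsb : NS b := fun k hk => by
    have e : k • a = -(k • a) := by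
      calc k • a = a * b := by rw [hk, mul_smul_comm, mul_one]
        _ = -(b * a) := hab
        _ = -(k • a) := by rw [hk, smul_mul_assoc, one_mul]
    have h5 := (smul_eq_zero.1 (eq_zero_of_eq_neg h2 e)).resolve_right (hS.pauli.ne_zero haR)
    exact hS.pauli.ne_zero hb (by rw [hk, h5, zero_smul])
  have hWb : b * (lin5 Q x * Q 4) = lin5 Q x * Q 4 * b := by
    simp [lin5, Fin.sum_univ_five, Q, hx3, mul_add, add_mul, smul_mul_assoc, mul_smul_comm, mul_assoc,
      Ib, Jb, Ia, Ja, aba, bb, aa, aI, aJ, aJI, hII, hJJ, hJI, hbb, ha, ← hbI, ← hbJ, ← haI, ← haJ, hab]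
  obtain ⟨y, hy, hyW⟩ := hN b hb hbb hnsb _ hWS hWb (res hbb I) ⟨I, ⟨hIm, hbI⟩, rfl⟩
  have := exists_fxd_ne hbb hnsb
  haveI : Nontrivial (fxd b) := ⟨⟨this.choose, 0, this.choose_spec⟩⟩
  set I' := res hbb I with hI'
  set J' := res hbb J with hJ'
  have eI : I' * I' = -1 := by rw [hI', ← res_mul h2 hbb hbI, hII, map_neg, res_one h2 hbb]
  have eJ : J' * J' = -1 := by rw [hJ', ← res_mul h2 hbb hbJ, hJJ, map_neg, res_one h2 hbb]
  have eIJ : I' * J' = -(J' * I') := by
    rw [hI', hJ', ← res_mul h2 hbb hbJ, hIJ, map_neg, res_mul h2 hbb hbI]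
  have hbIJ : b * (I * J) = I * J * b := comm_mul hbI hbJ
  have hW' : res hbb (lin5 Q x * Q 4) = x 4 • 1 + x 0 • I' + x 1 • J' + x 2 • (I' * J') := by
    have e : lin5 Q x * Q 4 = x 4 • 1 + x 0 • (b * I) + x 1 • (b * J) + x 2 • (b * (I * J)) := by
      simp [lin5, Fin.sum_univ_five, Q, hx3, mul_add, add_mul, smul_mul_assoc, mul_assoc,
        Ib, Jb, Ia, Ja, aba, bb, aa, hbb, ha, ← haI, ← haJ]
      abel
    rw [e]
    simp only [map_add, map_smul, res_one h2 hbb, res_mul h2 hbb hbI, res_mul h2 hbb hbJ, res_mul h2 hbb hbIJ,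
      res_self h2 hbb, one_mul, hI', hJ']
  rw [hW'] at hyW
  have hWW : (x 4 • 1 + x 0 • I' + x 1 • J' + x 2 • (I' * J')) *
      (x 4 • (1 : Module.End F (fxd b)) - x 0 • I' - x 1 • J' - x 2 • (I' * J')) = 1 :=
    quat_inv eI eJ eIJ (by rw [← hxd]; simp [dot5, Fin.sum_univ_five, hx3]; ring)
  have hyv := congrArg (· * (x 4 • (1 : Module.End F (fxd b)) - x 0 • I' - x 1 • J' - x 2 • (I' * J'))) hyW
  rw [quat_conj eI eJ eIJ, mul_assoc y, hWW, mul_one] at hyv
  have hcac : CAC y J' := (hS.pauli.restrict h2 hbb hb).cac _ hy _ ⟨J, ⟨hJm, hbJ⟩, rfl⟩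
  rw [← hyv] at hcac
  exact quat_bad h2 eI eJ eIJ (mul_ne_zero h2 hc1) (mul_ne_zero h2 hc4) hcac

end

end Cfsg.Agent.C6Two
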