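/-
The end of the maximality argument: fusion is controlled, the involutions of the system have one fixed
point each, and an odd transitive group leads to a contradiction. Main results: `exists_odd_transitive`,
`Setup.fusion`, `Setup.main`.
-/
import Cfsg.Agent.Lib.C6Two.Step
import Cfsg.Agent.Lib.Aschbacher.Basic

set_option autoImplicit false
set_option linter.unusedSectionVars false

namespace Cfsg.Agent.C6Two

open Matrix
open Cfsg.Agent

/-- Abstract end game: an odd subgroup transitive on the nontrivial elements of the abelian subgroup. -/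
theorem exists_odd_transitive {Q : Type*} [Group Q] [Finite Q] (Rb H : Subgroup Q) (hle : Rb ≤ H)
    (hsq : ∀ x ∈ Rb, x * x = 1) (hne : Rb ≠ ⊥) (hH : H ≠ ⊤)
    (hnorm : ∀ g ∈ H, ∀ x ∈ Rb, g * x * g⁻¹ ∈ Rb)
    (hrec : ∀ g : Q, (∀ x ∈ Rb, g * x * g⁻¹ ∈ Rb) → g ∈ H)
    (hcen : ∀ x ∈ Rb, x ≠ 1 → ∀ c : Q, c * x = x * c → c ∈ H)
    (hfus : ∀ x ∈ Rb, ∀ g : Q, g * x * g⁻¹ ∈ H → g * x * g⁻¹ ∈ Rb) :
    ∃ O : Subgroup Q, O ≤ H ∧ Odd (Nat.card O) ∧
      ∀ x ∈ Rb, x ≠ 1 → ∀ y ∈ Rb, y ≠ 1 → ∃ a ∈ O, a * x * a⁻¹ = y := by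
  classical
  have hab : ∀ x ∈ Rb, ∀ y ∈ Rb, x * y = y * x := fun x hx y hy => by
    have hi : ∀ z ∈ Rb, z⁻¹ = z := fun z hz => inv_eq_of_mul_eq_one_left (hsq z hz)
    calc x * y = (x * y)⁻¹ := (hi _ (mul_mem hx hy)).symm
      _ = y * x := by rw [_root_.mul_inv_rev, hi x hx, hi y hy]
  have ti : ∀ x ∈ Rb, x ≠ 1 → ∀ g : Q, g * x * g⁻¹ ∈ Rb → g ∈ H := by
    intro x hx hx1 g hgx
    refine hrec g fun y hy => hfus y hy g (hcen _ hgx (fun e => hx1 (conj_eq_one_iff.1 e)) _ ?_)
    calc g * y * g⁻¹ * (g * x * g⁻¹) = g * (y * x) * g⁻¹ := by group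
      _ = g * (x * y) * g⁻¹ := by rw [hab x hx y hy]
      _ = g * x * g⁻¹ * (g * y * g⁻¹) := by group
  let D : Set Q := {d | ∃ g : Q, g⁻¹ * d * g ∈ Rb ∧ d ≠ 1}
  let pt : Q → Q ⧸ H := fun d => if h : ∃ g : Q, g⁻¹ * d * g ∈ Rb then ((h.choose : Q) : Q ⧸ H) else ((1 : Q) : Q ⧸ H)
  have uniq : ∀ d, d ≠ 1 → ∀ g g' : Q, g⁻¹ * d * g ∈ Rb → g'⁻¹ * d * g' ∈ Rb →
      ((g : Q) : Q ⧸ H) = (g' : Q ⧸ H) := by
    intro d hd g g' h h'
    refine QuotientGroup.eq.2 ?_
    have e : g⁻¹ * g' * (g'⁻¹ * d * g') * (g⁻¹ * g')⁻¹ = g⁻¹ * d * g := by group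
    exact ti _ h' (fun e' => hd (by
      calc d = g' * (g'⁻¹ * d * g') * g'⁻¹ := by group
        _ = 1 := by rw [e']; group)) _ (by rw [e]; exact h)
  have hpt : ∀ d, d ≠ 1 → ∀ g : Q, g⁻¹ * d * g ∈ Rb → pt d = (g : Q ⧸ H) := by
    intro d hd g hg
    have hex : ∃ g : Q, g⁻¹ * d * g ∈ Rb := ⟨g, hg⟩
    simp only [pt, dif_pos hex]
    exact uniq d hd _ _ hex.choose_spec hg
  have fixed : ∀ d g, d • ((g : Q) : Q ⧸ H) = (g : Q ⧸ H) ↔ g⁻¹ * d * g ∈ H := by
    intro d g
    rw [MulAction.Quotient.smul_coe, smul_eq_mul, QuotientGroup.eq]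
    constructor <;> intro h
    · have := inv_mem h; simpa [mul_assoc] using this
    · have := inv_mem h; simpa [mul_assoc] using this
  have P : Aschbacher.PointClass Q (Q ⧸ H) D pt := by
    refine ⟨?_, ?_, ?_, ?_, ?_⟩
    · rintro d ⟨g, hg, hd⟩
      refine orderOf_eq_prime ?_ hd
      have h := hsq _ hg
      rw [show g⁻¹ * d * g * (g⁻¹ * d * g) = g⁻¹ * (d * d) * g by group] at h
      rw [pow_two]
      calc d * d = g * (g⁻¹ * (d * d) * g) * g⁻¹ := by group
        _ = 1 := by rw [h]; group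
    · rintro x d ⟨g, hg, hd⟩
      exact ⟨x * g, by rw [show (x * g)⁻¹ * (x * d * x⁻¹) * (x * g) = g⁻¹ * d * g by group]; exact hg,
        fun e => hd (conj_eq_one_iff.1 e)⟩
    · rintro d ⟨g, hg, hd⟩ q
      obtain ⟨g', rfl⟩ := QuotientGroup.mk_surjective q
      rw [fixed, hpt d hd g hg]
      constructor
      · intro h
        have e : g'⁻¹ * g * (g⁻¹ * d * g) * (g'⁻¹ * g)⁻¹ = g'⁻¹ * d * g' := by group
        have h' := hfus _ hg (g'⁻¹ * g) (by rw [e]; exact h)
        rw [e] at h'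
        exact uniq d hd _ _ h' hg
      · intro h
        have hm := QuotientGroup.eq.1 h
        have e : (g'⁻¹ * g) * (g⁻¹ * d * g) * (g'⁻¹ * g)⁻¹ = g'⁻¹ * d * g' := by group
        have := hnorm _ hm _ hg
        rw [e] at this
        exact hle this
    · rintro d ⟨g, hg, hd⟩ e ⟨g₁, hg₁, he⟩ hde hne' c hc
      rw [hpt d hd g hg, fixed]
      set d' := g⁻¹ * d * g
      set e' := g⁻¹ * e * g
      have hd1 : d' ≠ 1 := fun h => hd (by
        calc d = g * (g⁻¹ * d * g) * g⁻¹ := by group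
          _ = 1 := by rw [show g⁻¹ * d * g = 1 from h]; group)
      have hc' : e' * d' = d' * e' := by
        simp only [d', e']
        calc g⁻¹ * e * g * (g⁻¹ * d * g) = g⁻¹ * (e * d) * g := by group
          _ = g⁻¹ * (d * e) * g := by rw [hde.eq]
          _ = g⁻¹ * d * g * (g⁻¹ * e * g) := by group
      have heR : e' ∈ Rb := by
        have ee : g⁻¹ * g₁ * (g₁⁻¹ * e * g₁) * (g⁻¹ * g₁)⁻¹ = e' := by simp only [e']; group
        have := hfus _ hg₁ (g⁻¹ * g₁) (by rw [ee]; exact hcen _ hg hd1 _ hc')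
        rwa [ee] at this
      refine hcen _ (mul_mem hg heR) (fun h => hne' ?_) _ ?_
      · have h1 : d * e = 1 := by simpa [d', e', mul_assoc] using congrArg (fun z => g * z * g⁻¹) h
        have h2 : d * d = 1 := by
          simpa [d', mul_assoc] using congrArg (fun z => g * z * g⁻¹) (hsq _ hg)
        exact mul_left_cancel (h2.trans h1.symm)
      · calc g⁻¹ * c * g * (g⁻¹ * d * g * (g⁻¹ * e * g)) = g⁻¹ * (c * (d * e)) * g := by group
          _ = g⁻¹ * (d * e * c) * g := by rw [hc.eq]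
          _ = g⁻¹ * d * g * (g⁻¹ * e * g) * (g⁻¹ * c * g) := by group
    · intro q
      obtain ⟨g, rfl⟩ := QuotientGroup.mk_surjective q
      have hcard : Nat.card {d : Q // d ∈ D ∧ pt d = (g : Q ⧸ H)} = Nat.card {x : Rb // x ≠ 1} := by
        refine Nat.card_congr ⟨fun d => ⟨⟨g⁻¹ * d.1 * g, ?_⟩, ?_⟩,
          fun x => ⟨g * (x.1 : Q) * g⁻¹, ⟨g, by simp [mul_assoc], ?_⟩, ?_⟩, fun d => Subtype.ext (by simp [mul_assoc]),
          fun x => Subtype.ext (Subtype.ext (by simp [mul_assoc]))⟩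
        · obtain ⟨d, ⟨g', hg', hd⟩, hp⟩ := d
          rw [hpt d hd g' hg'] at hp
          have hm := QuotientGroup.eq.1 hp.symm
          have := hnorm _ hm _ hg'
          rwa [show g⁻¹ * g' * (g'⁻¹ * d * g') * (g⁻¹ * g')⁻¹ = g⁻¹ * d * g by group] at this
        · intro h
          have h' : g⁻¹ * d.1 * g = 1 := congrArg Subtype.val h
          exact d.2.1.choose_spec.2 (by simpa [mul_assoc] using congrArg (fun z => g * z * g⁻¹) h')
        · intro h
          exact x.2 (Subtype.ext (conj_eq_one_iff.1 h))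
        · refine hpt _ (fun h => x.2 (Subtype.ext (conj_eq_one_iff.1 h))) g (by simp [mul_assoc])
      rw [hcard]
      have hev : Even (Nat.card Rb) := by
        obtain ⟨⟨x, hxR⟩, hx1⟩ := Finite.one_lt_card_iff_nontrivial.1 ((Subgroup.one_lt_card_iff_ne_bot Rb).2 hne) |>.exists_pair_ne |>
          (fun ⟨u, v, huv⟩ => (if h : u = 1 then ⟨v, fun h' => huv (h.trans h'.symm)⟩ else ⟨u, h⟩ : ∃ x : Rb, x ≠ 1))
        have ho : orderOf (⟨x, hxR⟩ : Rb) = 2 :=
          orderOf_eq_prime (Subtype.ext (by simpa [pow_two] using hsq x hxR)) hx1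
        exact even_iff_two_dvd.2 (ho ▸ orderOf_dvd_natCard _)
      haveI : Fintype Rb := Fintype.ofFinite _
      rw [Nat.card_eq_fintype_card] at hev ⊢
      rw [Fintype.card_subtype_compl, Fintype.card_subtype_eq]
      exact Nat.Even.sub_odd Fintype.card_pos hev odd_one
  obtain ⟨g, hg⟩ : ∃ g : Q, g ∉ H := by
    by_contra h
    push Not at h
    exact hH ((Subgroup.eq_top_iff' H).2 h)
  have hxy : ((1 : Q) : Q ⧸ H) ≠ (g : Q ⧸ H) := fun e => hg (by simpa using QuotientGroup.eq.1 e)
  obtain ⟨O, hO, hodd, -, -, htr⟩ := P.exists_odd_normal hxy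
  refine ⟨O, fun a ha => ?_, hodd, fun x hx hx1 y hy hy1 => ?_⟩
  · have := (fixed a 1).1 (MulAction.mem_stabilizer_iff.1 (hO ha).1)
    simpa using this
  · exact htr x ⟨1, by simpa using hx, hx1⟩ (hpt x hx1 1 (by simpa using hx)) y ⟨1, by simpa using hy, hy1⟩
      (hpt y hy1 1 (by simpa using hy))

universe u v

variable {F : Type u} [Field F] {V : Type v} [AddCommGroup V] [Module F V]
variable {R S : Set (Module.End F V)} {i : F}

/-- There are two independent commuting elements. -/
def Big (R : Set (Module.End F V)) : Prop :=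
  ∃ a ∈ R, ∃ f ∈ R, a * f = f * a ∧ NS a ∧ NS f ∧ NS (a * f)

variable [FiniteDimensional F V] [Nontrivial V]

theorem Setup.ns_of_ne (hS : Setup R S i) {a f : Module.End F V} (ha : a ∈ R) (hf : f ∈ R) :
    NS (a * f) ∨ ∃ c : F, c ≠ 0 ∧ f = c • a := by
  by_cases h : NS (a * f)
  · exact Or.inl h
  · right
    simp only [NS, ne_eq, not_forall, not_not] at h
    obtain ⟨c, hc⟩ := h
    obtain ⟨d, hd, hdd⟩ := hS.pauli.sq a ha
    have e : f = (c / (d * d)) • a := by
      have h' := congrArg (a * ·) hc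
      simp only [← mul_assoc, hdd, smul_mul_assoc, one_mul, mul_smul_comm, mul_one] at h'
      rw [div_eq_inv_mul, mul_smul, ← h', inv_smul_smul₀ (mul_ne_zero hd hd)]
    refine ⟨_, fun h0 => hS.pauli.ne_zero hf (by rw [e, h0, zero_smul]), e⟩

theorem Setup.big_comm (hS : Setup R S i) (hb : Big R) {d : Module.End F V} (hd : d ∈ R) :
    ∃ c ∈ R, d * c = c * d ∧ NS c ∧ NS (d * c) := by
  obtain ⟨a, ha, f, hf, haf, hna, hnf, hnaf⟩ := hb
  have comm_smul : ∀ {x y z : Module.End F V} {k : F}, x = k • y → y * z = z * y → x * z = z * x :=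
    fun e h => by rw [e, smul_mul_assoc, h, mul_smul_comm]
  rcases hS.pauli.cac d hd a ha with h | h
  · rcases hS.ns_of_ne hd ha with h1 | ⟨k, hk0, hk⟩
    · exact ⟨a, ha, h, hna, h1⟩
    · have e : d = k⁻¹ • a := by rw [hk, inv_smul_smul₀ hk0]
      refine ⟨f, hf, comm_smul e haf, hnf, fun l hl => hnaf (k * l) ?_⟩
      rw [mul_smul, ← hl, e, smul_mul_assoc, smul_inv_smul₀ hk0]
  · rcases hS.pauli.cac d hd f hf with h' | h'
    · refine ⟨f, hf, h', hnf, ?_⟩
      rcases hS.ns_of_ne hd hf with h1 | ⟨k, hk0, hk⟩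
      · exact h1
      · exfalso
        have e : d = k⁻¹ • f := by rw [hk, inv_smul_smul₀ hk0]
        have h3 := comm_smul e haf.symm
        rw [h3] at h
        exact hS.pauli.ne_zero (hS.pauli.mul a ha d hd) (eq_zero_of_eq_neg hS.two h)
    · refine ⟨a * f, hS.pauli.mul a ha f hf, anti_mul h h', hnaf, ?_⟩
      rcases hS.ns_of_ne hd (hS.pauli.mul a ha f hf) with h1 | ⟨k, hk0, hk⟩
      · exact h1
      · exfalso
        have e : d = k⁻¹ • (a * f) := by rw [hk, inv_smul_smul₀ hk0]
        have h3 := comm_smul e (show (a * f) * a = a * (a * f) by rw [mul_assoc, ← haf])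
        rw [h3] at h
        exact hS.pauli.ne_zero (hS.pauli.mul a ha d hd) (eq_zero_of_eq_neg hS.two h)

/-- A conjugate of an element of the system lying in the normaliser lies in the system. -/
theorem Setup.fusion (hS : Setup R S i) (htel : FullTel R S i) (hb : Big R)
    (hC : ∀ a ∈ R, a * a = 1 → NS a → ∀ g ∈ S, a * g = g * a → Norml R g)
    {a g g' : Module.End F V} (ha : a ∈ R) (haa : a * a = 1) (hg : g ∈ S) (hgg : g * g' = 1)
    (hgg' : g' * g = 1) (hu : Norml R (g * a * g')) : g * a * g' ∈ R := by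
  have h2 := hS.two
  set u := g * a * g' with hudef
  have huu : u * u = 1 := by
    rw [hudef, show g * a * g' * (g * a * g') = g * (a * ((g' * g) * a)) * g' by simp only [mul_assoc], hgg',
      one_mul, haa, mul_one, hgg]
  have huX : ∀ X, u * (u * X) = X := fun X => by rw [← mul_assoc, huu, one_mul]
  have th : ∀ r ∈ R, u * r * u ∈ R := fun r hr => by
    obtain ⟨r', hr', e⟩ := hu r hr
    rw [e, mul_assoc, huu, mul_one]; exact hr'
  obtain ⟨w, hw, hnw, huw⟩ : ∃ w ∈ R, NS w ∧ u * w = w * u := by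
    by_contra hc
    push Not at hc
    have hflip : ∀ r ∈ R, ∀ k : F, NS r → u * r * u = k • r → k = -1 := by
      intro r hr k hnr e
      have e2 : u * (u * r * u) * u = r := by simp only [mul_assoc, huu, mul_one, huX]
      rw [e, mul_smul_comm, smul_mul_assoc, e, smul_smul] at e2
      have h5 : (k * k - 1) • r = 0 := by rw [sub_smul, e2, one_smul, sub_self]
      rcases mul_self_eq_one_iff.1 (sub_eq_zero.1 ((smul_eq_zero.1 h5).resolve_right (hS.pauli.ne_zero hr))) with
        rfl | rfl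
      · exfalso
        refine hc r hr hnr ?_
        have e3 := congrArg (· * u) e
        simp only [mul_assoc, huu, mul_one, one_smul] at e3
        exact e3
      · rfl
    have hone : ∀ r ∈ R, NS r → ∀ s ∈ R, NS s → u * r * u = -r → u * s * u = -s → ∃ c : F, c ≠ 0 ∧ s = c • r := by
      intro r hr hnr s hs hns e1 e2
      rcases hS.ns_of_ne hr hs with h | h
      · exfalso
        have := hflip (r * s) (hS.pauli.mul r hr s hs) 1 h (by
          rw [one_smul, show u * (r * s) * u = (u * r * u) * (u * s * u) by simp only [mul_assoc, huX], e1, e2,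
            neg_mul_neg])
        exact h2 (by linear_combination this)
      · exact h
    have hclass : ∀ r ∈ R, NS r → (u * r * u = -r) ∨
        (r * (u * r * u) = -((u * r * u) * r) ∧ NS (r * (u * r * u)) ∧
          u * (r * (u * r * u)) * u = -(r * (u * r * u))) := by
      intro r hr hnr
      set t := u * r * u with ht
      rcases hS.ns_of_ne hr (th r hr) with h | ⟨k, -, hk⟩
      · right
        have hd : u * (r * t) * u = t * r := by
          simp only [ht, mul_assoc, huX, huu, mul_one]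
        rcases hS.pauli.cac r hr t (th r hr) with h' | h'
        · exfalso
          have := hflip (r * t) (hS.pauli.mul r hr t (th r hr)) 1 h (by rw [one_smul, hd, h'])
          exact h2 (by linear_combination this)
        · exact ⟨h', h, by rw [hd, h', neg_neg]⟩
      · left
        have e := hflip r hr k hnr hk
        subst e
        exact hk.trans (neg_one_smul F r)
    obtain ⟨a₀, ha₀, -, -, -, hna₀, -, -⟩ := id hb
    obtain ⟨d₀, hd₀, hnd₀, hd₀u⟩ : ∃ d ∈ R, NS d ∧ u * d * u = -d := by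
      rcases hclass a₀ ha₀ hna₀ with h | ⟨-, h1, h3⟩
      · exact ⟨a₀, ha₀, hna₀, h⟩
      · exact ⟨_, hS.pauli.mul _ ha₀ _ (th a₀ ha₀), h1, h3⟩
    obtain ⟨c, hc', hdc, hnc, hndc⟩ := hS.big_comm hb hd₀
    rcases hclass c hc' hnc with h | ⟨h1, h3, h4⟩
    · obtain ⟨k, -, hk⟩ := hone d₀ hd₀ hnd₀ c hc' hnc hd₀u h
      obtain ⟨l, -, hll⟩ := hS.pauli.sq d₀ hd₀
      exact hndc (k * (l * l)) (by rw [hk, mul_smul_comm, hll, smul_smul])
    · obtain ⟨k, hk0, hk⟩ := hone d₀ hd₀ hnd₀ _ (hS.pauli.mul _ hc' _ (th c hc')) h3 hd₀u h4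
      have e1 : c * (c * (u * c * u)) = (c * (u * c * u)) * c := by
        rw [hk, mul_smul_comm, smul_mul_assoc, ← hdc]
      rw [show c * (u * c * u) * c = -(c * (c * (u * c * u))) by
        rw [mul_assoc c (u * c * u) c, anti_symm h1, mul_neg]] at e1
      have h6 := eq_zero_of_eq_neg h2 e1
      exact hS.pauli.ne_zero (hS.pauli.mul _ hc' _ (hS.pauli.mul _ hc' _ (th c hc'))) h6
  obtain ⟨d, hd, hdw, hdd⟩ := hS.pauli.exists_invol hw
  have hnd : NS (d • w) := fun c hc => hnw (d⁻¹ * c) (by rw [mul_smul, ← hc, inv_smul_smul₀ hd])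
  have hT : tEl i u ∈ S := by
    have e : tEl i u = g * tEl i a * g' := by
      simp only [tEl, mul_add, add_mul, mul_one, mul_smul_comm, smul_mul_assoc, hgg, hudef]
    rw [e]
    exact hS.mul _ (hS.mul _ hg _ (htel a ha haa)) _ (hS.inv_mem hg hgg)
  have hTN : Norml R (tEl i u) := hC _ hdw hdd hnd _ hT (by
    rw [smul_mul_assoc, mul_smul_comm, tEl_commute huw])
  have hn : LinearMap.trace F V 1 ≠ 0 := by
    intro h0
    refine one_ne_zero (α := Module.End F V) (eq_zero_of_trace fun X => ?_)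
    rw [one_mul]
    have hX : X ∈ Submodule.span F R := hS.pauli.span ▸ Submodule.mem_top
    induction hX using Submodule.span_induction with
    | mem x hx =>
      by_cases hns : NS x
      · obtain ⟨b, hb', hbb, hxb⟩ := hS.pauli.exists_partner hx hns
        have h1 := LinearMap.trace_mul_comm F b (x * b)
        rw [← mul_assoc b x b, anti_symm hxb, _root_.neg_mul, mul_assoc x b b, hbb, mul_one, map_neg] at h1
        exact (eq_zero_of_eq_neg h2 h1.symm)
      · simp only [NS, ne_eq, not_forall, not_not] at hns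
        obtain ⟨c, rfl⟩ := hns
        rw [map_smul, h0, smul_zero]
    | zero => simp
    | add x y _ _ hx hy => rw [map_add, hx, hy, add_zero]
    | smul c x _ hx => rw [map_smul, hx, smul_zero]
  have trNS : ∀ x ∈ R, NS x → LinearMap.trace F V x = 0 := fun x hx hns => by
    obtain ⟨b, hb', hbb, hxb⟩ := hS.pauli.exists_partner hx hns
    have h1 := LinearMap.trace_mul_comm F b (x * b)
    rw [← mul_assoc b x b, anti_symm hxb, _root_.neg_mul, mul_assoc x b b, hbb, mul_one, map_neg] at h1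
    exact eq_zero_of_eq_neg h2 h1.symm
  have hall : ∀ r ∈ R, CAC u r := by
    intro r hr
    obtain ⟨d', hd', hdr, hdd'⟩ := hS.pauli.exists_invol hr
    suffices h : CAC u (d' • r) by
      rcases h with h | h
      · exact Or.inl (smul_right_injective _ hd' (by simpa only [mul_smul_comm, smul_mul_assoc] using h))
      · exact Or.inr (smul_right_injective _ hd' (by
          simpa only [mul_smul_comm, smul_mul_assoc, smul_neg] using h))
    set q := d' • r with hq
    set t := u * q * u with ht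
    have htR := th q hdr
    rcases hS.ns_of_ne hdr htR with hns | ⟨k, -, hk⟩
    swap
    · have e2 : u * (u * q * u) * u = q := by simp only [mul_assoc, huu, mul_one, huX]
      rw [hk, mul_smul_comm, smul_mul_assoc, hk, smul_smul] at e2
      have h5 : (k * k - 1) • q = 0 := by rw [sub_smul, e2, one_smul, sub_self]
      have e3 := congrArg (· * u) hk
      simp only [mul_assoc, huu, mul_one] at e3
      rw [smul_mul_assoc] at e3
      rcases mul_self_eq_one_iff.1 (sub_eq_zero.1 ((smul_eq_zero.1 h5).resolve_right (hS.pauli.ne_zero hdr))) with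
        rfl | rfl
      · left; rw [e3, one_smul]
      · right; rw [e3, neg_one_smul]
    exfalso
    obtain ⟨x, hx, hxe⟩ := hTN q hdr
    set y := u * x * u
    have hy : y ∈ R := th x hx
    have etu : tEl i u * tEl (-i) u = (2 : F) • 1 := tEl_mul_neg hS.sqrt huu
    have hxv : (2 : F) • x = tEl i u * q * tEl (-i) u := by
      rw [hxe, mul_assoc, etu, mul_smul_comm, mul_one]
    have hxv' : (2 : F) • x = q + t + i • (u * q - q * u) := by
      rw [hxv]
      simp only [tEl, ht, mul_add, add_mul, mul_one, one_mul, smul_mul_assoc, mul_smul_comm, mul_assoc, smul_smul,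
        smul_sub]
      match_scalars <;> first | ring1 | linear_combination hS.sqrt | linear_combination -hS.sqrt
    have hyv : (2 : F) • y = q + t - i • (u * q - q * u) := by
      rw [show (2 : F) • y = u * ((2 : F) • x) * u by simp [y], hxv']
      simp only [ht, mul_add, add_mul, mul_sub, sub_mul, mul_assoc, mul_smul_comm, smul_mul_assoc, huu, huX,
        mul_one, smul_sub]
      abel
    have hqX : ∀ X, q * (q * X) = X := fun X => by rw [← mul_assoc, hdd', one_mul]
    have htr : LinearMap.trace F V (q * x) + LinearMap.trace F V (q * y) = LinearMap.trace F V 1 := by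
      have e : (2 : F) • (q * x + q * y) = (2 : F) • (1 + q * t) := by
        rw [smul_add, ← mul_smul_comm, ← mul_smul_comm, hxv', hyv]
        simp only [mul_add, mul_sub, hdd']
        module
      have e' := congrArg (LinearMap.trace F V) (smul_right_injective _ h2 e)
      rw [map_add, map_add, trNS _ (hS.pauli.mul _ hdr _ htR) hns, add_zero] at e'
      exact e'
    have key : ∀ z ∈ R, LinearMap.trace F V (q * z) ≠ 0 → ∃ c : F, z = c • q := by
      intro z hz hne
      rcases hS.ns_of_ne hdr hz with h | ⟨c, -, hc⟩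
      · exact absurd (trNS _ (hS.pauli.mul _ hdr _ hz) h) hne
      · exact ⟨c, hc⟩
    have fin : ∀ (j : F) (x y : Module.End F V), j * j = -1 → (2 : F) • x = q + t + j • (u * q - q * u) →
        x + y = q + t → y = u * x * u → (∃ c : F, x = c • q) → False := by
      rintro j x y hj hxv hsum hyx ⟨c, hc⟩
      have hyc : y = c • t := by rw [hyx, hc, mul_smul_comm, smul_mul_assoc]
      rw [hc, hyc, ← smul_add] at hsum
      have h5 : (c - 1) • (q + t) = 0 := by rw [sub_smul, hsum, one_smul, sub_self]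
      rcases smul_eq_zero.1 h5 with hc1 | h6
      · rw [hc, sub_eq_zero.1 hc1, one_smul] at hxv
        have e : j • (u * q - q * u) = q - t := by linear_combination (norm := module) -hxv
        have e2 : u * t = q * u := by rw [ht, mul_assoc u q u, huX]
        have h7 : (1 - j • u) * (q - t) = 0 := by
          rw [sub_mul, one_mul, smul_mul_assoc, mul_sub, e2, e, sub_self]
        have h8 : (1 + j • u) * (1 - j • u) = (2 : F) • 1 := by
          simp only [mul_sub, add_mul, mul_one, one_mul, smul_mul_assoc, mul_smul_comm, smul_smul, huu]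
          match_scalars <;> first | ring1 | linear_combination hj | linear_combination -hj
        have h9 := congrArg ((1 + j • u) * ·) h7
        simp only [← mul_assoc, h8, smul_mul_assoc, one_mul, mul_zero] at h9
        have h10 : q = t := sub_eq_zero.1 ((smul_eq_zero.1 h9).resolve_left h2)
        exact hns 1 (by rw [one_smul, ← hdd']; exact congrArg (q * ·) h10.symm)
      · refine hns (-1) ?_
        have h7 := congrArg (q * ·) h6
        simp only [mul_add, mul_zero, hdd'] at h7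
        rw [eq_neg_of_add_eq_zero_right h7]
        exact (neg_one_smul F _).symm
    have hsum : x + y = q + t := smul_right_injective _ h2 (by
      show (2 : F) • (x + y) = (2 : F) • (q + t)
      rw [smul_add, hxv', hyv]; module)
    by_cases hx0 : LinearMap.trace F V (q * x) = 0
    · rw [hx0, zero_add] at htr
      refine fin (-i) y x (by linear_combination hS.sqrt) ?_ (by rw [add_comm, hsum]) ?_ (key y hy (htr ▸ hn))
      · rw [hyv, neg_smul, sub_eq_add_neg]
      · simp only [y, mul_assoc, huu, mul_one, huX]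
    · exact fin i x y hS.sqrt hxv' hsum rfl (key x hx hx0)
  have hu0 : u ≠ 0 := fun e => by rw [e, zero_mul] at huu; exact zero_ne_one huu
  obtain ⟨r, hr, hmatch⟩ := hS.pauli.exists_match h2 hu0
  obtain ⟨c, hc⟩ := hS.pauli.central (M := u * r) fun f hf => hmatch f hf (hall f hf)
  obtain ⟨d', hd', hrr⟩ := hS.pauli.sq r hr
  have e := congrArg (· * r) hc
  simp only [mul_assoc, hrr, mul_smul_comm, mul_one, smul_mul_assoc, one_mul] at e
  have hu' : u = ((d' * d')⁻¹ * c) • r := by
    rw [mul_smul, ← e, inv_smul_smul₀ (mul_ne_zero hd' hd')]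
  rw [hu']
  exact hS.pauli.smul_mem (fun h0 => hu0 (by rw [hu', h0, zero_smul])) hr

omit [FiniteDimensional F V] [Nontrivial V] in
theorem NS.smul {x : Module.End F V} (h : NS x) {c : F} (hc : c ≠ 0) : NS (c • x) := fun d hd =>
  h (c⁻¹ * d) (by rw [mul_smul, ← hd, inv_smul_smul₀ hc])

/-- An odd group transitive on the classes of the system is impossible. -/
theorem Setup.no_odd (hS : Setup R S i) [Finite F] (hb : Big R) {O : Type*} [Group O] [Fintype O]
    (hodd : Odd (Fintype.card O)) (ρ : O →* Monoid.End (Module.End F V))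
    (hsm : ∀ (o : O) (c : F) (x : Module.End F V), ρ o (c • x) = c • ρ o x)
    (hR : ∀ o : O, ∀ r ∈ R, ρ o r ∈ R)
    (htr : ∀ x ∈ R, x * x = 1 → NS x → ∀ y ∈ R, y * y = 1 → NS y → ∃ (o : O) (c : F), ρ o x = c • y) :
    False := by
  classical
  haveI : Finite (Module.End F V) := Module.finite_of_finite F
  have h2 := hS.two
  have hi0 : i ≠ 0 := fun e => by simpa [e] using hS.sqrt
  let R4 : Set (Module.End F V) := {r | r ∈ R ∧ (r * r = 1 ∨ r * r = -1)}
  have m4 : ∀ x ∈ R4, ∀ y ∈ R4, x * y ∈ R4 := by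
    rintro x ⟨hx, hxx⟩ y ⟨hy, hyy⟩
    refine ⟨hS.pauli.mul x hx y hy, ?_⟩
    rcases hS.pauli.cac y hy x hx with h | h <;>
      rw [show x * y * (x * y) = x * (y * x) * y by simp only [mul_assoc], h] <;>
      rcases hxx with e | e <;> rcases hyy with e' | e' <;> simp [← mul_assoc, e, mul_assoc _ y y, e']
  have n4 : (-1 : Module.End F V) ∈ R4 := ⟨hS.pauli.neg_mem hS.pauli.one_mem, Or.inl (by simp)⟩
  have o4 : (1 : Module.End F V) ∈ R4 := ⟨hS.pauli.one_mem, Or.inl (by simp)⟩
  have i4 : i • (1 : Module.End F V) ∈ R4 := ⟨hS.pauli.scal i hi0, Or.inr (by simp [smul_smul, hS.sqrt])⟩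
  have hi1 : i • (1 : Module.End F V) ≠ 1 ∧ i • (1 : Module.End F V) ≠ -1 := by
    constructor <;> intro e
    · have e' : (i - 1) • (1 : Module.End F V) = 0 := by rw [sub_smul, e, one_smul, sub_self]
      have hi := sub_eq_zero.1 ((smul_eq_zero.1 e').resolve_right one_ne_zero)
      exact h2 (by have := hS.sqrt; rw [hi] at this; linear_combination this)
    · have e' : (i + 1) • (1 : Module.End F V) = 0 := by rw [add_smul, e, one_smul, neg_add_cancel]
      have hi := eq_neg_of_add_eq_zero_left ((smul_eq_zero.1 e').resolve_right one_ne_zero)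
      exact h2 (by have := hS.sqrt; rw [hi] at this; linear_combination this)
  let K0 : Submonoid (Module.End F V) :=
    { carrier := {x | x = 1 ∨ x = -1}
      one_mem' := Or.inl rfl
      mul_mem' := by rintro x y (rfl | rfl) (rfl | rfl) <;> simp }
  haveI : Finite (Submonoid (Module.End F V)) :=
    Finite.of_injective (fun K => (K : Set (Module.End F V))) SetLike.coe_injective
  obtain ⟨K, -, hK⟩ := Finite.exists_le_maximal
    (p := fun K : Submonoid (Module.End F V) => (∀ x ∈ K, x ∈ R4) ∧ -1 ∈ K ∧ i • (1 : Module.End F V) ∉ K)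
    (a := K0) ⟨by rintro x (rfl | rfl) <;> assumption, Or.inr rfl, by rintro (e | e); exacts [hi1.1 e, hi1.2 e]⟩
  obtain ⟨⟨hK4, hKn, hKi⟩, hmax⟩ := hK
  have kneg : ∀ x, x ∈ K → -x ∈ K := fun x hx => by simpa using K.mul_mem hKn hx
  have kneg' : ∀ x, -x ∈ K → x ∈ K := fun x hx => by simpa using kneg _ hx
  have half : ∀ x ∈ R4, x ∉ K → i • x ∈ K := by
    intro x hx hxK
    have key : ∀ k ∈ K, x * k = k * x ∨ x * k = -(k * x) := fun k hk => hS.pauli.cac x hx.1 k (hK4 k hk).1
    have hxx : x * x ∈ K := by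
      rcases hx.2 with e | e <;> rw [e]
      exacts [K.one_mem, hKn]
    let K' : Submonoid (Module.End F V) :=
      { carrier := {k | k ∈ K ∨ ∃ k₀ ∈ K, k = k₀ * x}
        one_mem' := Or.inl K.one_mem
        mul_mem' := by
          rintro u v (hu | ⟨u₀, hu, rfl⟩) (hv | ⟨v₀, hv, rfl⟩)
          · exact Or.inl (K.mul_mem hu hv)
          · exact Or.inr ⟨u * v₀, K.mul_mem hu hv, (mul_assoc _ _ _).symm⟩
          · refine Or.inr ?_
            rcases key v hv with e | e
            · exact ⟨u₀ * v, K.mul_mem hu hv, by rw [mul_assoc, e, mul_assoc]⟩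
            · exact ⟨-(u₀ * v), kneg _ (K.mul_mem hu hv), by
                rw [mul_assoc, e, _root_.mul_neg, _root_.neg_mul, mul_assoc]⟩
          · refine Or.inl ?_
            rw [show u₀ * x * (v₀ * x) = u₀ * (x * v₀) * x by simp only [mul_assoc]]
            rcases key v₀ hv with e | e <;> rw [e] <;>
              simp only [_root_.mul_neg, _root_.neg_mul, mul_assoc]
            · exact K.mul_mem hu (K.mul_mem hv hxx)
            · exact kneg _ (K.mul_mem hu (K.mul_mem hv hxx)) }
    by_contra hix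
    have hK' : (∀ y ∈ K', y ∈ R4) ∧ -1 ∈ K' ∧ i • (1 : Module.End F V) ∉ K' := by
      refine ⟨?_, Or.inl hKn, ?_⟩
      · rintro y (hy | ⟨k, hk, rfl⟩)
        exacts [hK4 y hy, m4 _ (hK4 k hk) _ hx]
      · rintro (h | ⟨k, hk, e⟩)
        · exact hKi h
        · have e1 := congrArg (k * ·) e
          simp only [mul_smul_comm, mul_one, ← mul_assoc] at e1
          refine hix ?_
          rcases (hK4 k hk).2 with ek | ek <;> rw [ek] at e1
          · rw [one_mul] at e1
            rw [← e1, smul_smul, hS.sqrt, neg_one_smul]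
            exact kneg _ hk
          · rw [_root_.neg_mul, one_mul] at e1
            rw [show x = -(i • k) by rw [e1, neg_neg], smul_neg, smul_smul, hS.sqrt, neg_one_smul, neg_neg]
            exact hk
    exact hxK (hmax hK' (fun y hy => Or.inl hy) (Or.inr ⟨1, K.one_mem, (one_mul x).symm⟩))
  let χ : Module.End F V → ZMod 2 := fun x => if x ∈ K then 0 else 1
  have hχ : ∀ x ∈ R4, ∀ y ∈ R4, χ (x * y) = χ x + χ y := by
    intro x hx y hy
    by_cases h1 : x ∈ K <;> by_cases h3 : y ∈ K
    · simp [χ, h1, h3, K.mul_mem h1 h3]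
    · have : x * y ∉ K := fun h => h3 (by
        have h5 := K.mul_mem h1 h
        rw [← mul_assoc] at h5
        rcases hx.2 with e | e <;> rw [e] at h5
        · simpa using h5
        · exact kneg' _ (by simpa using h5))
      simp [χ, h1, h3, this]
    · have : x * y ∉ K := fun h => h1 (by
        have h5 := K.mul_mem h h3
        rw [mul_assoc] at h5
        rcases hy.2 with e | e <;> rw [e] at h5
        · simpa using h5
        · exact kneg' _ (by simpa using h5))
      simp [χ, h1, h3, this]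
    · have h5 := K.mul_mem (half x hx h1) (half y hy h3)
      rw [smul_mul_assoc, mul_smul_comm, smul_smul, hS.sqrt, neg_one_smul] at h5
      simp [χ, h1, h3, kneg' _ h5]
      decide
  have hρn : ∀ o, ρ o (-1) = -1 := fun o => by
    rw [show (-1 : Module.End F V) = (-1 : F) • 1 by rw [neg_one_smul], hsm, map_one]
  have h4 : ∀ o, ∀ x ∈ R4, ρ o x ∈ R4 := by
    rintro o x ⟨hx, hxx⟩
    refine ⟨hR o x hx, ?_⟩
    rw [← map_mul]
    rcases hxx with e | e <;> rw [e]
    · exact Or.inl (map_one _)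
    · exact Or.inr (hρn o)
  let ψ : Module.End F V → ZMod 2 := fun x => ∑ o : O, χ (ρ o x)
  have hψ : ∀ x ∈ R4, ∀ y ∈ R4, ψ (x * y) = ψ x + ψ y := fun x hx y hy => by
    simp only [ψ, map_mul, ← Finset.sum_add_distrib]
    exact Finset.sum_congr rfl fun o _ => hχ _ (h4 o x hx) _ (h4 o y hy)
  have hψn : ψ (-1) = 0 := by simp [ψ, hρn, χ, hKn]
  have hψi : ψ (i • 1) = 1 := by
    simp only [ψ, hsm, map_one, χ, if_neg hKi, Finset.sum_const, Finset.card_univ, nsmul_eq_mul, mul_one]
    exact (ZMod.natCast_eq_one_iff_odd.2 hodd)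
  have hψinv : ∀ o x, ψ (ρ o x) = ψ x := fun o x =>
    Fintype.sum_equiv (Equiv.mulRight o) _ _ fun o' => by simp [map_mul, Monoid.End.coe_mul]
  have i41 : ∀ {x}, x ∈ R → x * x = 1 → x ∈ R4 := fun hx hxx => ⟨hx, Or.inl hxx⟩
  have hconst : ∀ x ∈ R, x * x = 1 → NS x → ∀ y ∈ R, y * y = 1 → NS y → ψ x = ψ y := by
    intro x hx hxx hnx y hy hyy hny
    obtain ⟨o, c, hc⟩ := htr x hx hxx hnx y hy hyy hny
    have e := congrArg (ρ o) hxx
    rw [map_mul, map_one, hc, smul_mul_assoc, mul_smul_comm, smul_smul, hyy] at e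
    have e' : (c * c - 1) • (1 : Module.End F V) = 0 := by rw [sub_smul, e, one_smul, sub_self]
    rw [← hψinv o x, hc]
    rcases mul_self_eq_one_iff.1 (sub_eq_zero.1 ((smul_eq_zero.1 e').resolve_right one_ne_zero)) with rfl | rfl
    · rw [one_smul]
    · rw [neg_one_smul, ← neg_one_mul y, hψ _ n4 _ (i41 hy hyy), hψn, zero_add]
  obtain ⟨a, ha, f, hf, haf, hna, hnf, hnaf⟩ := hb
  obtain ⟨c, hc, hca, haa⟩ := hS.pauli.exists_invol ha
  obtain ⟨d, hd, hdf, hff⟩ := hS.pauli.exists_invol hf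
  set a' := c • a with ha'
  set f' := d • f with hf'
  have haf' : a' * f' = f' * a' := by
    simp only [ha', hf', smul_mul_assoc, mul_smul_comm, haf, smul_smul, mul_comm c d]
  have hA : NS a' := hna.smul hc
  have hk : ψ a' = 0 := by
    have h1 : (a' * f') * (a' * f') = 1 := by
      rw [mul_assoc, ← mul_assoc f' a' f', ← haf', mul_assoc a' f' f', hff, mul_one, haa]
    have hn : NS (a' * f') := by
      rw [ha', hf', smul_mul_assoc, mul_smul_comm, smul_smul]
      exact hnaf.smul (mul_ne_zero hc hd)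
    have e := hψ _ (i41 hca haa) _ (i41 hdf hff)
    rw [hconst _ (hS.pauli.mul _ hca _ hdf) h1 hn a' hca haa hA, ← hconst a' hca haa hA f' hdf hff (hnf.smul hd)] at e
    simpa using e
  clear_value a'
  obtain ⟨b, hbR, hbb, hab⟩ := hS.pauli.exists_partner hca hA
  have hbn : NS b := fun k hk' => by
    rw [hk', mul_smul_comm, smul_mul_assoc, mul_one, one_mul] at hab
    exact hS.pauli.ne_zero hbR (by
      rw [hk', (smul_eq_zero.1 (eq_zero_of_eq_neg h2 hab)).resolve_right (hS.pauli.ne_zero hca), zero_smul])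
  have hab4 : a' * b ∈ R4 := m4 _ (i41 hca haa) _ (i41 hbR hbb)
  have hj : i • (a' * b) = (i • 1) * (a' * b) := by rw [smul_mul_assoc, one_mul]
  have hjj : i • (a' * b) * (i • (a' * b)) = 1 := by
    rw [smul_mul_assoc, mul_smul_comm, smul_smul, hS.sqrt, mul_assoc, ← mul_assoc b a' b, anti_symm hab,
      _root_.neg_mul, mul_assoc a' b b, hbb, mul_one, _root_.mul_neg, haa, neg_one_smul, neg_neg]
  have hjn : NS (i • (a' * b)) := NS.smul (fun k hk' => by
    have e : b = k • a' := by
      have := congrArg (a' * ·) hk'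
      simpa [← mul_assoc, haa] using this
    rw [e, mul_smul_comm, smul_mul_assoc] at hab
    exact hS.pauli.ne_zero hbR (by
      have h0 := eq_zero_of_eq_neg h2 hab
      rw [haa] at h0
      rw [e, (smul_eq_zero.1 h0).resolve_right one_ne_zero, zero_smul])) hi0
  have e := hψ _ i4 _ hab4
  rw [← hj, hψ _ (i41 hca haa) _ (i41 hbR hbb), hψi,
    hconst _ (hS.pauli.smul_mem hi0 hab4.1) hjj hjn a' hca haa hA, ← hconst a' hca haa hA b hbR hbb hbn, hk] at e
  simp at e

/-- With two independent commuting elements and controlled centralisers everything normalises. -/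
theorem Setup.normalises (hS : Setup R S i) [Finite F] (hb : Big R)
    (hC : ∀ a ∈ R, a * a = 1 → NS a → ∀ g ∈ S, a * g = g * a → Norml R g)
    (hfus : ∀ a ∈ R, a * a = 1 → NS a → ∀ g g' : Module.End F V, g ∈ S → g * g' = 1 → g' * g = 1 →
      Norml R (g * a * g') → g * a * g' ∈ R) :
    ∀ g ∈ S, Norml R g := by
  classical
  haveI : Finite (Module.End F V) := Module.finite_of_finite F
  let Γ : Subgroup (Module.End F V)ˣ :=
    { carrier := {u | (u : Module.End F V) ∈ S}
      one_mem' := hS.one_mem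
      mul_mem' := fun {u v} hu hv => hS.mul _ hu _ hv
      inv_mem' := fun {u} hu => hS.inv_mem hu u.mul_inv }
  let el : Γ → Module.End F V := fun u => ((u : (Module.End F V)ˣ) : Module.End F V)
  have elmul : ∀ u v, el (u * v) = el u * el v := fun u v => rfl
  have elinv : ∀ u, el u * el u⁻¹ = 1 := fun u => by rw [← elmul, mul_inv_cancel]; rfl
  have elinv' : ∀ u, el u⁻¹ * el u = 1 := fun u => by rw [← elmul, inv_mul_cancel]; rfl
  have elinj : Function.Injective el := fun u v h => Subtype.ext (Units.ext h)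
  have lift : ∀ x ∈ S, ∃ u : Γ, el u = x := fun x hx => by
    obtain ⟨y, -, h1, h2⟩ := hS.inv x hx
    exact ⟨⟨⟨x, y, h1, h2⟩, hx⟩, rfl⟩
  let Z : Subgroup Γ :=
    { carrier := {u | ∃ c : F, el u = c • 1}
      one_mem' := ⟨1, (one_smul F _).symm⟩
      mul_mem' := fun {u v} ⟨c, hc⟩ ⟨d, hd⟩ => ⟨c * d, by rw [elmul, hc, hd, smul_mul_smul_comm, mul_one]⟩
      inv_mem' := fun {u} ⟨c, hc⟩ => ⟨c⁻¹, by
        have e := elinv u
        rw [hc, smul_mul_assoc, one_mul] at e
        have hc0 : c ≠ 0 := fun h => by rw [h, zero_smul] at e; exact zero_ne_one e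
        rw [← e, inv_smul_smul₀ hc0]⟩ }
  haveI : Z.Normal := ⟨fun z ⟨c, hc⟩ u => ⟨c, by
    rw [elmul, elmul, hc, mul_smul_comm, mul_one, smul_mul_assoc, elinv]⟩⟩
  let RΓ : Subgroup Γ :=
    { carrier := {u | el u ∈ R}
      one_mem' := hS.pauli.one_mem
      mul_mem' := fun {u v} hu hv => hS.pauli.mul _ hu _ hv
      inv_mem' := fun {u} hu => by
        obtain ⟨d, hd, hdd⟩ := hS.pauli.sq _ hu
        have e : el u⁻¹ = (d * d)⁻¹ • el u := by
          rw [← mul_one (el u⁻¹), ← inv_smul_smul₀ (mul_ne_zero hd hd) (1 : Module.End F V), ← hdd,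
            mul_smul_comm, ← mul_assoc, elinv', one_mul]
        show el u⁻¹ ∈ R
        rw [e]; exact hS.pauli.smul_mem (inv_ne_zero (mul_ne_zero hd hd)) hu }
  let π := QuotientGroup.mk' Z
  set Rb := RΓ.map π with hRb
  have mkeq : ∀ u v, π u = π v → ∃ c : F, c ≠ 0 ∧ el v = c • el u := fun u v h => by
    obtain ⟨c, hc⟩ := QuotientGroup.eq.1 h
    have e : el v = c • el u := by
      have := congrArg (el u * ·) hc
      simpa [elmul, ← mul_assoc, elinv] using this
    exact ⟨c, fun h0 => by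
      have := elinv v
      rw [e, h0, zero_smul, zero_mul] at this
      exact zero_ne_one this, e⟩
  have memRb : ∀ u, π u ∈ Rb ↔ el u ∈ R := by
    refine fun u => ⟨fun h => ?_, fun h => ⟨u, h, rfl⟩⟩
    obtain ⟨v, hv, e⟩ := h
    obtain ⟨c, hc, e'⟩ := mkeq v u e
    rw [e']; exact hS.pauli.smul_mem hc hv
  let H := Subgroup.normalizer (Rb : Set (Γ ⧸ Z))
  have memH : ∀ u, π u ∈ H ↔ Norml R (el u) := by
    intro u
    constructor
    · intro h f hf
      obtain ⟨v, rfl⟩ := lift f (hS.le hf)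
      have h' := (Subgroup.mem_normalizer_iff.1 h (π v)).1 ((memRb v).2 hf)
      rw [← map_inv, ← map_mul, ← map_mul, memRb] at h'
      exact ⟨_, h', by rw [elmul, elmul, mul_assoc, elinv', mul_one]⟩
    · intro h
      refine Subgroup.mem_normalizer_fintype fun n hn => ?_
      obtain ⟨v, hv, rfl⟩ := hn
      obtain ⟨f', hf', e⟩ := h (el v) hv
      show π u * π v * (π u)⁻¹ ∈ Rb
      rw [← map_inv, ← map_mul, ← map_mul, memRb, elmul, elmul, e, mul_assoc, elinv, mul_one]
      exact hf'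
  intro g₀ hg₀
  by_contra hg₀n
  have hnorm : ∀ q ∈ H, ∀ x ∈ Rb, q * x * q⁻¹ ∈ Rb := fun q hq x hx => (Subgroup.mem_normalizer_iff.1 hq x).1 hx
  have hns : ∀ {u}, π u ≠ 1 → NS (el u) := fun {u} h c hc => h ((QuotientGroup.eq_one_iff u).2 ⟨c, hc⟩)
  have hns' : ∀ {u}, NS (el u) → π u ≠ 1 := fun {u} h e => by
    obtain ⟨c, hc⟩ := (QuotientGroup.eq_one_iff u).1 e
    exact h c hc
  have invol : ∀ x ∈ Rb, x ≠ 1 → ∃ u, π u = x ∧ el u ∈ R ∧ el u * el u = 1 ∧ NS (el u) := by
    rintro _ ⟨u, hu, rfl⟩ hx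
    obtain ⟨c, hc, hcu, hcc⟩ := hS.pauli.exists_invol hu
    obtain ⟨v, hv⟩ := lift _ (hS.le hcu)
    have hn : NS (el v) := hv ▸ (hns hx).smul hc
    refine ⟨v, (QuotientGroup.eq.2 (show ∃ d : F, el (u⁻¹ * v) = d • 1 from ⟨c, ?_⟩)).symm, hv ▸ hcu, by rw [hv, hcc], hn⟩
    rw [elmul, hv, mul_smul_comm, elinv']
  have hrec : ∀ q, (∀ x ∈ Rb, q * x * q⁻¹ ∈ Rb) → q ∈ H := fun q h => Subgroup.mem_normalizer_fintype h
  obtain ⟨O, hOH, hodd, htr⟩ := exists_odd_transitive Rb H Subgroup.le_normalizer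
    (by
      rintro _ ⟨u, hu, rfl⟩
      rw [← map_mul]
      refine (QuotientGroup.eq_one_iff _).2 ?_
      obtain ⟨d, -, hdd⟩ := hS.pauli.sq _ hu
      exact ⟨d * d, hdd⟩)
    (fun e => by
      obtain ⟨a, ha, -, -, -, hna, -, -⟩ := hb
      obtain ⟨u, hu⟩ := lift a (hS.le ha)
      have h1 : π u ∈ Rb := (memRb u).2 (hu ▸ ha)
      rw [e, Subgroup.mem_bot] at h1
      exact hns' (hu ▸ hna) h1)
    (fun e => by
      obtain ⟨u, hu⟩ := lift g₀ hg₀
      exact hg₀n (hu ▸ (memH u).1 (e ▸ Subgroup.mem_top _)))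
    hnorm hrec
    (by
      intro x hx hx1 q hq
      obtain ⟨a, rfl, haR, haa, hna⟩ := invol x hx hx1
      obtain ⟨g, rfl⟩ := QuotientGroup.mk'_surjective Z q
      rw [← map_mul, ← map_mul] at hq
      obtain ⟨c, -, hc⟩ := mkeq _ _ hq.symm
      rw [elmul, elmul] at hc
      -- g a = c a g
      have e1 : el g * el a * el g⁻¹ = c • el a := by
        rw [hc, smul_mul_assoc, mul_assoc, elinv, mul_one]
      have e2 := congrArg (fun X => X * X) e1
      simp only [show el g * el a * el g⁻¹ * (el g * el a * el g⁻¹) = el g * (el a * ((el g⁻¹ * el g) * el a)) * el g⁻¹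
        by simp only [mul_assoc], elinv', one_mul, haa, mul_one, elinv, smul_mul_assoc, mul_smul_comm, smul_smul] at e2
      have e' : (c * c - 1) • (1 : Module.End F V) = 0 := by rw [sub_smul, ← e2, one_smul, sub_self]
      rw [memH]
      rcases mul_self_eq_one_iff.1 (sub_eq_zero.1 ((smul_eq_zero.1 e').resolve_right one_ne_zero)) with rfl | rfl
      · exact hC _ haR haa hna _ g.2 (by rw [hc, one_smul])
      · rw [neg_one_smul] at hc
        obtain ⟨b, hbR, -, hab⟩ := hS.pauli.exists_partner haR hna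
        have hgb : Norml R (el g * b) := hC _ haR haa hna _ (hS.mul _ g.2 _ (hS.le hbR))
          (anti_mul (anti_symm hc) hab)
        intro f hf
        obtain ⟨y, hy, ey⟩ := hgb f hf
        rcases hS.pauli.cac b hbR f hf with h | h
        · exact ⟨y, hy, hS.pauli.mul_right_cancel hbR (by rw [mul_assoc, ← h, ← mul_assoc, ey, mul_assoc])⟩
        · exact ⟨-y, hS.pauli.neg_mem hy, hS.pauli.mul_right_cancel hbR (by
            rw [mul_assoc, anti_symm h, _root_.mul_neg, ← mul_assoc, ey, _root_.neg_mul, _root_.neg_mul,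
              mul_assoc])⟩)
    (by
      intro x hx q hq
      rcases eq_or_ne x 1 with rfl | hx1
      · simp
      obtain ⟨a, rfl, haR, haa, hna⟩ := invol x hx hx1
      obtain ⟨g, rfl⟩ := QuotientGroup.mk'_surjective Z q
      rw [← map_inv, ← map_mul, ← map_mul, memH, elmul, elmul] at hq
      rw [← map_inv, ← map_mul, ← map_mul, memRb, elmul, elmul]
      exact hfus _ haR haa hna _ _ g.2 (elinv g) (elinv' g) hq)
  let ρ₀ : Γ →* Monoid.End (Module.End F V) :=
    { toFun := fun u =>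
        { toFun := fun X => el u * X * el u⁻¹
          map_one' := by rw [mul_one, elinv]
          map_mul' := fun X Y => by
            rw [show el u * X * el u⁻¹ * (el u * Y * el u⁻¹) = el u * (X * ((el u⁻¹ * el u) * Y)) * el u⁻¹
              by simp only [mul_assoc], elinv', one_mul] }
      map_one' := MonoidHom.ext fun X => by
        show el 1 * X * el (1 : Γ)⁻¹ = X
        simp [el]
      map_mul' := fun u v => MonoidHom.ext fun X => by
        show el (u * v) * X * el (u * v)⁻¹ = el u * (el v * X * el v⁻¹) * el u⁻¹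
        rw [_root_.mul_inv_rev, elmul, elmul]
        simp only [mul_assoc] }
  have hker : Z ≤ ρ₀.ker := fun z ⟨c, hc⟩ => MonoidHom.ext fun X => by
    show el z * X * el z⁻¹ = X
    rw [hc, smul_mul_assoc, one_mul, show c • X = X * el z by rw [hc, mul_smul_comm, mul_one], mul_assoc, elinv,
      mul_one]
  haveI : Fintype O := Fintype.ofFinite O
  refine hS.no_odd hb (O := O) (by rwa [← Nat.card_eq_fintype_card]) ((QuotientGroup.lift Z ρ₀ hker).comp O.subtype)
    ?_ ?_ ?_
  · rintro ⟨o, -⟩ c X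
    obtain ⟨u, rfl⟩ := QuotientGroup.mk'_surjective Z o
    show el u * (c • X) * el u⁻¹ = c • (el u * X * el u⁻¹)
    rw [mul_smul_comm, smul_mul_assoc]
  · rintro ⟨o, ho⟩ r hr
    obtain ⟨u, rfl⟩ := QuotientGroup.mk'_surjective Z o
    obtain ⟨r', hr', e⟩ := (memH u).1 (hOH ho) r hr
    show el u * r * el u⁻¹ ∈ R
    rw [e, mul_assoc, elinv, mul_one]; exact hr'
  · intro x hx _ hnx y hy _ hny
    obtain ⟨a, rfl⟩ := lift x (hS.le hx)
    obtain ⟨b, rfl⟩ := lift y (hS.le hy)
    obtain ⟨o, ho, e⟩ := htr _ ((memRb a).2 hx) (hns' hnx) _ ((memRb b).2 hy) (hns' hny)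
    obtain ⟨u, rfl⟩ := QuotientGroup.mk'_surjective Z o
    rw [← map_inv, ← map_mul, ← map_mul] at e
    obtain ⟨c, -, hc⟩ := mkeq _ _ e.symm
    exact ⟨⟨_, ho⟩, c, by show el u * el a * el u⁻¹ = c • el b; rw [← elmul, ← elmul]; exact hc⟩

/-- The slot of a system with four classes. -/
theorem Setup.allTv_of_pair (hS : Setup R S i) (htel : FullTel R S i) [Fintype F] {p : ℕ} [Fact p.Prime] (hF : Fintype.card F = p)
    (hp5 : 5 ≤ p) {a b : Module.End F V} (ha : a ∈ R) (haa : a * a = 1) (hns : NS a) (hb : b ∈ R)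
    (hbb : b * b = 1) (hab : a * b = -(b * a))
    (hcl : ∀ r ∈ R, ∃ c : F, r = c • 1 ∨ r = c • a ∨ r = c • b ∨ r = c • (a * b))
    {g : Module.End F V} (hg : g ∈ S) (hgn : ∀ r ∈ R, g * a ≠ r * g) : AllTv S := by
  have h : SlotPair a b 1 := ⟨hS.two, haa, hab, by rw [one_smul, hbb], one_ne_zero⟩
  have eZ := slotHom_z h
  have eX := slotHom_alpha h
  have eY : slotHom h !![0, 1; -1, 0] = a * b := by
    rw [show (!![0, 1; -1, 0] : Matrix (Fin 2) (Fin 2) F) = !![1, 0; 0, -1] * !![0, 1; 1, 0] by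
      ext r s; fin_cases r <;> fin_cases s <;> simp [Matrix.mul_apply, Fin.sum_univ_two], map_mul, eZ, eX]
  have hsurj : Function.Surjective (slotHom h) := by
    intro X
    have hX : X ∈ Submodule.span F R := hS.pauli.span ▸ Submodule.mem_top
    induction hX using Submodule.span_induction with
    | mem x hx =>
      obtain ⟨c, rfl | rfl | rfl | rfl⟩ := hcl x hx
      · exact ⟨c • 1, by rw [map_smul, map_one]⟩
      · exact ⟨c • !![1, 0; 0, -1], by rw [map_smul, eZ]⟩
      · exact ⟨c • !![0, 1; 1, 0], by rw [map_smul, eX]⟩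
      · exact ⟨c • !![0, 1; -1, 0], by rw [map_smul, eY]⟩
    | zero => exact ⟨0, map_zero _⟩
    | add x y _ _ hx hy =>
      obtain ⟨⟨M, rfl⟩, ⟨N, rfl⟩⟩ := And.intro hx hy
      exact ⟨M + N, map_add _ _ _⟩
    | smul c x _ hx =>
      obtain ⟨M, rfl⟩ := hx
      exact ⟨c • M, map_smul _ _ _⟩
  obtain ⟨g', -, hgg, hgg'⟩ := hS.inv g hg
  obtain ⟨N, hN⟩ := hsurj g
  obtain ⟨N', hN'⟩ := hsurj g'
  have inj := slotHom_injective h hns
  let n : GL (Fin 2) F := ⟨N, N', inj (by rw [map_mul, hN, hN', hgg, map_one]),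
    inj (by rw [map_mul, hN, hN', hgg', map_one])⟩
  refine hS.allTv_of_slot_surjective h hns hsurj (hS.slot_full htel hF hp5 ha haa hb hbb h (g := n)
    (show slotHom h N ∈ S from hN.symm ▸ hg) fun c P hP e => ?_)
  obtain ⟨q, hq, hqP⟩ : ∃ q ∈ R, slotHom h P = q := by
    simp only [Set.mem_insert_iff, Set.mem_singleton_iff] at hP
    rcases hP with rfl | rfl | rfl
    exacts [⟨a, ha, eZ⟩, ⟨b, hb, eX⟩, ⟨a * b, hS.pauli.mul a ha b hb, eY⟩]
  have e' := congrArg (slotHom h) (show N * !![1, 0; 0, -1] = c • (P * N) from e)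
  rw [map_mul, map_smul, map_mul, hN, eZ, hqP, ← smul_mul_assoc] at e'
  by_cases hc : c = 0
  · rw [hc, zero_smul, zero_mul] at e'
    have := congrArg (g' * ·) e'
    simp only [← mul_assoc, hgg', one_mul, mul_zero] at this
    exact hS.pauli.ne_zero ha this
  · exact hgn _ (hS.pauli.smul_mem hc hq) e'

/-- Without two independent commuting elements everything normalises or all transvections occur. -/
theorem Setup.small (hS : Setup R S i) (htel : FullTel R S i) [Fintype F] {p : ℕ} [Fact p.Prime] (hF : Fintype.card F = p)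
    (hp5 : 5 ≤ p) (hb : ¬ Big R) {a : Module.End F V} (ha : a ∈ R) (haa : a * a = 1) (hns : NS a)
    {g : Module.End F V} (hg : g ∈ S) (hgn : ¬ Norml R g) : AllTv S := by
  obtain ⟨b, hbR, hbb, hab⟩ := hS.pauli.exists_partner ha hns
  have hnb : NS b := fun k hk => by
    rw [hk, mul_smul_comm, smul_mul_assoc, mul_one, one_mul] at hab
    exact hS.pauli.ne_zero hbR (by
      rw [hk, (smul_eq_zero.1 (eq_zero_of_eq_neg hS.two hab)).resolve_right (hS.pauli.ne_zero ha), zero_smul])
  have hcomm : ∀ r ∈ R, a * r = r * a → ∃ c : F, r = c • 1 ∨ r = c • a := by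
    intro r hr har
    by_cases hnr : NS r
    · rcases hS.ns_of_ne ha hr with h | ⟨c, -, hc⟩
      · exact absurd ⟨a, ha, r, hr, har, hns, hnr, h⟩ hb
      · exact ⟨c, Or.inr hc⟩
    · simp only [NS, ne_eq, not_forall, not_not] at hnr
      obtain ⟨c, hc⟩ := hnr
      exact ⟨c, Or.inl hc⟩
  have hcl : ∀ r ∈ R, ∃ c : F, r = c • 1 ∨ r = c • a ∨ r = c • b ∨ r = c • (a * b) := by
    intro r hr
    rcases hS.pauli.cac a ha r hr with h | h
    · obtain ⟨c, e | e⟩ := hcomm r hr h
      exacts [⟨c, Or.inl e⟩, ⟨c, Or.inr (Or.inl e)⟩]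
    · obtain ⟨c, e | e⟩ := hcomm (r * b) (hS.pauli.mul r hr b hbR) (anti_mul h hab) <;>
        refine ⟨c, ?_⟩ <;> have e' := congrArg (· * b) e <;>
        simp only [mul_assoc, hbb, mul_one, smul_mul_assoc, one_mul] at e'
      exacts [Or.inr (Or.inr (Or.inl e')), Or.inr (Or.inr (Or.inr e'))]
  have hfail : (∀ r ∈ R, g * a ≠ r * g) ∨ ∀ r ∈ R, g * b ≠ r * g := by
    by_contra hc
    push Not at hc
    obtain ⟨⟨ra, hra, ea⟩, ⟨rb, hrb, eb⟩⟩ := hc
    refine hgn fun f hf => ?_
    obtain ⟨c, hc⟩ := hcl f hf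
    have hc0 : c ≠ 0 := fun h0 => hS.pauli.ne_zero hf (by
      rcases hc with e | e | e | e <;> rw [e, h0, zero_smul])
    rcases hc with rfl | rfl | rfl | rfl
    · exact ⟨_, hf, by rw [mul_smul_comm, smul_mul_assoc, mul_one, one_mul]⟩
    · exact ⟨c • ra, hS.pauli.smul_mem hc0 hra, by rw [mul_smul_comm, ea, smul_mul_assoc]⟩
    · exact ⟨c • rb, hS.pauli.smul_mem hc0 hrb, by rw [mul_smul_comm, eb, smul_mul_assoc]⟩
    · exact ⟨c • (ra * rb), hS.pauli.smul_mem hc0 (hS.pauli.mul _ hra _ hrb), by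
        rw [mul_smul_comm, ← mul_assoc, ea, mul_assoc ra, eb, ← mul_assoc, smul_mul_assoc]⟩
  rcases hfail with h | h
  · exact hS.allTv_of_pair htel hF hp5 ha haa hns hbR hbb hab hcl hg h
  · refine hS.allTv_of_pair htel hF hp5 hbR hbb hnb ha haa (anti_symm hab) (fun r hr => ?_) hg h
    obtain ⟨c, e | e | e | e⟩ := hcl r hr
    exacts [⟨c, Or.inl e⟩, ⟨c, Or.inr (Or.inr (Or.inl e))⟩, ⟨c, Or.inr (Or.inl e)⟩,
      ⟨-c, Or.inr (Or.inr (Or.inr (by rw [e, hab, smul_neg, neg_smul])))⟩]

omit [FiniteDimensional F V] [Nontrivial V] in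
theorem fxd_ne_top {a : Module.End F V} (hns : NS a) : fxd a ≠ ⊤ := fun e => hns 1 (LinearMap.ext fun x => by
  simpa using mem_fxd.1 (e ▸ Submodule.mem_top (x := x)))

/-- A group containing a system and its elements T(a) contains all transvections or normalises it. -/
theorem Setup.main {F : Type u} [Field F] [Fintype F] {p : ℕ} [Fact p.Prime] (hF : Fintype.card F = p)
    (hp5 : 5 ≤ p) (hp7 : p ≠ 7) {i : F} {V : Type v} [AddCommGroup V] [Module F V] [FiniteDimensional F V]
    [Nontrivial V] {R S : Set (Module.End F V)} (hS : Setup R S i) (htel : FullTel R S i) :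
    AllTv S ∨ ∀ g ∈ S, Norml R g := by
  suffices H : ∀ (n : ℕ) (V : Type v) [AddCommGroup V] [Module F V] [FiniteDimensional F V] [Nontrivial V]
      (R S : Set (Module.End F V)), Module.finrank F V = n → Setup R S i → FullTel R S i →
        AllTv S ∨ ∀ g ∈ S, Norml R g from
    H _ V R S rfl hS htel
  intro n
  induction n using Nat.strong_induction_on with
  | _ n ih =>
    intro V _ _ _ _ R S hn hS htel
    by_cases hall : ∃ a ∈ R, NS a
    swap
    · push Not at hall
      right
      intro g _ f hf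
      have := hall f hf
      simp only [NS, ne_eq, not_forall, not_not] at this
      obtain ⟨c, rfl⟩ := this
      exact ⟨_, hf, by rw [mul_smul_comm, smul_mul_assoc, mul_one, one_mul]⟩
    obtain ⟨a₀, ha₀, hn₀⟩ := hall
    obtain ⟨c, hc, hca, haa⟩ := hS.pauli.exists_invol ha₀
    by_cases hT : AllTv S
    · exact Or.inl hT
    right
    intro g hg
    by_contra hgn
    by_cases hb : Big R
    · suffices hC : ∀ a ∈ R, a * a = 1 → NS a → ∀ h ∈ S, a * h = h * a → Norml R h from
        hgn (hS.normalises hb hC (fun a ha haa _ g g' hgS h1 h2' hu => hS.fusion htel hb hC ha haa hgS h1 h2' hu) g hg)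
      intro a ha haa hns h hh hah
      refine (hS.centralizer_norml hF hp5 hp7 (fun a ha haa hns => ?_) ha haa hns (hS.big_comm hb ha) hh hah).resolve_left hT
      obtain ⟨v, hv⟩ := exists_fxd_ne haa hns
      haveI : Nontrivial (fxd a) := ⟨⟨v, 0, hv⟩⟩
      exact ih _ (hn ▸ Submodule.finrank_lt (fxd_ne_top hns)) (fxd a) _ _ rfl (hS.restrict ha haa hns ⟨v, hv⟩)
        (hS.restrict_tel ha haa hns ⟨v, hv⟩)
    · exact hT (hS.small htel hF hp5 hb hca haa (hn₀.smul hc) hg hgn)

end Cfsg.Agent.C6Two
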