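/-
The normaliser of a group of symplectic type 2^(2+2m) (centre of order 4) is maximal in SL_n(p).
Main results: `det_of_eig`, `sysSet`, `symplectic_type_maximal_of`, `symplectic_type_maximal`.
-/
import Cfsg.Agent.Lib.C6Two.Final
import Cfsg.Agent.Lib.PrimeDim.Algebra
import Cfsg.Agent.Lib.Symplectic.ExpFour
import Cfsg.Agent.Lib.Transvect.Basic

set_option autoImplicit false
set_option linter.unusedSectionVars false

namespace Cfsg.Agent.C6Two

open Cfsg.Agent
open scoped commutatorElement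

section

variable {F : Type*} [Field F] {V : Type*} [AddCommGroup V] [Module F V] [FiniteDimensional F V] [Nontrivial V]
variable {R : Set (Module.End F V)} {a b : Module.End F V}

/-- The two eigenspaces of an involution with an anticommuting involution. -/
noncomputable def eigEquiv (h2 : (2 : F) ≠ 0) (ha : a * a = 1) (hb : b * b = 1) (hab : a * b = -(b * a)) :
    (fxd a × fxd a) ≃ₗ[F] V where
  toFun u := (u.1 : V) + b u.2
  map_add' u w := by simp only [Prod.fst_add, Prod.snd_add, Submodule.coe_add, map_add]; abel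
  map_smul' c u := by simp only [Prod.smul_fst, Prod.smul_snd, SetLike.val_smul, map_smul, smul_add, RingHom.id_apply]
  invFun v := (⟨prj a v, prj_mem ha v⟩, ⟨prj a (b v), prj_mem ha _⟩)
  left_inv u := by
    have bb : ∀ x, b (b x) = x := fun x => LinearMap.congr_fun hb x
    have e1 : prj a (u.1 : V) = u.1 := prj_of_mem h2 u.1.2
    have e2 : ∀ w : fxd a, prj a (b w) = 0 := fun w => by
      have h := LinearMap.congr_fun hab (w : V)
      simp [mem_fxd.1 w.2] at h
      simp [prj, h]
    refine Prod.ext (Subtype.ext ?_) (Subtype.ext ?_)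
    · simp [map_add, e1, e2]
    · simp [map_add, bb, e2, prj_of_mem h2 u.2.2]
  right_inv v := by
    have bb : ∀ x, b (b x) = x := fun x => LinearMap.congr_fun hb x
    have h : b (a (b v)) = -a v := by
      have := LinearMap.congr_fun (anti_symm hab) (b v)
      simpa [bb] using this
    simp [prj, smul_add, bb, h]
    match_scalars <;> field_simp <;> norm_num

omit [Nontrivial V] in
theorem finrank_eq_two_mul (h2 : (2 : F) ≠ 0) (ha : a * a = 1) (hb : b * b = 1) (hab : a * b = -(b * a)) :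
    Module.finrank F V = 2 * Module.finrank F (fxd a) := by
  rw [← (eigEquiv h2 ha hb hab).finrank_eq, Module.finrank_prod, two_mul]

omit [Nontrivial V] in
theorem det_of_eig (h2 : (2 : F) ≠ 0) (ha : a * a = 1) (hb : b * b = 1) (hab : a * b = -(b * a)) (x y : F) :
    LinearMap.det (x • 1 + y • a : Module.End F V) =
      ((x + y) * (x - y)) ^ Module.finrank F (fxd a) := by
  set φ := eigEquiv h2 ha hb hab
  set f : (fxd a × fxd a) →ₗ[F] (fxd a × fxd a) :=
    LinearMap.prodMap ((x + y) • LinearMap.id) ((x - y) • LinearMap.id) with hf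
  have e : (x • 1 + y • a : Module.End F V) = φ.toLinearMap ∘ₗ f ∘ₗ φ.symm.toLinearMap := by
    refine LinearMap.ext fun v => ?_
    obtain ⟨u, rfl⟩ := φ.surjective v
    have h : a (b u.2) = -b u.2 := by
      have := LinearMap.congr_fun hab (u.2 : V)
      simpa [mem_fxd.1 u.2.2] using this
    simp only [LinearMap.comp_apply, LinearEquiv.coe_coe, LinearEquiv.symm_apply_apply]
    simp [hf, φ, eigEquiv, mem_fxd.1 u.1.2, h]
    module
  rw [e, LinearMap.det_conj, hf, LinearMap.det_prodMap, LinearMap.det_smul, LinearMap.det_smul, LinearMap.det_id,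
    mul_one, mul_one, mul_pow]

omit [FiniteDimensional F V] [Nontrivial V] in
theorem prj_unip (h2 : (2 : F) ≠ 0) (ha : a * a = 1) (hab : a * b = -(b * a)) :
    b * prj (-a) * (b * prj (-a)) = 0 := by
  have e : prj (-a) * b = b * prj a := by
    simp only [prj, smul_mul_assoc, mul_smul_comm, add_mul, mul_add, one_mul, mul_one, _root_.neg_mul, hab,
      neg_neg]
  have e' : prj a * prj (-a) = 0 := by
    simp only [prj, smul_mul_assoc, mul_smul_comm, add_mul, mul_add, one_mul, mul_one, _root_.mul_neg, ha]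
    match_scalars <;> field_simp <;> norm_num
  rw [mul_assoc, ← mul_assoc (prj (-a)), e, mul_assoc b (prj a), e', mul_zero, mul_zero]

/-- The elements of the system normalise it. -/
theorem Pauli.norml_self (P : Pauli R) {r : Module.End F V} (hr : r ∈ R) : Norml R r := fun f hf => by
  rcases P.cac r hr f hf with h | h
  · exact ⟨f, hf, h⟩
  · exact ⟨-f, P.neg_mem hf, by rw [h, _root_.neg_mul]⟩

/-- The elements T(a) normalise the system. -/
theorem Pauli.norml_tEl (P : Pauli R) {i : F} (hi : i * i = -1) (ha : a ∈ R) (haa : a * a = 1) :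
    Norml R (tEl i a) := fun f hf => by
  rcases P.cac a ha f hf with h | h
  · exact ⟨f, hf, tEl_commute h⟩
  · exact ⟨_, P.smul_mem (fun e => by simp [e] at hi) (P.mul a ha f hf), tEl_conj hi haa h⟩

theorem Norml.smul {g : Module.End F V} (h : Norml R g) (c : F) : Norml R (c • g) := fun f hf => by
  obtain ⟨f', hf', e⟩ := h f hf
  exact ⟨f', hf', by rw [smul_mul_assoc, e, mul_smul_comm]⟩

omit [Nontrivial V] in
theorem det_unip {p : ℕ} [Fintype F] [CharP F p] (hF : Fintype.card F = p) {N : Module.End F V} (hN : N * N = 0) :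
    LinearMap.det (1 + N) = 1 := by
  have e : ∀ k : ℕ, (1 + N) ^ k = 1 + (k : F) • N := fun k => by
    induction k with
    | zero => simp
    | succ k ih =>
      rw [pow_succ, ih]
      simp only [add_mul, mul_add, one_mul, mul_one, smul_mul_assoc, hN, smul_zero, add_zero]
      push_cast
      module
  have h := congrArg LinearMap.det (e p)
  rw [map_pow, CharP.cast_eq_zero F p, zero_smul, add_zero, map_one, ← hF, FiniteField.pow_card] at h
  exact h

end

section

variable {F : Type*} [Field F] {n : ℕ}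

local notation "E" => Module.End F (Fin n → F)

/-- The endomorphism of an invertible matrix. -/
def toE (g : GL (Fin n) F) : E := Matrix.toLinAlgEquiv' (g : Matrix (Fin n) (Fin n) F)

theorem toE_mul (g h : GL (Fin n) F) : toE (g * h) = toE g * toE h := map_mul Matrix.toLinAlgEquiv' _ _

theorem toE_one : toE (1 : GL (Fin n) F) = 1 := map_one Matrix.toLinAlgEquiv'

theorem toE_inv_mul (g : GL (Fin n) F) : toE g⁻¹ * toE g = 1 := by rw [← toE_mul, inv_mul_cancel, toE_one]

theorem toE_mul_inv (g : GL (Fin n) F) : toE g * toE g⁻¹ = 1 := by rw [← toE_mul, mul_inv_cancel, toE_one]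

theorem toE_injective : Function.Injective (toE : GL (Fin n) F → E) := fun _ _ h =>
  Units.ext (Matrix.toLinAlgEquiv'.injective h)

theorem det_toE (g : GL (Fin n) F) : LinearMap.det (toE g) = (g : Matrix (Fin n) (Fin n) F).det :=
  LinearMap.det_toLin' _

theorem exists_toE {X : E} (h : LinearMap.det X ≠ 0) : ∃ g : GL (Fin n) F, toE g = X := by
  set M := Matrix.toLinAlgEquiv'.symm X
  have e : Matrix.toLinAlgEquiv' M = X := AlgEquiv.apply_symm_apply _ _
  refine ⟨Matrix.GeneralLinearGroup.mkOfDetNeZero M ?_, e⟩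
  rw [← LinearMap.det_toLin', show Matrix.toLin' M = X from e]
  exact h

theorem toE_tv {v : Fin n → F} {φ : (Fin n → F) →ₗ[F] F} (h : φ v = 0) :
    toE (Transvect.tv v φ) = tvEl v φ := LinearMap.ext fun x => by
  rw [tvEl_apply, ← Transvect.tv_apply h x]; rfl

/-- The system of a group. -/
def sysSet (R : Subgroup (GL (Fin n) F)) : Set E := {X | ∃ r ∈ R, ∃ c : F, c ≠ 0 ∧ X = c • toE r}

theorem tv_pow {v : Fin n → F} {φ : (Fin n → F) →ₗ[F] F} (h : φ v = 0) (k : ℕ) :
    Transvect.tv v φ ^ k = Transvect.tv v (k • φ) := by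
  induction k with
  | zero => simp
  | succ k ih => rw [pow_succ, ih, succ_nsmul, Transvect.tv_add (by simp [h]) h]

variable [Fintype F] {p : ℕ} [Fact p.Prime]

/-- The normaliser of a group of symplectic type 2^(2+2m) is maximal, given the dichotomy for groups of
endomorphisms; all elements T(a) are at hand when a scalar corrects their determinant. -/
theorem symplectic_type_maximal_of (hF : Fintype.card F = p) (hp4 : p % 4 = 1) (hn : 4 ≤ n)
    {R : Subgroup (GL (Fin n) F)} (hR : Cfsg.Geo.IsLinearSymplecticTypeData 2 R)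
    (heven : ∀ d : ℕ, n = 2 * d → Even d)
    (hdich : ∀ (i : F) (R' S : Set E), Setup R' S i →
      ((∀ d : ℕ, n = 2 * d → ∃ c : F, c ^ n * 2 ^ d = 1) → FullTel R' S i) → AllTv S ∨ ∀ g ∈ S, Norml R' g) :
    Cfsg.Geo.IsMaximalIn (Cfsg.Geo.specialLinear (Fin n) F)
      (Cfsg.Geo.subgroupNormalizer R ⊓ Cfsg.Geo.specialLinear (Fin n) F) := by
  classical
  have hp := (Fact.out : p.Prime)
  have hp5 : 5 ≤ p := by have := hp.two_le; rcases Nat.lt_or_ge p 5 with h | h; · interval_cases p <;> omega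
                         · exact h
  haveI : CharP F p := by
    obtain ⟨q, hq⟩ := CharP.exists F
    obtain ⟨⟨k, hk⟩, hqp, hqk⟩ := FiniteField.card F q
    rw [hF] at hqk
    have hd : q ∣ p := hqk ▸ dvd_pow_self q (Nat.pos_iff_ne_zero.1 hk)
    exact ((Nat.prime_dvd_prime_iff_eq hqp hp).1 hd) ▸ hq
  have h2 : (2 : F) ≠ 0 := fun e => by
    have := Nat.le_of_dvd two_pos ((CharP.cast_eq_zero_iff F p 2).1 (by exact_mod_cast e))
    omega
  obtain ⟨i, hi⟩ : ∃ i : F, i * i = -1 := by
    obtain ⟨i, hi⟩ := (FiniteField.isSquare_neg_one_iff (F := F)).2 (by omega)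
    exact ⟨i, hi.symm⟩
  haveI : Nonempty (Fin n) := ⟨⟨0, by omega⟩⟩
  haveI : Nontrivial (Fin n → F) := Function.nontrivial
  haveI : Finite (GL (Fin n) F) := Finite.of_injective _ Units.val_injective
  have hspan := PrimeDim.span_eq_top hR.absIrred
  have hZ4 : Nat.card (Subgroup.center R) = 4 := by
    obtain ⟨q, e, -, -, ⟨h, -⟩ | ⟨-, -, h, -⟩ | ⟨-, -, h, -⟩⟩ := hR.field
    · exact absurd h (by decide)
    · exact h
    · simp at h; omega
  have hh4 : ∀ t : R, t ^ 4 = 1 := fun t => by
    have := Monoid.pow_exponent_eq_one t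
    rwa [hR.symplecticType.exponent_eq, show 2 * Nat.gcd 2 2 = 4 from rfl] at this
  -- the centre consists of the fourth roots of unity
  have hcs : ∀ t ∈ Subgroup.center R, ∃ c : F, toE (t : GL (Fin n) F) = c • 1 ∧ c ∈ ({1, -1, i, -i} : Finset F) := by
    intro t ht
    obtain ⟨c, hc⟩ := hR.absIrred.2 ((t : GL (Fin n) F) : Matrix (Fin n) (Fin n) F) (by
      rintro _ ⟨y, hy, rfl⟩
      exact congrArg (fun g : R => ((g : GL (Fin n) F) : Matrix (Fin n) (Fin n) F))
        (Subgroup.mem_center_iff.mp ht ⟨y, hy⟩).symm)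
    have e : toE (t : GL (Fin n) F) = c • 1 := by simp [toE, hc]
    refine ⟨c, e, ?_⟩
    have h1 : (c ^ 4 - 1) • (1 : E) = 0 := by
      have := congrArg (fun g : R => toE (g : GL (Fin n) F)) (hh4 t)
      simp only [pow_succ, pow_zero, one_mul, Subgroup.coe_mul, Subgroup.coe_one, toE_mul, toE_one, e,
        smul_mul_smul_comm, mul_one] at this
      have h : c ^ 4 • (1 : E) = 1 := by
        rw [pow_succ, pow_succ, pow_succ, pow_one]; exact this
      exact (sub_smul (c ^ 4) (1 : F) (1 : E)).trans (sub_eq_zero.2 (h.trans (one_smul F (1 : E)).symm))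
    have h3 : (c * c - 1) * (c * c + 1) = 0 := by
      linear_combination (smul_eq_zero.1 h1).resolve_right one_ne_zero
    simp only [Finset.mem_insert, Finset.mem_singleton]
    rcases mul_eq_zero.1 h3 with h | h
    · rcases mul_self_eq_one_iff.1 (sub_eq_zero.1 h) with h | h <;> simp [h]
    · rcases mul_self_eq_mul_self_iff.1 (show c * c = i * i by linear_combination h - hi) with h | h <;> simp [h]
  choose cf hcf hcfm using hcs
  have hroot : ∀ c ∈ ({1, -1, i, -i} : Finset F), ∃ t ∈ Subgroup.center R, toE (t : GL (Fin n) F) = c • 1 := by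
    let f : Subgroup.center R → ({1, -1, i, -i} : Finset F) := fun t => ⟨cf t.1 t.2, hcfm t.1 t.2⟩
    have hf : Function.Injective f := fun t t' e => Subtype.ext (Subtype.ext (toE_injective (by
      rw [hcf t.1 t.2, hcf t'.1 t'.2]; exact congrArg (fun x : ({1, -1, i, -i} : Finset F) => (x : F) • (1 : E)) e)))
    have hcard : Nat.card ({1, -1, i, -i} : Finset F) ≤ 4 := by
      rw [Nat.card_eq_fintype_card, Fintype.card_coe]
      exact Finset.card_le_four
    obtain ⟨hb, -⟩ : Function.Surjective f ∧ True := ⟨(Nat.bijective_iff_injective_and_card f |>.2 ⟨hf,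
      le_antisymm (Nat.card_le_card_of_injective f hf) (hZ4 ▸ hcard)⟩).2, trivial⟩
    intro c hc
    obtain ⟨t, ht⟩ := hb ⟨c, hc⟩
    exact ⟨t.1, t.2, by rw [hcf t.1 t.2]; exact congrArg (fun x : ({1, -1, i, -i} : Finset F) => (x : F) • (1 : E)) ht⟩
  obtain ⟨z, hzc, hz⟩ := hroot (-1) (by simp)
  have hmone : (-1 : E) = (-1 : F) • 1 := (neg_one_smul F _).symm
  have hne1 : (-1 : E) ≠ 1 := fun e => by
    have h1 : (2 : F) • (1 : E) = 0 := by linear_combination (norm := module) -e
    exact one_ne_zero ((smul_eq_zero.1 h1).resolve_left h2)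
  have hz1 : z ≠ 1 := fun e => hne1 (by rw [hmone, ← hz, e, Subgroup.coe_one, toE_one])
  have hz2 : z ^ 2 = 1 := Subtype.ext (toE_injective (by
    rw [SubmonoidClass.coe_pow, pow_two, toE_mul, hz, ← hmone, OneMemClass.coe_one, toE_one]
    exact (neg_mul_neg (1 : E) 1).trans (mul_one _)))
  obtain ⟨hsq, hcm⟩ := Symplectic.exists_relations (T := R)
    ⟨hR.symplecticType.pGroup, hR.symplecticType.cyclic_of_characteristic⟩ hh4 hzc hz2 hz1
  rw [← hmone] at hz
  have hsq' : ∀ r ∈ R, toE r * toE r = 1 ∨ toE r * toE r = -1 := fun r hr => by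
    rcases hsq ⟨r, hr⟩ with h | h
    · left; rw [← toE_mul, ← toE_one]; exact congrArg (fun g : R => toE (g : GL (Fin n) F)) h
    · right; rw [← toE_mul, ← hz]; exact congrArg (fun g : R => toE (g : GL (Fin n) F)) h
  set RE := sysSet R with hRE
  have hi0 : i ≠ 0 := fun e => by simp [e] at hi
  have P : Pauli RE := by
    refine ⟨fun c hc => ⟨1, one_mem _, c, hc, by rw [toE_one]⟩, ?_, ?_, ?_, ?_⟩
    · rintro _ ⟨r, hr, c, hc, rfl⟩ _ ⟨s, hs, d, hd, rfl⟩
      exact ⟨r * s, mul_mem hr hs, c * d, mul_ne_zero hc hd, by rw [smul_mul_smul_comm, toE_mul]⟩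
    · rintro _ ⟨r, hr, c, hc, rfl⟩
      rcases hsq' r hr with h | h
      · exact ⟨c, hc, by rw [smul_mul_smul_comm, h]⟩
      · refine ⟨c * i, mul_ne_zero hc hi0, ?_⟩
        rw [smul_mul_smul_comm, h, show c * i * (c * i) = -(c * c) by linear_combination (c * c) * hi]
        exact (smul_neg _ _).trans (neg_smul _ _).symm
    · rintro _ ⟨r, hr, c, hc, rfl⟩ _ ⟨s, hs, d, hd, rfl⟩
      have e : toE r * toE s = toE ((⁅(⟨r, hr⟩ : R), ⟨s, hs⟩⁆ : R) : GL (Fin n) F) * (toE s * toE r) := by
        rw [← toE_mul, ← toE_mul, ← toE_mul]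
        congr 1
        simp only [commutatorElement_def, Subgroup.coe_mul, Subgroup.coe_inv]
        group
      rcases hcm ⟨r, hr⟩ ⟨s, hs⟩ with h | h <;> rw [h] at e
      · left; rw [smul_mul_smul_comm, smul_mul_smul_comm, mul_comm d c, e, Subgroup.coe_one, toE_one, one_mul]
      · right
        rw [smul_mul_smul_comm, smul_mul_smul_comm, mul_comm d c, e, hz]
        exact (congrArg ((c * d) • ·) (neg_one_mul (toE s * toE r))).trans (smul_neg (c * d) (toE s * toE r))
    · refine eq_top_iff.2 fun X hX => ?_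
      clear hX
      obtain ⟨M, rfl⟩ := Matrix.toLinAlgEquiv'.surjective X
      have hM : M ∈ Submodule.span F (Cfsg.Geo.matrixSet R) := hspan ▸ Submodule.mem_top
      induction hM using Submodule.span_induction with
      | mem x hx =>
        obtain ⟨r, hr, rfl⟩ := hx
        exact Submodule.subset_span ⟨r, hr, 1, one_ne_zero, (one_smul F _).symm⟩
      | zero => rw [map_zero]; exact zero_mem _
      | add x y _ _ hx hy => rw [map_add]; exact add_mem hx hy
      | smul c x _ hx => rw [map_smul]; exact Submodule.smul_mem _ c hx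
  -- normalising the system is normalising the group
  have hnorm : ∀ x : GL (Fin n) F, Norml RE (toE x) → x ∈ Cfsg.Geo.subgroupNormalizer R := by
    intro x hx
    refine Subgroup.mem_normalizer_fintype fun r hr => ?_
    obtain ⟨_, ⟨s, hs, c, hc, rfl⟩, e⟩ := hx (toE r) ⟨r, hr, 1, one_ne_zero, (one_smul F _).symm⟩
    have e1 : toE (x * r * x⁻¹) = c • toE s := by
      rw [toE_mul, toE_mul, e, mul_assoc, toE_mul_inv, mul_one]
    have h1 : toE (x * r * x⁻¹) * toE (x * r * x⁻¹) = 1 ∨ toE (x * r * x⁻¹) * toE (x * r * x⁻¹) = -1 := by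
      rw [← toE_mul, show x * r * x⁻¹ * (x * r * x⁻¹) = x * (r * r) * x⁻¹ by group, toE_mul, toE_mul x, toE_mul r]
      rcases hsq' r hr with h | h <;> rw [h]
      · exact Or.inl (by rw [mul_one, toE_mul_inv])
      · exact Or.inr (((congrArg (· * toE x⁻¹) (mul_neg_one (toE x))).trans (neg_mul _ _)).trans
          (congrArg Neg.neg (toE_mul_inv x)))
    rw [e1, smul_mul_smul_comm] at h1
    have h3 : c * c = 1 ∨ c * c = -1 := by
      have key : ∀ u v : F, u • (1 : E) = v • 1 → u = v := fun u v h =>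
        smul_left_injective F (one_ne_zero (α := E)) h
      rcases hsq' s hs with h | h <;> rw [h] at h1 <;> rcases h1 with h' | h'
      · exact Or.inl (key _ _ (by rw [h', one_smul]))
      · exact Or.inr (key _ _ (h'.trans (neg_one_smul F (1 : E)).symm))
      · exact Or.inr (key _ _ ((neg_inj.1 ((smul_neg (c * c) (1 : E)).symm.trans (h'.trans (neg_neg _).symm))).trans (neg_one_smul F (1 : E)).symm))
      · exact Or.inl (key _ _ ((neg_inj.1 ((smul_neg (c * c) (1 : E)).symm.trans h')).trans (one_smul F (1 : E)).symm))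
    obtain ⟨t, -, ht⟩ := hroot c (by
      simp only [Finset.mem_insert, Finset.mem_singleton]
      rcases h3 with h | h
      · rcases mul_self_eq_one_iff.1 h with h | h <;> simp [h]
      · rcases mul_self_eq_mul_self_iff.1 (h.trans hi.symm) with h | h <;> simp [h])
    have : x * r * x⁻¹ = (t : GL (Fin n) F) * s := toE_injective (by
      rw [e1, toE_mul, ht, smul_mul_assoc, one_mul])
    show x * r * x⁻¹ ∈ R
    rw [this]; exact mul_mem t.2 hs
  have hnorm' : ∀ x ∈ Cfsg.Geo.subgroupNormalizer R, Norml RE (toE x) := by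
    rintro x hx _ ⟨r, hr, c, hc, rfl⟩
    exact ⟨c • toE (x * r * x⁻¹), ⟨_, (Subgroup.mem_normalizer_iff.1 hx r).1 hr, c, hc, rfl⟩, by
      rw [mul_smul_comm, smul_mul_assoc, toE_mul, toE_mul, mul_assoc, toE_inv_mul, mul_one]⟩
  have hsl : ∀ x : GL (Fin n) F, LinearMap.det (toE x) = 1 → x ∈ Cfsg.Geo.specialLinear (Fin n) F := fun x hx =>
    Transvect.mem_sl_iff.2 (det_toE x ▸ hx)
  obtain ⟨a, ha, haa, hna⟩ : ∃ a ∈ RE, a * a = 1 ∧ NS a := by
    by_contra hno
    push Not at hno
    have hall : ∀ f ∈ RE, ∃ c : F, f = c • 1 := fun f hf => by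
      obtain ⟨d, hd, hdf, hdd⟩ := P.exists_invol hf
      have := hno _ hdf hdd
      simp only [NS, ne_eq, not_forall, not_not] at this
      obtain ⟨c, hc⟩ := this
      exact ⟨d⁻¹ * c, by rw [mul_smul, ← hc, inv_smul_smul₀ hd]⟩
    obtain ⟨c, hc⟩ := P.central (M := Matrix.toLinAlgEquiv'
      (Matrix.single (⟨0, by omega⟩ : Fin n) (⟨0, by omega⟩ : Fin n) (1 : F))) fun f hf => by
        obtain ⟨c, rfl⟩ := hall f hf
        rw [mul_smul_comm, smul_mul_assoc, mul_one, one_mul]
    have h' := congrArg Matrix.toLinAlgEquiv'.symm hc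
    rw [AlgEquiv.symm_apply_apply, map_smul, map_one] at h'
    have h0 := congrFun (congrFun h' ⟨0, by omega⟩) ⟨0, by omega⟩
    have h1 := congrFun (congrFun h' ⟨1, by omega⟩) ⟨1, by omega⟩
    simp [Matrix.single] at h0 h1
    exact one_ne_zero (h0.trans h1.symm)
  obtain ⟨b, hb, hbb, hab⟩ := P.exists_partner ha hna
  have hfin : Module.finrank F (Fin n → F) = n := Module.finrank_fin_fun F
  have hn2 := hfin.symm.trans (finrank_eq_two_mul h2 haa hbb hab)
  have hdeven := heven _ hn2
  set d := Module.finrank F (fxd a)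
  have hd : ∀ u ∈ RE, ∀ huu : u * u = 1, NS u → Module.finrank F (fxd u) = d := fun u hu huu hnu => by
    obtain ⟨v, -, hvv, huv⟩ := P.exists_partner hu hnu
    have e1 := finrank_eq_two_mul h2 huu hvv huv
    have e2 := finrank_eq_two_mul h2 haa hbb hab
    omega
  set H := Cfsg.Geo.subgroupNormalizer R ⊓ Cfsg.Geo.specialLinear (Fin n) F with hH
  -- liftings into H
  have liftH : ∀ X : E, LinearMap.det X = 1 → Norml RE X → ∃ x ∈ H, toE x = X := fun X hX hXn => by
    obtain ⟨x, rfl⟩ := exists_toE (hX ▸ one_ne_zero)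
    exact ⟨x, ⟨hnorm x hXn, hsl x hX⟩, rfl⟩
  have hunip : ∃ x ∈ Cfsg.Geo.specialLinear (Fin n) F, x ∉ H := by
    have sp := prj_unip h2 haa hab
    obtain ⟨x, hx⟩ := exists_toE (X := (1 : E) + b * prj (-a)) (by rw [det_unip hF sp]; exact one_ne_zero)
    refine ⟨x, hsl x (by rw [hx, det_unip hF sp]), fun hxH => ?_⟩
    obtain ⟨y, hy, e⟩ := hnorm' x hxH.1 a ha
    rw [hx] at e
    exact unip_bad h2 haa hbb hab e (P.cac y hy a ha)
  refine ⟨lt_of_le_not_ge inf_le_right fun h => by obtain ⟨x, hx, hxH⟩ := hunip; exact hxH (h hx),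
    fun M hM hMK => ?_⟩
  let S : Set E := {X | ∃ g ∈ M, ∃ c : F, c ≠ 0 ∧ X = c • toE g}
  have hscal : ∀ c : F, c ≠ 0 → c • (1 : E) ∈ S := fun c hc => ⟨1, one_mem _, c, hc, by rw [toE_one]⟩
  have invS : ∀ u ∈ RE, u * u = 1 → NS u → ∀ c : F, c ≠ 0 → ∀ X : E, c • X ∈ S → X ∈ S := by
    rintro u - - - c hc X ⟨g, hg, k, hk, e⟩
    exact ⟨g, hg, c⁻¹ * k, mul_ne_zero (inv_ne_zero hc) hk, by rw [mul_smul, ← e, inv_smul_smul₀ hc]⟩
  have hdet : ∀ u ∈ RE, u * u = 1 → NS u →
      LinearMap.det u = 1 ∧ LinearMap.det (tEl i u) = (2 : F) ^ d := by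
    intro u hu huu hnu
    obtain ⟨v, -, hvv, huv⟩ := P.exists_partner hu hnu
    constructor
    · have := det_of_eig h2 huu hvv huv 0 1
      rw [zero_smul, zero_add, one_smul, hd u hu huu hnu] at this
      rw [this, zero_add, one_mul, zero_sub, hdeven.neg_one_pow]
    · have := det_of_eig h2 huu hvv huv 1 i
      rw [one_smul, hd u hu huu hnu] at this
      rw [tEl, this, show (1 + i) * (1 - i) = 2 by linear_combination -hi]
  have scaleS : ∀ (X : E) (c : F), c ≠ 0 → LinearMap.det (c • X) = 1 → Norml RE X → X ∈ S := by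
    intro X c hc hX hXn
    obtain ⟨x, hx, e⟩ := liftH _ hX (hXn.smul c)
    exact ⟨x, hM hx, c⁻¹, inv_ne_zero hc, by rw [e, inv_smul_smul₀ hc]⟩
  have hinvol : ∀ u ∈ RE, u * u = 1 → NS u → u ∈ S := fun u hu huu hnu =>
    scaleS u 1 one_ne_zero (by rw [one_smul]; exact (hdet u hu huu hnu).1) (P.norml_self hu)
  have hS : Setup RE S i := by
    refine ⟨P, fun r hr => ?_, ?_, ?_, fun u hu huu hnu v hv hvv hnv => ?_, hi, h2⟩
    · obtain ⟨k, hk, hkr, hkk⟩ := P.exists_invol hr
      by_cases hns : NS (k • r)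
      · exact invS _ hkr hkk hns k hk r (hinvol _ hkr hkk hns)
      · simp only [NS, ne_eq, not_forall, not_not] at hns
        obtain ⟨c, hc⟩ := hns
        have hc0 : c ≠ 0 := fun e => P.ne_zero hkr (by rw [hc, e, zero_smul])
        rw [← inv_smul_smul₀ hk r, hc, smul_smul]
        exact hscal _ (mul_ne_zero (inv_ne_zero hk) hc0)
    · rintro _ ⟨g, hg, c, hc, rfl⟩ _ ⟨g', hg', c', hc', rfl⟩
      exact ⟨g * g', mul_mem hg hg', c * c', mul_ne_zero hc hc', by rw [smul_mul_smul_comm, toE_mul]⟩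
    · rintro _ ⟨g, hg, c, hc, rfl⟩
      exact ⟨c⁻¹ • toE g⁻¹, ⟨g⁻¹, inv_mem hg, c⁻¹, inv_ne_zero hc, rfl⟩,
        by rw [smul_mul_smul_comm, mul_inv_cancel₀ hc, toE_mul_inv, one_smul],
        by rw [smul_mul_smul_comm, inv_mul_cancel₀ hc, toE_inv_mul, one_smul]⟩
    · refine scaleS _ (2 : F)⁻¹ (inv_ne_zero h2) ?_ fun f hf => ?_
      · rw [LinearMap.det_smul, map_mul, (hdet u hu huu hnu).2, (hdet v hv hvv hnv).2, hfin, inv_pow, ← pow_add,
          ← two_mul, ← hn2, inv_mul_cancel₀ (pow_ne_zero _ h2)]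
      · obtain ⟨f₁, hf₁, e₁⟩ := P.norml_tEl hi hv hvv f hf
        obtain ⟨f₂, hf₂, e₂⟩ := P.norml_tEl hi hu huu f₁ hf₁
        exact ⟨f₂, hf₂, by rw [mul_assoc, e₁, ← mul_assoc, e₂, mul_assoc]⟩
  have hfull : (∀ d : ℕ, n = 2 * d → ∃ c : F, c ^ n * 2 ^ d = 1) → FullTel RE S i := by
    intro hsc u hu huu
    by_cases hns : NS u
    · obtain ⟨c, hc⟩ := hsc _ hn2
      refine scaleS _ c (fun e => ?_) ?_ (P.norml_tEl hi hu huu)
      · rw [e, zero_pow (by omega), zero_mul] at hc; exact zero_ne_one hc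
      · rw [LinearMap.det_smul, (hdet u hu huu hns).2, hfin, hc]
    · simp only [NS, ne_eq, not_forall, not_not] at hns
      obtain ⟨c, rfl⟩ := hns
      rw [smul_mul_smul_comm, mul_one] at huu
      have hcc : c * c = 1 := smul_left_injective F (one_ne_zero (α := E)) (by simpa using huu)
      rw [show tEl i (c • (1 : E)) = (1 + i * c) • 1 by rw [tEl, smul_smul, add_smul, one_smul]]
      exact hscal _ fun e => h2 (by linear_combination (1 - i * c) * e + c * c * hi - hcc)
  rcases hdich i RE S hS hfull with hT | hN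
  · right
    refine le_antisymm hMK (Transvect.sl_le_of_tv M fun v φ hφ => ?_)
    have hneg : ∀ ψ : (Fin n → F) →ₗ[F] F, ψ v = 0 → Transvect.tv v (-ψ) ∈ M := by
      intro ψ hψ
      obtain ⟨g, hg, c, hc, e⟩ := hT v ψ hψ
      have e1 : toE (Transvect.tv v ψ) = c • toE g := by rw [toE_tv hψ]; exact e
      have e2 : ∀ k : ℕ, toE (Transvect.tv v ψ ^ k) = c ^ k • toE (g ^ k) := fun k => by
        induction k with
        | zero => simp
        | succ k ih => rw [pow_succ, pow_succ, pow_succ, toE_mul, toE_mul, ih, e1, smul_mul_smul_comm]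
      have e3 : Transvect.tv v ψ ^ (p - 1) = g ^ (p - 1) := toE_injective (by
        rw [e2, ← hF, FiniteField.pow_card_sub_one_eq_one c hc, one_smul])
      have hm : (p - 1) • ψ = -ψ := by
        rw [← Nat.cast_smul_eq_nsmul F, Nat.cast_sub hp.one_le, CharP.cast_eq_zero F p, Nat.cast_one, zero_sub,
          neg_one_smul]
      rw [← hm, ← tv_pow hψ, e3]
      exact pow_mem hg _
    simpa using hneg (-φ) (by simp [hφ])
  · left
    refine le_antisymm (fun g hg => ⟨hnorm g (hN _ ⟨g, hg, 1, one_ne_zero, (one_smul F _).symm⟩), hMK hg⟩) hM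

/-- The normaliser of a group of symplectic type 2^(2+2m) is maximal when the elements T(a) have scalar
multiples of determinant one. -/
theorem symplectic_type_maximal (hF : Fintype.card F = p) (hp4 : p % 4 = 1) (hn : 4 ≤ n)
    {R : Subgroup (GL (Fin n) F)} (hR : Cfsg.Geo.IsLinearSymplecticTypeData 2 R)
    (hscale : ∀ d : ℕ, n = 2 * d → Even d ∧ ∃ c : F, c ^ n * 2 ^ d = 1) :
    Cfsg.Geo.IsMaximalIn (Cfsg.Geo.specialLinear (Fin n) F)
      (Cfsg.Geo.subgroupNormalizer R ⊓ Cfsg.Geo.specialLinear (Fin n) F) := by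
  haveI : Nonempty (Fin n) := ⟨⟨0, by omega⟩⟩
  haveI : Nontrivial (Fin n → F) := Function.nontrivial
  have hp := (Fact.out : p.Prime)
  have hp5 : 5 ≤ p := by
    rcases Nat.lt_or_ge p 5 with h | h
    · have := hp.two_le; interval_cases p <;> omega
    · exact h
  exact symplectic_type_maximal_of hF hp4 hn hR (fun d hd => (hscale d hd).1) fun i R' S hS htel =>
    Setup.main hF hp5 (by omega) hS (htel fun d hd => (hscale d hd).2)

end

end Cfsg.Agent.C6Two
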