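/-
Dimension four: only the products T(a)T(b) are at hand and 2 may be a non-square.
Main results: `NoRoot`, `Setup.exists_comm_moved`, `Setup.fusion_four`, `Setup.main_four`, `symplectic_type_maximal_four`.
-/
import Cfsg.Agent.Lib.C6Two.Matrix

set_option autoImplicit false
set_option linter.unusedSectionVars false

namespace Cfsg.Agent.C6Two

open Cfsg.Agent

universe u v

variable {F : Type u} [Field F] {V : Type v} [AddCommGroup V] [Module F V] [FiniteDimensional F V] [Nontrivial V]
variable {R S : Set (Module.End F V)} {i : F}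

theorem Norml.comp {g h : Module.End F V} (hg : Norml R g) (hh : Norml R h) : Norml R (g * h) := fun f hf => by
  obtain ⟨f₁, hf₁, e₁⟩ := hh f hf
  obtain ⟨f₂, hf₂, e₂⟩ := hg f₁ hf₁
  exact ⟨f₂, hf₂, by rw [mul_assoc, e₁, ← mul_assoc, e₂, mul_assoc]⟩

theorem Norml.restrict {a : Module.End F V} (h2 : (2 : F) ≠ 0) (ha : a * a = 1) {g g' : Module.End F V}
    (hg : Norml R g) (hgg : g * g' = 1) (hag : a * g = g * a) (hag' : a * g' = g' * a) :
    Norml (resSet ha R) (res ha g) := by
  rintro _ ⟨f, ⟨hf, haf⟩, rfl⟩
  obtain ⟨f', hf', e⟩ := hg f hf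
  have e' : f' = g * f * g' := by rw [e, mul_assoc, hgg, mul_one]
  have haf' : a * f' = f' * a := e' ▸ comm_mul (comm_mul hag haf) hag'
  exact ⟨res ha f', ⟨f', ⟨hf', haf'⟩, rfl⟩, by rw [← res_mul h2 ha haf, e, res_mul h2 ha hag]⟩

/-- No product of u with q + uqu is a multiple of a system involution by a square root of two. -/
def NoRoot (R : Set (Module.End F V)) (u : Module.End F V) : Prop :=
  ∀ q ∈ R, q * q = 1 → ∀ r ∈ R, r * r = 1 → ∀ k : F, (q + u * q * u) * u = k • r → k * k ≠ 2

/-- A normalising involution outside the system moves some element to a commuting independent one. -/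
theorem Setup.exists_comm_moved (hS : Setup R S i) {u : Module.End F V} (hroot : NoRoot R u)
    (huu : u * u = 1) (hu : Norml R u) (hnR : u ∉ R) :
    ∃ q ∈ R, q * q = 1 ∧ q * (u * q * u) = u * q * u * q ∧ NS (q * (u * q * u)) := by
  by_contra hcon
  push Not at hcon
  have h2 := hS.two
  have P := hS.pauli
  have huX : ∀ X, u * (u * X) = X := fun X => by rw [← mul_assoc, huu, one_mul]
  have th : ∀ r ∈ R, u * r * u ∈ R := fun r hr => by
    obtain ⟨r', hr', e⟩ := hu r hr
    rw [e, mul_assoc, huu, mul_one]; exact hr'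
  have huinv : ∀ X Y, u * X * u = Y → u * X = Y * u := fun X Y e => by
    rw [← e, mul_assoc, huu, mul_one]
  have cscal : ∀ (c : F) (r : Module.End F V), u * (c • r) * u = c • (u * r * u) := fun c r => by
    rw [mul_smul_comm, smul_mul_assoc]
  -- commuting with the conjugate means being fixed up to a scalar
  have hfix : ∀ r ∈ R, r * (u * r * u) = u * r * u * r → ∃ k : F, u * r * u = k • r := by
    intro r hr hc
    obtain ⟨d, hd, hdr, hdd⟩ := P.exists_invol hr
    have := hcon _ hdr hdd (by rw [cscal d r, smul_mul_assoc, mul_smul_comm, hc, smul_mul_assoc, mul_smul_comm])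
    simp only [NS, ne_eq, not_forall, not_not] at this
    obtain ⟨k, hk⟩ := this
    refine ⟨k, ?_⟩
    have e : (d • r) * ((d • r) * (u * (d • r) * u)) = (d • r) * (k • (1 : Module.End F V)) := by rw [hk]
    rw [← mul_assoc, hdd, one_mul, cscal d r, mul_smul_comm k, mul_one, smul_comm k d r] at e
    exact smul_right_injective _ hd e
  have hu0 : u ≠ 0 := fun e => by rw [e, zero_mul] at huu; exact zero_ne_one huu
  obtain ⟨q₀, hq₀, hq₀n⟩ : ∃ q ∈ R, ¬ CAC u q := by
    by_contra hall
    push Not at hall
    obtain ⟨r, hr, hmatch⟩ := P.exists_match h2 hu0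
    obtain ⟨c, hc⟩ := P.central (M := u * r) fun f hf => hmatch f hf (hall f hf)
    obtain ⟨d, hd, hrr⟩ := P.sq r hr
    have e := congrArg (· * r) hc
    simp only [mul_assoc, hrr, mul_smul_comm, mul_one, smul_mul_assoc, one_mul] at e
    have hu' : u = ((d * d)⁻¹ * c) • r := by rw [mul_smul, ← e, inv_smul_smul₀ (mul_ne_zero hd hd)]
    exact hnR (hu' ▸ P.smul_mem (fun h0 => hu0 (by rw [hu', h0, zero_smul])) hr)
  obtain ⟨d₀, hd₀, hq, hqq⟩ := P.exists_invol hq₀
  set q := d₀ • q₀ with hqdef
  set t := u * q * u with ht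
  have htR := th q hq
  have htt : t * t = 1 := by
    simp only [ht, mul_assoc, huX]
    rw [← mul_assoc q, hqq, one_mul, huu]
  have hqt : q * t = -(t * q) := by
    refine (P.cac q hq t htR).resolve_left fun h => hq₀n ?_
    obtain ⟨k, hk⟩ := hfix q hq h
    have hk' : u * q₀ * u = k • q₀ := by
      refine smul_right_injective _ hd₀ ?_
      show d₀ • (u * q₀ * u) = d₀ • (k • q₀)
      rw [smul_comm, ← hk, hqdef, cscal d₀ q₀]
    have e2 : u * (u * q₀ * u) * u = q₀ := by simp only [mul_assoc, huu, mul_one, huX]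
    rw [hk', mul_smul_comm, smul_mul_assoc, hk', smul_smul] at e2
    have h5 : (k * k - 1) • q₀ = 0 := by rw [sub_smul, e2, one_smul, sub_self]
    rcases mul_self_eq_one_iff.1 (sub_eq_zero.1 ((smul_eq_zero.1 h5).resolve_right (P.ne_zero hq₀))) with rfl | rfl
    · left; rw [huinv _ _ hk', one_smul]
    · right; rw [huinv _ _ hk', neg_one_smul, _root_.neg_mul]
  set M := q + t with hM
  have hMu : u * M = M * u := by
    rw [hM, mul_add, add_mul, huinv q t rfl, huinv t q (by simp only [ht, mul_assoc, huu, mul_one, huX]), add_comm]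
  have hMM : M * M = (2 : F) • 1 := by
    rw [hM, add_mul, mul_add, mul_add, hqq, htt, hqt]; module
  set N := M * u with hN
  have hNN : N * N = (2 : F) • 1 := by
    rw [hN, mul_assoc, ← mul_assoc u, hMu, mul_assoc M u u, huu, mul_one, hMM]
  have hMt : M * t = q * M := by rw [hM, add_mul, mul_add, hqq, htt, add_comm]
  have hNq : N * q = q * N :=
    calc N * q = M * (u * q) := by rw [hN, mul_assoc]
      _ = M * (t * u) := by rw [huinv q t rfl]
      _ = q * M * u := by rw [← mul_assoc, hMt]
      _ = q * N := by rw [hN, mul_assoc]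
  have cacmul : ∀ {X x y : Module.End F V}, CAC X x → CAC X y → CAC X (x * y) := by
    rintro X x y (h | h) (h' | h')
    exacts [Or.inl (comm_mul h h'), Or.inr (comm_anti_mul h h'), Or.inr (anti_comm_mul h h'), Or.inl (anti_mul h h')]
  have hfixed : ∀ f ∈ R, (∃ k : F, u * f * u = k • f) → CAC N f := by
    rintro f hf ⟨k, hk⟩
    have huf := huinv _ _ hk
    have hk0 : k ≠ 0 := fun h0 => P.ne_zero hf (by
      have e : u * (u * f * u) * u = f := by simp only [mul_assoc, huu, mul_one, huX]
      rw [hk, h0, zero_smul, mul_zero, zero_mul] at e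
      exact e.symm)
    have e2 : u * (u * f * u) * u = f := by simp only [mul_assoc, huu, mul_one, huX]
    rw [hk, mul_smul_comm, smul_mul_assoc, hk, smul_smul] at e2
    have h5 : (k * k - 1) • f = 0 := by rw [sub_smul, e2, one_smul, sub_self]
    have hkk := sub_eq_zero.1 ((smul_eq_zero.1 h5).resolve_right (P.ne_zero hf))
    have key : ∀ X Y : Module.End F V, u * (X * Y) * u = (u * X * u) * (u * Y * u) := fun X Y => by
      simp only [mul_assoc, huX]
    rcases P.cac f hf q hq with h | h
    · have h' : f * t = t * f := by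
        have e := congrArg (fun Z => u * Z * u) h
        simp only [key, hk, ← ht, smul_mul_assoc, mul_smul_comm] at e
        exact smul_right_injective _ hk0 e
      have hMf : f * M = M * f := by rw [hM, mul_add, add_mul, h, h']
      rw [hN]
      rcases mul_self_eq_one_iff.1 hkk with rfl | rfl
      · exact Or.inl (by rw [mul_assoc, huf, one_smul, ← mul_assoc, ← hMf, mul_assoc])
      · exact Or.inr (by rw [mul_assoc, huf, neg_one_smul, _root_.neg_mul, _root_.mul_neg, ← mul_assoc, ← hMf, mul_assoc])
    · have h' : f * t = -(t * f) := by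
        have e := congrArg (fun Z => u * Z * u) h
        simp only [_root_.mul_neg, _root_.neg_mul, key, hk, ← ht, smul_mul_assoc, mul_smul_comm, ← smul_neg] at e
        exact smul_right_injective _ hk0 e
      have hMf : M * f = -(f * M) := by rw [hM, mul_add, add_mul, h, h', neg_add, neg_neg, neg_neg]
      rw [hN]
      rcases mul_self_eq_one_iff.1 hkk with rfl | rfl
      · exact Or.inr (by rw [mul_assoc, huf, one_smul, ← mul_assoc, hMf, _root_.neg_mul, mul_assoc])
      · exact Or.inl (by
          rw [mul_assoc, huf, neg_one_smul, _root_.neg_mul, _root_.mul_neg, ← mul_assoc, hMf, _root_.neg_mul, neg_neg,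
            mul_assoc])
  have hall : ∀ f ∈ R, CAC N f := by
    intro f hf
    set t' := u * f * u with ht'
    have htR' := th f hf
    rcases P.cac f hf t' htR' with h | h
    · exact hfixed f hf (hfix f hf h)
    have hg : q * f * (u * (q * f) * u) = u * (q * f) * u * (q * f) := by
      rw [show u * (q * f) * u = t * t' by simp only [ht, ht', mul_assoc, huX]]
      have conjf : ∀ X Y : Module.End F V, u * (X * Y) * u = (u * X * u) * (u * Y * u) := fun X Y => by
        simp only [mul_assoc, huX]
      have hut' : u * t' * u = f := by simp only [ht', mul_assoc, huu, mul_one, huX]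
      rcases P.cac q hq t' htR' with h1 | h1
      · have h3 : f * t = t * f := by
          have e : u * (q * t') * u = u * (t' * q) * u := by rw [h1]
          rw [conjf q t', conjf t' q, ← ht, hut'] at e
          exact e.symm
        calc q * f * (t * t') = q * (f * t) * t' := by simp only [mul_assoc]
          _ = q * t * (f * t') := by rw [h3]; simp only [mul_assoc]
          _ = t * (q * t') * f := by rw [hqt, h, neg_mul_neg]; simp only [mul_assoc]
          _ = t * t' * (q * f) := by rw [h1]; simp only [mul_assoc]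
      · have h3 : f * t = -(t * f) := by
          have e := congrArg (fun Z => u * Z * u) h1
          simp only [_root_.mul_neg, _root_.neg_mul] at e
          rw [conjf q t', conjf t' q, ← ht, hut'] at e
          rw [e, neg_neg]
        calc q * f * (t * t') = q * (f * t) * t' := by simp only [mul_assoc]
          _ = -(q * t * (f * t')) := by rw [h3]; simp only [_root_.mul_neg, _root_.neg_mul, mul_assoc]
          _ = -(t * (q * t') * f) := by rw [hqt, h, neg_mul_neg]; simp only [mul_assoc]
          _ = t * t' * (q * f) := by rw [h1]; simp only [_root_.mul_neg, _root_.neg_mul, neg_neg, mul_assoc]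
    have h7 := cacmul (X := N) (Or.inl hNq) (hfixed _ (P.mul q hq f hf) (hfix _ (P.mul q hq f hf) hg))
    rwa [← mul_assoc, hqq, one_mul] at h7
  have hN0 : N ≠ 0 := fun e => by
    rw [e, zero_mul] at hNN
    exact h2 ((smul_eq_zero.1 hNN.symm).resolve_right one_ne_zero)
  obtain ⟨r, hr, hmatch⟩ := P.exists_match h2 hN0
  obtain ⟨c, hc⟩ := P.central (M := N * r) fun f hf => hmatch f hf (hall f hf)
  obtain ⟨d, hd, hrr⟩ := P.sq r hr
  have e := congrArg (· * r) hc
  simp only [mul_assoc, hrr, mul_smul_comm, mul_one, smul_mul_assoc, one_mul] at e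
  have hN' : N = ((d * d)⁻¹ * c) • r := by rw [mul_smul, ← e, inv_smul_smul₀ (mul_ne_zero hd hd)]
  set k₀ := (d * d)⁻¹ * c with hk₀
  clear_value k₀
  rw [hN', smul_mul_smul_comm, hrr, smul_smul] at hNN
  have h5 : (k₀ * k₀ * (d * d) - 2) • (1 : Module.End F V) = 0 := by
    rw [sub_smul, hNN, sub_self]
  have hd' : d⁻¹ • r * (d⁻¹ • r) = 1 := by
    rw [smul_mul_smul_comm, hrr, smul_smul, show d⁻¹ * d⁻¹ * (d * d) = 1 by field_simp, one_smul]
  refine hroot q hq hqq _ (P.smul_mem (inv_ne_zero hd) hr) hd' (k₀ * d) ?_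
    (by linear_combination sub_eq_zero.1 ((smul_eq_zero.1 h5).resolve_right one_ne_zero))
  rw [smul_smul, mul_assoc k₀, mul_inv_cancel₀ hd, mul_one, ← hN', hN, hM, ht]

theorem Big.four_le (hS : Setup R S i) (hb : Big R) : 4 ≤ Module.finrank F V := by
  obtain ⟨a₀, ha₀, f, hf, haf, hna, hnf, hnaf⟩ := hb
  obtain ⟨c, hc, hca, haa⟩ := hS.pauli.exists_invol ha₀
  have h2 := hS.two
  set a := c • a₀ with ha
  have hns : NS a := hna.smul hc
  obtain ⟨b, -, hbb, hab⟩ := hS.pauli.exists_partner hca hns
  rw [finrank_eq_two_mul h2 haa hbb hab]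
  have haf' : a * f = f * a := by rw [ha, smul_mul_assoc, haf, mul_smul_comm]
  have hr := hS.res_ns hca haa hns hf haf' hnf (by rw [ha, smul_mul_assoc]; exact hnaf.smul hc)
  obtain ⟨v, hv⟩ := exists_fxd_ne haa hns
  haveI : Nontrivial (fxd a) := ⟨⟨v, 0, hv⟩⟩
  obtain ⟨e, he, her, hee⟩ := (hS.pauli.restrict h2 haa hca).exists_invol ⟨f, ⟨hf, haf'⟩, rfl⟩
  obtain ⟨w, -, hww, hew⟩ := (hS.pauli.restrict h2 haa hca).exists_partner her (hr.smul he)
  have := finrank_eq_two_mul h2 hee hww hew
  have : 0 < Module.finrank F (fxd a) := Module.finrank_pos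
  omega

theorem Setup.big_of_four (hS : Setup R S i) (hfin : Module.finrank F V = 4) : Big R := by
  have h2 := hS.two
  obtain ⟨a, ha, haa, hns⟩ : ∃ a ∈ R, a * a = 1 ∧ NS a := by
    by_contra hno
    push Not at hno
    have hle : Submodule.span F R ≤ Submodule.span F {(1 : Module.End F V)} := by
      rw [Submodule.span_le]
      intro f hf
      obtain ⟨d, hd, hdf, hdd⟩ := hS.pauli.exists_invol hf
      have := hno _ hdf hdd
      simp only [NS, ne_eq, not_forall, not_not] at this
      obtain ⟨c, hc⟩ := this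
      exact Submodule.mem_span_singleton.2 ⟨d⁻¹ * c, by rw [mul_smul, ← hc, inv_smul_smul₀ hd]⟩
    rw [hS.pauli.span] at hle
    have h3 := Submodule.finrank_mono hle
    rw [finrank_top, Module.finrank_linearMap, hfin, finrank_span_singleton (one_ne_zero)] at h3
    omega
  obtain ⟨b, -, hbb, hab⟩ := hS.pauli.exists_partner ha hns
  have hd : Module.finrank F (fxd a) = 2 := by have := finrank_eq_two_mul h2 haa hbb hab; omega
  by_contra hb
  have hle : Submodule.span F (resSet haa R) ≤ Submodule.span F {(1 : Module.End F (fxd a))} := by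
    rw [Submodule.span_le]
    rintro _ ⟨f, ⟨hf, haf⟩, rfl⟩
    by_cases hnf : NS f
    · rcases hS.ns_of_ne ha hf with h | ⟨k, -, hk⟩
      · exact absurd ⟨a, ha, f, hf, haf, hns, hnf, h⟩ hb
      · exact Submodule.mem_span_singleton.2 ⟨k, by rw [hk, map_smul, res_self h2 haa]⟩
    · simp only [NS, ne_eq, not_forall, not_not] at hnf
      obtain ⟨c, rfl⟩ := hnf
      exact Submodule.mem_span_singleton.2 ⟨c, by rw [map_smul, res_one h2 haa]⟩
  rw [(hS.pauli.restrict h2 haa ha).span] at hle
  have h3 := Submodule.finrank_mono hle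
  obtain ⟨v, hv⟩ := exists_fxd_ne haa hns
  haveI : Nontrivial (fxd a) := ⟨⟨v, 0, hv⟩⟩
  rw [finrank_top, Module.finrank_linearMap, hd, finrank_span_singleton (one_ne_zero)] at h3
  omega

/-- The normaliser is transitive on the involutions of the system. -/
theorem Setup.exists_conj (hS : Setup R S i) (hb : Big R) {x y : Module.End F V} (hx : x ∈ R) (hxx : x * x = 1)
    (hy : y ∈ R) (hyy : y * y = 1) (hny : NS y) (hnx : NS x) :
    ∃ h ∈ S, Norml R h ∧ h * x = y * h := by
  have P := hS.pauli
  have h2 := hS.two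
  have hi0 : i ≠ 0 := fun e => by simpa [e] using hS.sqrt
  have step : ∀ x ∈ R, ∀ y ∈ R, x * x = 1 → y * y = 1 → x * y = -(y * x) →
      ∃ h ∈ S, Norml R h ∧ h * x = y * h := by
    intro x hx y hy hxx hyy hxy
    set z := (-i) • (y * x) with hz
    have hzR : z ∈ R := P.smul_mem (neg_ne_zero.2 hi0) (P.mul y hy x hx)
    have hzz : z * z = 1 := by
      have e : y * x * (y * x) = -1 :=
        calc y * x * (y * x) = y * (x * y) * x := by simp only [mul_assoc]
          _ = -(y * y * (x * x)) := by rw [hxy]; simp only [_root_.mul_neg, _root_.neg_mul, mul_assoc]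
          _ = -1 := by rw [hxx, hyy, mul_one]
      rw [hz, smul_mul_smul_comm, e, show -i * -i = (-1 : F) by linear_combination hS.sqrt, neg_one_smul, neg_neg]
    have hzx : z * x = -(x * z) := by
      rw [hz, smul_mul_assoc, mul_smul_comm, mul_assoc, hxx, mul_one, ← mul_assoc, hxy, _root_.neg_mul, mul_assoc,
        hxx, mul_one, smul_neg, neg_neg]
    have hnz : NS z := P.ns_of_anti h2 hzR hx hzx
    obtain ⟨c, hc, hzc, hnc, hnzc⟩ := hS.big_comm hb hzR
    obtain ⟨c, hc, hcc, hzc, hxc, hnc⟩ : ∃ c ∈ R, c * c = 1 ∧ z * c = c * z ∧ x * c = c * x ∧ NS c := by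
      suffices h : ∃ c ∈ R, z * c = c * z ∧ x * c = c * x ∧ NS c by
        obtain ⟨c, hc, h1, h3, h4⟩ := h
        obtain ⟨d, hd, hdc, hdd⟩ := P.exists_invol hc
        exact ⟨d • c, hdc, hdd, by rw [mul_smul_comm, h1, smul_mul_assoc],
          by rw [mul_smul_comm, h3, smul_mul_assoc], h4.smul hd⟩
      rcases P.cac x hx c hc with h | h
      · exact ⟨c, hc, hzc, h, hnc⟩
      · exact ⟨c * z, P.mul _ hc _ hzR, comm_mul hzc rfl, anti_mul h (anti_symm hzx), hzc ▸ hnzc⟩
    refine ⟨tEl i z * tEl i c, hS.tel2 z hzR hzz hnz c hc hcc hnc,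
      (P.norml_tEl hS.sqrt hzR hzz).comp (P.norml_tEl hS.sqrt hc hcc), ?_⟩
    rw [mul_assoc, tEl_commute hxc.symm, ← mul_assoc, tEl_conj hS.sqrt hzz hzx, mul_assoc]
    congr 1
    rw [hz, smul_mul_assoc, smul_smul, mul_assoc, hxx, mul_one, show i * -i = (1 : F) by linear_combination -hS.sqrt,
      one_smul]
  rcases P.cac x hx y hy with h | h
  swap
  · exact step x hx y hy hxx hyy h
  obtain ⟨z, hz, hzz, hxz, hyz⟩ : ∃ z ∈ R, z * z = 1 ∧ x * z = -(z * x) ∧ y * z = -(z * y) := by
    suffices h' : ∃ z ∈ R, x * z = -(z * x) ∧ y * z = -(z * y) by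
      obtain ⟨z, hz, h1, h3⟩ := h'
      obtain ⟨d, hd, hdz, hdd⟩ := P.exists_invol hz
      exact ⟨d • z, hdz, hdd, by rw [mul_smul_comm, h1, smul_neg, smul_mul_assoc],
        by rw [mul_smul_comm, h3, smul_neg, smul_mul_assoc]⟩
    obtain ⟨b, hb', -, hxb⟩ := P.exists_partner hx hnx
    obtain ⟨c, hc, -, hyc⟩ := P.exists_partner hy hny
    rcases P.cac y hy b hb' with h1 | h1
    · rcases P.cac x hx c hc with h3 | h3
      · exact ⟨b * c, P.mul _ hb' _ hc, anti_comm_mul hxb h3, comm_anti_mul h1 hyc⟩
      · exact ⟨c, hc, h3, hyc⟩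
    · exact ⟨b, hb', hxb, h1⟩
  obtain ⟨h₁, hh₁, hn₁, e₁⟩ := step x hx z hz hxx hzz hxz
  obtain ⟨h₂, hh₂, hn₂, e₂⟩ := step z hz y hy hzz hyy (anti_symm hyz)
  exact ⟨h₂ * h₁, hS.mul _ hh₂ _ hh₁, hn₂.comp hn₁, by rw [mul_assoc, e₁, ← mul_assoc, e₂, mul_assoc]⟩

/-- Fusion is controlled in dimension four when 2 is no square. -/
theorem Setup.fusion_four (hS : Setup R S i) (hb : Big R) (hfin : Module.finrank F V = 4)
    (hroot : ∀ a ∈ R, a * a = 1 → ∀ g ∈ S, ∀ g', g * g' = 1 → g' * g = 1 → NoRoot R (g * a * g'))
    (hroot' : ∀ c ∈ R, ∀ hc : c * c = 1, NS c → ∀ a ∈ R, a * a = 1 → ∀ g ∈ S, ∀ g', g * g' = 1 → g' * g = 1 →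
      c * (g * a * g') = g * a * g' * c → NoRoot (resSet hc R) (res hc (g * a * g')))
    (hC : ∀ a ∈ R, a * a = 1 → NS a → ∀ g ∈ S, a * g = g * a → Norml R g)
    {a g g' : Module.End F V} (ha : a ∈ R) (haa : a * a = 1) (hna : NS a) (hg : g ∈ S) (hgg : g * g' = 1)
    (hgg' : g' * g = 1) (hu : Norml R (g * a * g')) : g * a * g' ∈ R := by
  by_contra hnR
  have h2 := hS.two
  have hi0 : i ≠ 0 := fun e => by simpa [e] using hS.sqrt
  have hg' := hS.inv_mem hg hgg
  set u := g * a * g' with hudef
  have cg : ∀ X Y, g' * X * g * (g' * Y * g) = g' * (X * Y) * g := fun X Y => by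
    rw [show g' * X * g * (g' * Y * g) = g' * (X * ((g * g') * Y)) * g by simp only [mul_assoc], hgg, one_mul]
  have huu : u * u = 1 := by
    rw [hudef, show g * a * g' * (g * a * g') = g * (a * ((g' * g) * a)) * g' by simp only [mul_assoc], hgg',
      one_mul, haa, mul_one, hgg]
  have huX : ∀ X, u * (u * X) = X := fun X => by rw [← mul_assoc, huu, one_mul]
  obtain ⟨q, hq, hqq, hqt, hnw⟩ := hS.exists_comm_moved (hroot a ha haa g hg g' hgg hgg') huu hu hnR
  set t := u * q * u with ht
  have htR : t ∈ R := by
    obtain ⟨r', hr', e⟩ := hu q hq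
    rw [ht, e, mul_assoc, huu, mul_one]; exact hr'
  have htt : t * t = 1 := by
    simp only [ht, mul_assoc, huX]
    rw [← mul_assoc q, hqq, one_mul, huu]
  have hutu : u * t * u = q := by simp only [ht, mul_assoc, huu, mul_one, huX]
  have huq : u * q = t * u := by rw [ht, mul_assoc (u * q), huu, mul_one]
  have hut : u * t = q * u := by rw [← hutu]; simp only [mul_assoc, huu, mul_one]
  have hnq : NS q := fun c hc => hnw 1 (by
    have e : t = c • 1 := by rw [ht, hc, mul_smul_comm, mul_one, smul_mul_assoc, huu]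
    rw [hc, e, smul_mul_smul_comm, mul_one]
    rw [hc, smul_mul_smul_comm, mul_one] at hqq
    have h5 : (c * c - 1) • (1 : Module.End F V) = 0 := by rw [sub_smul, hqq, one_smul, sub_self]
    rw [sub_eq_zero.1 ((smul_eq_zero.1 h5).resolve_right one_ne_zero), one_smul])
  have hnt : NS t := fun c hc => hnq c (by rw [← hutu, hc, mul_smul_comm, mul_one, smul_mul_assoc, huu])
  set w := q * t with hw
  have hwR : w ∈ R := hS.pauli.mul _ hq _ htR
  have hww : w * w = 1 := by
    rw [hw, mul_assoc, ← mul_assoc t q t, ← hqt, mul_assoc q t t, htt, mul_one, hqq]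
  have huw : u * w = w * u := by
    rw [hw, ← mul_assoc, huq, mul_assoc, hut, ← mul_assoc, ← hqt]
  set X := tEl i q * tEl i t with hX
  have hXS : X ∈ S := hS.tel2 q hq hqq hnq t htR htt hnt
  have hXX : X * X = (-4 : F) • w := by
    have hc : tEl i t * tEl i q = tEl i q * tEl i t := tEl_commute (tEl_commute hqt).symm
    rw [hX, mul_assoc, ← mul_assoc (tEl i t), hc, mul_assoc, ← mul_assoc (tEl i q) (tEl i q), tEl_sq hS.sqrt hqq,
      tEl_sq hS.sqrt htt, smul_mul_smul_comm, show 2 * i * (2 * i) = (-4 : F) by linear_combination (4 : F) * hS.sqrt]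
  have huX' : u * X = X * u := by
    have eT : ∀ {y y' : Module.End F V}, u * y = y' * u → u * tEl i y = tEl i y' * u := fun h => by
      simp only [tEl, mul_add, add_mul, mul_one, one_mul, mul_smul_comm, smul_mul_assoc, h]
    rw [hX, ← mul_assoc, eT huq, mul_assoc, eT hut, ← mul_assoc, tEl_commute (tEl_commute hqt).symm]
  set v := g' * w * g with hv
  set x := g' * X * g with hx
  have hag : ∀ {Y}, u * Y = Y * u → a * (g' * Y * g) = g' * Y * g * a := fun {Y} h => by
    have e : a * g' = g' * u := by
      rw [hudef, ← mul_assoc, ← mul_assoc, hgg', one_mul]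
    have e' : u * g = g * a := by rw [hudef, mul_assoc, hgg', mul_one]
    rw [← mul_assoc, ← mul_assoc, e, mul_assoc g' u Y, h, ← mul_assoc, mul_assoc (g' * Y) u g, e', ← mul_assoc]
  have hav := hag huw
  have hax := hag huX'
  have hvS : v ∈ S := hS.mul _ (hS.mul _ hg' _ (hS.le hwR)) _ hg
  have hxS : x ∈ S := hS.mul _ (hS.mul _ hg' _ hXS) _ hg
  have hvv : v * v = 1 := by rw [hv, cg, hww, mul_one, hgg']
  have hxx : x * x = (-4 : F) • v := by rw [hx, cg, hXX, mul_smul_comm, smul_mul_assoc]
  have hvn := hC a ha haa hna v hvS hav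
  obtain ⟨x', hx', hxx', hxx''⟩ := hS.inv x hxS
  have hax' : a * x' = x' * a := by
    calc a * x' = (x' * x) * (a * x') := by rw [hxx'', one_mul]
      _ = x' * ((x * a) * x') := by simp only [mul_assoc]
      _ = x' * ((a * x) * x') := by rw [hax]
      _ = x' * a * (x * x') := by simp only [mul_assoc]
      _ = x' * a := by rw [hxx', mul_one]
  have hxn := hC a ha haa hna x hxS hax
  have hnv : NS v := fun c hc => hnw c (by
    have e : w = g * v * g' := by
      rw [hv, show g * (g' * w * g) * g' = g * g' * w * (g * g') by simp only [mul_assoc], hgg, one_mul, mul_one]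
    rw [e, hc, mul_smul_comm, mul_one, smul_mul_assoc, hgg])
  by_cases hvR : v ∈ R
  · obtain ⟨h, hh, hhn, e⟩ := hS.exists_conj hb hvR hvv hwR hww hnw hnv
    obtain ⟨h', hh', hhh, hhh'⟩ := hS.inv h hh
    have e1 : g * v = w * g := by rw [hv, ← mul_assoc, ← mul_assoc, hgg, one_mul]
    have e2 : v * (h' * g) = h' * g * v := by
      rw [mul_assoc h' g v, e1, ← mul_assoc, ← mul_assoc]
      congr 1
      calc v * h' = h' * (h * v) * h' := by rw [← mul_assoc, hhh', one_mul]
        _ = h' * w := by rw [e, mul_assoc, mul_assoc, hhh, mul_one]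
    have hgn : Norml R g := by
      have := hhn.comp (hC v hvR hvv hnv _ (hS.mul _ hh' _ hg) e2)
      rwa [← mul_assoc, hhh, one_mul] at this
    obtain ⟨r, hr, e3⟩ := hgn a ha
    exact hnR (by rw [hudef, e3, mul_assoc, hgg, mul_one]; exact hr)
  have hna' := hS.neg_invol haa
  have haRn := hS.pauli.neg_mem ha
  obtain ⟨ep, hep⟩ := exists_fxd_ne haa hna
  obtain ⟨en, hen⟩ := exists_fxd_ne hna' hna.neg'
  haveI : Nontrivial (fxd a) := ⟨⟨ep, 0, hep⟩⟩
  haveI : Nontrivial (fxd (-a)) := ⟨⟨en, 0, hen⟩⟩
  have nav : ∀ {Y : Module.End F V}, a * Y = Y * a → -a * Y = Y * -a := fun h => by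
    rw [_root_.neg_mul, _root_.mul_neg, h]
  -- the parts on the eigenspaces lie in the restricted systems
  have mem : ∀ c : Module.End F V, c ∈ R → ∀ hc : c * c = 1, NS c → ∀ [Nontrivial (fxd c)],
      (∀ {Y}, a * Y = Y * a → c * Y = Y * c) → (∃ z : fxd c, z ≠ 0) → res hc v ∈ resSet hc R := by
    intro c hcR hc hnc _ hcom hne
    by_contra hn
    have hS' := hS.restrict hcR hc hnc hne
    have hvc := hcom hav
    have hr2 : res hc v * res hc v = 1 := by rw [← res_mul h2 hc hvc, hvv, res_one h2 hc]
    obtain ⟨q', hq', hqq', hc', hn'⟩ := hS'.exists_comm_moved (hroot' c hcR hc hnc w hwR hww g' hg' g hgg' hgg hvc)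
      hr2 (hvn.restrict h2 hc hvv hvc hvc) hn
    set u' := res hc v with hu'
    have htR' : u' * q' * u' ∈ resSet hc R := by
      obtain ⟨r', hr', e⟩ := hvn.restrict h2 hc hvv hvc hvc q' hq'
      rw [← hu'] at e
      rw [e, mul_assoc, hr2, mul_one]; exact hr'
    have hnq' : NS q' := fun k hk => hn' (k * k) (by
      rw [hk, smul_mul_assoc k (1 : Module.End F (fxd c)), one_mul, mul_smul_comm k u', mul_one,
        smul_mul_assoc k u' u', hr2, smul_smul])
    have hnt' : NS (u' * q' * u') := fun k hk => hnq' k (by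
      have e : u' * (u' * q' * u') * u' = q' := by
        rw [show u' * (u' * q' * u') * u' = (u' * u') * q' * (u' * u') by simp only [mul_assoc], hr2, one_mul, mul_one]
      rw [← e, hk, mul_smul_comm, mul_one, smul_mul_assoc, hr2])
    have h4 := Big.four_le hS' ⟨q', hq', _, htR', hc', hnq', hnt', hn'⟩
    obtain ⟨b, -, hbb, hcb⟩ := hS.pauli.exists_partner hcR hnc
    have := finrank_eq_two_mul h2 hc hbb hcb
    omega
  obtain ⟨r, ⟨hr, har⟩, er⟩ := mem a ha haa hna (fun h => h) ⟨ep, hep⟩
  obtain ⟨s, ⟨hs, has'⟩, es⟩ := mem (-a) haRn hna' hna.neg' (fun h => nav h) ⟨en, hen⟩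
  have has : a * s = s * a := by simpa using has'
  have hselfn : res hna' a = -1 := by
    have e := res_self h2 hna'
    rw [map_neg] at e
    exact neg_eq_iff_eq_neg.1 e
  have hselfp := res_self h2 haa
  have sgn : ∀ {c : Module.End F V} (hc : c * c = 1) [Nontrivial (fxd c)] {k : F} {f : Module.End F V},
      c * f = f * c → res hc f * res hc f = 1 → res hc f = k • 1 → k = 1 ∨ k = -1 := by
    intro c hc _ k f hcf h hk
    rw [hk, smul_mul_smul_comm, mul_one] at h
    have h5 : (k * k - 1) • (1 : Module.End F (fxd c)) = 0 :=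
      (sub_smul (k * k) 1 (1 : Module.End F (fxd c))).trans (sub_eq_zero.2 (h.trans (one_smul F _).symm))
    exact mul_self_eq_one_iff.1 (sub_eq_zero.1 ((smul_eq_zero.1 h5).resolve_right one_ne_zero))
  have vp : res haa v * res haa v = 1 := by rw [← res_mul h2 haa hav, hvv, res_one h2 haa]
  have vn : res hna' v * res hna' v = 1 := by rw [← res_mul h2 hna' (nav hav), hvv, res_one h2 hna']
  have trv : LinearMap.trace F V v = 0 := by
    obtain ⟨b, -, hbb, hwb⟩ := hS.pauli.exists_partner hwR hnw
    have h1 : LinearMap.trace F V v = LinearMap.trace F V w := by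
      rw [hv, mul_assoc, LinearMap.trace_mul_comm, mul_assoc, hgg, mul_one]
    have h3 := LinearMap.trace_mul_comm F b (w * b)
    rw [← mul_assoc b w b, anti_symm hwb, _root_.neg_mul, mul_assoc w b b, hbb, mul_one, map_neg] at h3
    rw [h1]; exact eq_zero_of_eq_neg h2 h3.symm
  have tr0 : ∀ y ∈ R, NS y → LinearMap.trace F V y = 0 := fun y hy hny => by
    obtain ⟨b, -, hbb, hyb⟩ := hS.pauli.exists_partner hy hny
    have h3 := LinearMap.trace_mul_comm F b (y * b)
    rw [← mul_assoc b y b, anti_symm hyb, _root_.neg_mul, mul_assoc y b b, hbb, mul_one, map_neg] at h3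
    exact eq_zero_of_eq_neg h2 h3.symm
  have h4 : (4 : F) ≠ 0 := by rw [show (4 : F) = 2 * 2 by norm_num]; exact mul_ne_zero h2 h2
  have tr1 : LinearMap.trace F V 1 = 4 := by
    rw [LinearMap.trace_one, hfin]; norm_num
  -- one part scalar, the other not: the trace is wrong
  have mixed : ∀ c n : Module.End F V, n = -c → c ∈ R → ∀ hc : c * c = 1, ∀ hnc' : n * n = 1, NS c →
      (c = a ∨ c = -a) → ∀ (k : F) (y : Module.End F V), k = 1 ∨ k = -1 → y ∈ R → c * y = y * c → NS y →
      NS (c * y) → res hc v = k • 1 → res hnc' v = res hnc' y → False := by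
    rintro c _ rfl hcR hc hnc' hnc hca k y hk hy hcy hny hncy e1 e2
    have hcv : c * v = v * c := by rcases hca with rfl | rfl; exacts [hav, nav hav]
    have hpc : ∀ {z : Module.End F V}, c * z = z * c → c * prj c = prj c * c ∧ c * prj (-c) = prj (-c) * c :=
      fun _ => by simp [prj, mul_add, add_mul]
    have e : v = k • prj c + prj (-c) * y := by
      refine eq_of_res_eq h2 hc hnc' hcv ?_ ?_ ?_
      · rw [mul_add, add_mul, mul_smul_comm, (hpc hcy).1, smul_mul_assoc, comm_mul (hpc hcy).2 hcy]
      · have p := res_prj_self h2 hc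
        rw [e1, map_add, map_smul, res_mul h2 hc hcy, p.1, p.2, zero_mul, add_zero]
      · have p := res_prj_self h2 hnc'
        simp only [neg_neg] at p
        rw [e2, map_add, map_smul, res_mul h2 hnc' (by rw [_root_.neg_mul, _root_.mul_neg, hcy]), p.1, p.2, smul_zero,
          zero_add, one_mul]
    have htr := trv
    rw [e] at htr
    simp only [prj, add_mul, smul_mul_assoc, one_mul, _root_.neg_mul, map_add, map_smul, map_neg, tr1, tr0 c hcR hnc,
      tr0 y hy hny, tr0 _ (hS.pauli.mul c hcR y hy) hncy, smul_eq_mul, mul_zero, add_zero, neg_zero] at htr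
    rcases hk with rfl | rfl
    · exact h4 (by rw [one_mul] at htr; exact (mul_eq_zero.1 htr).resolve_left (inv_ne_zero h2))
    · exact h4 (by rw [neg_one_mul, neg_eq_zero] at htr; exact (mul_eq_zero.1 htr).resolve_left (inv_ne_zero h2))
  have hrr : r * r = 1 := hS.res_sq_one haa hna hr har (er ▸ vp)
  have hss : s * s = 1 := hS.res_sq_one hna' hna.neg' hs has' (es ▸ vn)
  by_cases hnr : NS (res haa r)
  · by_cases hnsn : NS (res hna' s)
    · -- both parts are in the system: compare classes
      rcases hS.ns_of_ne ha (hS.pauli.mul r hr s hs) with hind | ⟨k, -, hk⟩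
      swap
      · -- s is a multiple of r a
        obtain ⟨d, hd, hdd⟩ := hS.pauli.sq r hr
        have e : s = ((d * d)⁻¹ * k) • (r * a) := by
          have e1 := congrArg (r * ·) hk
          simp only [← mul_assoc, hdd, smul_mul_assoc, one_mul, mul_smul_comm] at e1
          rw [mul_smul, ← e1, inv_smul_smul₀ (mul_ne_zero hd hd)]
        have hra2 : r * a * (r * a) = 1 := by
          rw [mul_assoc, ← mul_assoc a r a, har, mul_assoc r a a, haa, mul_one, hrr]
        rw [e, smul_mul_smul_comm, hra2] at hss
        have h5 : ((d * d)⁻¹ * k * ((d * d)⁻¹ * k) - 1) • (1 : Module.End F V) = 0 := by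
          rw [sub_smul, hss, one_smul, sub_self]
        refine hvR ?_
        rcases mul_self_eq_one_iff.1 (sub_eq_zero.1 ((smul_eq_zero.1 h5).resolve_right one_ne_zero)) with h | h
        · rw [h, one_smul] at e
          have : v = a * r := eq_of_res_eq h2 haa hna' hav (comm_mul rfl har)
            (by rw [res_mul h2 haa har, hselfp, one_mul, er])
            (by rw [← es, e, har])
          rw [this]; exact hS.pauli.mul a ha r hr
        · rw [h, neg_one_smul] at e
          have : v = r := eq_of_res_eq h2 haa hna' hav har er.symm (by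
            rw [← es, e, map_neg, res_mul h2 hna' (nav (rfl : a * a = a * a)), hselfn]
            exact (congrArg Neg.neg ((mul_neg (res hna' r) (1 : Module.End F (fxd (-a)))).trans
              (congrArg Neg.neg (mul_one _)))).trans (neg_neg _))
          rw [this]; exact hr
      -- the classes of r and s differ, and x fixes both
      have fixes : ∀ c : Module.End F V, ∀ hc : c * c = 1, NS c → [Nontrivial (fxd c)] → (c = a ∨ c = -a) →
          ∀ y ∈ R, c * y = y * c → res hc v = res hc y →
          ∀ c' : Module.End F V, ∀ hc' : c' * c' = 1, (c' = a ∨ c' = -a) → [Nontrivial (fxd c')] →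
            CAC (res hc' x) (res hc' y) := by
        intro c hc hnc _ hca y hy hcy ey c' hc' hca' _
        have hcR : c ∈ R := by rcases hca with rfl | rfl; exacts [ha, haRn]
        have com : ∀ {z : Module.End F V}, a * z = z * a → c * z = z * c := fun h => by
          rcases hca with rfl | rfl; exacts [h, nav h]
        have com' : ∀ {z : Module.End F V}, a * z = z * a → c' * z = z * c' := fun h => by
          rcases hca' with rfl | rfl; exacts [h, nav h]
        have hay : a * y = y * a := by
          rcases hca with rfl | rfl; exacts [hcy, by simpa using hcy]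
        obtain ⟨y', hy', e⟩ := hxn y hy
        have hy'e : y' = x * y * x' := by rw [e, mul_assoc, hxx', mul_one]
        have hay' : a * y' = y' * a := hy'e ▸ comm_mul (comm_mul hax hay) hax'
        have hexv : x * v = v * x := by
          have e1 : x * (x * x) = x * x * x := (mul_assoc x x x).symm
          rw [hxx, mul_smul_comm (-4 : F) x v, smul_mul_assoc (-4 : F) v x] at e1
          exact smul_right_injective _ (neg_ne_zero.2 h4) e1
        have e1 : res hc y' * res hc x = res hc y * res hc x := by
          rw [← res_mul h2 hc (com hax), ← e, res_mul h2 hc hcy, ← ey, ← res_mul h2 hc (com hav), hexv,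
            res_mul h2 hc (com hax)]
        have e2 : res hc y' = res hc y := by
          have := congrArg (· * res hc x') e1
          simp only [mul_assoc, ← res_mul h2 hc (com hax'), hxx', res_one h2 hc, mul_one] at this
          exact this
        -- so y' is y or a y up to sign
        obtain ⟨l, hl, hll⟩ := hS.pauli.sq y hy
        have hz : ¬ NS (res hc (y' * y)) := fun hn => hn (l * l) (by
          rw [res_mul h2 hc hcy, e2, ← res_mul h2 hc hcy, hll, map_smul, res_one h2 hc])
        have hz2 : ¬ NS (y' * y) ∨ ¬ NS (c * (y' * y)) := by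
          by_contra hh
          push Not at hh
          exact hz (hS.res_ns hcR hc hnc (hS.pauli.mul _ hy' _ hy) (comm_mul (com hay') hcy) hh.1 hh.2)
        obtain ⟨k, hk⟩ : ∃ k : F, y' = k • y ∨ y' = k • (c * y) := by
          rcases hz2 with h | h <;> simp only [NS, ne_eq, not_forall, not_not] at h <;> obtain ⟨k, hk⟩ := h
          · refine ⟨k / (l * l), Or.inl ?_⟩
            have e3 := congrArg (· * y) hk
            simp only [mul_assoc, hll, mul_smul_comm, mul_one, smul_mul_assoc, one_mul] at e3
            rw [div_eq_inv_mul, mul_smul, ← e3, inv_smul_smul₀ (mul_ne_zero hl hl)]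
          · refine ⟨k / (l * l), Or.inr ?_⟩
            have e3 := congrArg (fun Z => c * Z * y) hk
            simp only [← mul_assoc, hc, one_mul] at e3
            simp only [mul_assoc, hll, mul_smul_comm, mul_one, smul_mul_assoc] at e3
            rw [div_eq_inv_mul, mul_smul, ← e3, inv_smul_smul₀ (mul_ne_zero hl hl)]
        have hne : res hc y ≠ 0 := fun h0 => by
          rw [h0] at ey
          have := congrArg (fun Z => Z * Z) ey
          simp only [mul_zero] at this
          rw [← res_mul h2 hc (com hav), hvv, res_one h2 hc] at this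
          exact one_ne_zero this
        have hk1 : k = 1 := by
          have h6 : k • res hc y = res hc y := by
            conv_rhs => rw [← e2]
            rcases hk with rfl | rfl <;> simp [res_mul h2 hc hcy, res_self h2 hc]
          have h5 : (k - 1) • res hc y = 0 :=
            (sub_smul k 1 (res hc y)).trans (sub_eq_zero.2 (h6.trans (one_smul F (res hc y)).symm))
          exact sub_eq_zero.1 ((smul_eq_zero.1 h5).resolve_right hne)
        subst hk1
        have key : res hc' x * res hc' y = res hc' y' * res hc' x := by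
          rw [← res_mul h2 hc' (com' hay), e, res_mul h2 hc' (com' hax)]
        rcases hk with hk | hk
        · left; rw [key, hk, one_smul]
        · rw [hk, one_smul, res_mul h2 hc' (com' hay)] at key
          rcases hca with rfl | rfl <;> rcases hca' with rfl | rfl
          all_goals
            first
            | (left; rw [key, res_self h2 hc', one_mul]; done)
            | (right
               rw [key, show res hc' _ = -1 from by first | exact hselfn | (rw [map_neg, hselfp]; done)]
               exact ((congrArg (· * res hc' x) (neg_one_mul (res hc' y))).trans (neg_mul (res hc' y) (res hc' x))))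
      have c1 := fixes a haa hna (Or.inl rfl) r hr har er.symm a haa (Or.inl rfl)
      have c2 := fixes (-a) hna' hna.neg' (Or.inr rfl) s hs has' es.symm a haa (Or.inl rfl)
      set r' := res haa r with hr'
      set s' := res haa s with hs'
      have hS' := hS.restrict ha haa hna ⟨ep, hep⟩
      have hr'R : r' ∈ resSet haa R := ⟨r, ⟨hr, har⟩, rfl⟩
      have hs'R : s' ∈ resSet haa R := ⟨s, ⟨hs, has⟩, rfl⟩
      have hrs_ns : NS (r * s) := fun c hc => by
        have e : s = c • r := by
          have e1 := congrArg (r * ·) hc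
          simpa only [← mul_assoc, hrr, one_mul, mul_smul_comm, mul_one] using e1
        rw [e, smul_mul_smul_comm, hrr] at hss
        have h5 : (c * c - 1) • (1 : Module.End F V) = 0 := by rw [sub_smul, hss, one_smul, sub_self]
        rcases mul_self_eq_one_iff.1 (sub_eq_zero.1 ((smul_eq_zero.1 h5).resolve_right one_ne_zero)) with rfl | rfl
        · refine hvR ?_
          have : v = r := eq_of_res_eq h2 haa hna' hav har er.symm (by rw [← es, e, one_smul])
          rw [this]; exact hr
        · refine hvR ?_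
          rw [neg_one_smul] at e
          have : v = a * r := eq_of_res_eq h2 haa hna' hav (comm_mul rfl har)
            (by rw [res_mul h2 haa har, hselfp, one_mul]; exact er.symm)
            (by
              rw [← es, e, map_neg, res_mul h2 hna' (nav har), hselfn]
              exact (neg_one_mul (res hna' r)).symm)
          rw [this]; exact hS.pauli.mul a ha r hr
      have hrs' : NS (r' * s') := by
        rw [hr', hs', ← res_mul h2 haa has]
        exact hS.res_ns ha haa hna (hS.pauli.mul r hr s hs) (comm_mul har has) hrs_ns hind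
      have hanti : r' * s' = -(s' * r') := by
        refine (hS'.pauli.cac _ hr'R _ hs'R).resolve_left fun h => ?_
        have hns' : NS s' := by
          rw [hs']
          refine hS.res_ns ha haa hna hs has (fun c hc => hnsn c (by rw [hc, map_smul, res_one h2 hna'])) fun c hc => ?_
          refine hnsn (-c) ?_
          have := congrArg (res hna') hc
          rw [res_mul h2 hna' (nav has), hselfn, map_smul, res_one h2 hna'] at this
          rw [← neg_neg (res hna' s), ← neg_one_mul (res hna' s), this]
          exact (neg_smul c (1 : Module.End F (fxd (-a)))).symm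
        have := Big.four_le hS' ⟨r', hr'R, s', hs'R, h, hnr, hns', hrs'⟩
        obtain ⟨b, -, hbb, hab⟩ := hS.pauli.exists_partner ha hna
        have := finrank_eq_two_mul h2 haa hbb hab
        omega
      -- x commutes or anticommutes with the whole restricted system
      have cacmul : ∀ {X p q : Module.End F (fxd a)}, CAC X p → CAC X q → CAC X (p * q) := by
        rintro X p q (h | h) (h' | h')
        exacts [Or.inl (comm_mul h h'), Or.inr (comm_anti_mul h h'), Or.inr (anti_comm_mul h h'), Or.inl (anti_mul h h')]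
      have hcl : ∀ f ∈ resSet haa R, CAC (res haa x) f := by
        intro f hf
        have r2 : r' * r' = 1 := er ▸ vp
        have sc : ∀ z ∈ resSet haa R, r' * z = z * r' → ∃ k : F, z = k • 1 ∨ z = k • r' := by
          intro z hz hrz
          by_cases hnz : NS z
          · rcases hS'.ns_of_ne hr'R hz with h | ⟨k, -, hk⟩
            · have := Big.four_le hS' ⟨r', hr'R, z, hz, hrz, hnr, hnz, h⟩
              obtain ⟨b, -, hbb, hab⟩ := hS.pauli.exists_partner ha hna
              have := finrank_eq_two_mul h2 haa hbb hab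
              omega
            · exact ⟨k, Or.inr hk⟩
          · simp only [NS, ne_eq, not_forall, not_not] at hnz
            obtain ⟨k, hk⟩ := hnz
            exact ⟨k, Or.inl hk⟩
        have cs : ∀ (k : F) {p}, CAC (res haa x) p → CAC (res haa x) (k • p) := fun k {p} h => by
          rcases h with h | h
          · exact Or.inl (by rw [mul_smul_comm, h, smul_mul_assoc])
          · exact Or.inr (by rw [mul_smul_comm, h, smul_mul_assoc, smul_neg])
        have cone : CAC (res haa x) 1 := Or.inl (by rw [mul_one, one_mul])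
        rcases hS'.pauli.cac r' hr'R f hf with h | h
        · obtain ⟨k, rfl | rfl⟩ := sc f hf h
          exacts [cs k cone, cs k c1]
        · obtain ⟨l, hl, hll⟩ := hS'.pauli.sq s' hs'R
          obtain ⟨k, e | e⟩ := sc (f * s') (hS'.pauli.mul _ hf _ hs'R) (anti_mul h hanti) <;>
            have e' := congrArg (fun Z => (l * l)⁻¹ • (Z * s')) e <;>
            simp only [mul_assoc, hll, mul_smul_comm, mul_one, smul_mul_assoc, one_mul, smul_smul,
              inv_mul_cancel₀ (mul_ne_zero hl hl), one_smul] at e' <;> rw [e']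
          exacts [cs _ c2, cs _ (cacmul c1 c2)]
      have hx0 : res haa x ≠ 0 := fun e => by
        have := congrArg (res haa) hxx
        rw [res_mul h2 haa hax, e, mul_zero, map_smul] at this
        have h5 := (smul_eq_zero.1 this.symm).resolve_left (neg_ne_zero.2 h4)
        rw [h5, mul_zero] at vp
        exact zero_ne_one vp
      obtain ⟨m, hm, hmatch⟩ := hS'.pauli.exists_match h2 hx0
      obtain ⟨c, hc⟩ := hS'.pauli.central (M := res haa x * m) fun f hf => hmatch f hf (hcl f hf)
      obtain ⟨d, hd, hmm⟩ := hS'.pauli.sq m hm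
      have e := congrArg (· * m) hc
      simp only [mul_assoc, hmm, mul_smul_comm, mul_one, smul_mul_assoc, one_mul] at e
      have e' : res haa x = ((d * d)⁻¹ * c) • m := by rw [mul_smul, ← e, inv_smul_smul₀ (mul_ne_zero hd hd)]
      have e'' := congrArg (res haa) hxx
      rw [res_mul h2 haa hax, e', smul_mul_smul_comm, hmm, smul_smul, map_smul, ← er] at e''
      refine hnr ((-4 : F)⁻¹ * ((d * d)⁻¹ * c * ((d * d)⁻¹ * c) * (d * d))) ?_
      rw [mul_smul (-4 : F)⁻¹, e'', inv_smul_smul₀ (neg_ne_zero.2 h4)]
    · simp only [NS, ne_eq, not_forall, not_not] at hnsn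
      obtain ⟨k, hk⟩ := hnsn
      refine mixed (-a) a (neg_neg a).symm haRn hna' haa hna.neg' (Or.inr rfl) k r
        (sgn hna' (nav has) (es ▸ vn) hk) hr (nav har) (fun c hc => hnr c (by rw [hc, map_smul, res_one h2 haa]))
        (fun c hc => hnr (-c) ?_) (es ▸ hk) er.symm
      · have := congrArg (res haa) hc
        rw [res_mul h2 haa har, map_neg, hselfp, map_smul, res_one h2 haa] at this
        rw [← neg_neg (res haa r), ← neg_one_mul (res haa r), this]
        exact (neg_smul c (1 : Module.End F (fxd a))).symm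
  · simp only [NS, ne_eq, not_forall, not_not] at hnr
    obtain ⟨k, hk⟩ := hnr
    have hk' := sgn haa har (er ▸ vp) hk
    by_cases hnsn : NS (res hna' s)
    · exact mixed a (-a) rfl ha haa hna' hna (Or.inl rfl) k s hk' hs has
        (fun c hc => hnsn c (by rw [hc, map_smul, res_one h2 hna'])) (fun c hc => hnsn (-c) (by
          have := congrArg (res hna') hc
          rw [res_mul h2 hna' (nav has), hselfn, map_smul, res_one h2 hna'] at this
          rw [← neg_neg (res hna' s), ← neg_one_mul (res hna' s), this]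
          exact (neg_smul c (1 : Module.End F (fxd (-a)))).symm)) (er ▸ hk) es.symm
    · simp only [NS, ne_eq, not_forall, not_not] at hnsn
      obtain ⟨l, hl⟩ := hnsn
      have hl' := sgn hna' (nav has) (es ▸ vn) hl
      refine hvR ?_
      have key : ∀ e : Module.End F V, e ∈ R → a * e = e * a → res haa v = res haa e → res hna' v = res hna' e → v ∈ R :=
        fun e he hae h1 h3 => (congrArg (· ∈ R) (eq_of_res_eq h2 haa hna' hav hae h1 h3)).mpr he
      rcases hk' with rfl | rfl <;> rcases hl' with rfl | rfl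
      · exact key 1 hS.pauli.one_mem (by simp) (by rw [res_one h2 haa, ← er, hk, one_smul])
          (by rw [res_one h2 hna', ← es, hl, one_smul])
      · exact key a ha rfl (by rw [hselfp, ← er, hk, one_smul])
          (by rw [hselfn, ← es, hl]; exact neg_one_smul F (1 : Module.End F (fxd (-a))))
      · exact key (-a) haRn (by simp) (by rw [map_neg, hselfp, ← er, hk]; exact neg_one_smul F (1 : Module.End F (fxd a)))
          (by rw [res_self h2 hna', ← es, hl, one_smul])
      · exact key (-1) (hS.pauli.neg_mem hS.pauli.one_mem) (by simp)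
          (by rw [map_neg, res_one h2 haa, ← er, hk]; exact neg_one_smul F (1 : Module.End F (fxd a)))
          (by rw [map_neg, res_one h2 hna', ← es, hl]; exact neg_one_smul F (1 : Module.End F (fxd (-a))))

/-- The dichotomy in dimension four when 2 is no square. -/
theorem Setup.main_four [Fintype F] {p : ℕ} [Fact p.Prime] (hF : Fintype.card F = p) (hp5 : 5 ≤ p) (hp7 : p ≠ 7)
    (hsq : ¬ IsSquare (2 : F)) (hS : Setup R S i) (hfin : Module.finrank F V = 4) :
    AllTv S ∨ ∀ g ∈ S, Norml R g := by
  by_cases hT : AllTv S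
  · exact Or.inl hT
  right
  have hb := hS.big_of_four hfin
  have hC : ∀ a ∈ R, a * a = 1 → NS a → ∀ h ∈ S, a * h = h * a → Norml R h := by
    intro a ha haa hns h hh hah
    refine (hS.centralizer_norml hF hp5 hp7 (fun a ha haa hns => ?_) ha haa hns (hS.big_comm hb ha) hh
      hah).resolve_left hT
    obtain ⟨v, hv⟩ := exists_fxd_ne haa hns
    haveI : Nontrivial (fxd a) := ⟨⟨v, 0, hv⟩⟩
    exact Setup.main hF hp5 hp7 (hS.restrict ha haa hns ⟨v, hv⟩) (hS.restrict_tel ha haa hns ⟨v, hv⟩)
  exact hS.normalises hb hC fun a ha haa hna g g' hg h1 h2' hu =>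
    hS.fusion_four hb hfin
      (fun _ _ _ _ _ _ _ _ _ _ _ _ _ _ k _ h => hsq ⟨k, h.symm⟩)
      (fun _ _ _ _ _ _ _ _ _ _ _ _ _ _ _ _ _ _ _ k _ h => hsq ⟨k, h.symm⟩) hC ha haa hna hg h1 h2' hu

section

variable {K : Type*} [Field K] [Fintype K] {p : ℕ} [Fact p.Prime]

/-- The normaliser of a group of symplectic type 2^(2+4) is maximal in SL_4(p). -/
theorem symplectic_type_maximal_four (hF : Fintype.card K = p) (hp4 : p % 4 = 1)
    {R : Subgroup (GL (Fin 4) K)} (hR : Cfsg.Geo.IsLinearSymplecticTypeData 2 R) :
    Cfsg.Geo.IsMaximalIn (Cfsg.Geo.specialLinear (Fin 4) K)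
      (Cfsg.Geo.subgroupNormalizer R ⊓ Cfsg.Geo.specialLinear (Fin 4) K) := by
  have hp := (Fact.out : p.Prime)
  have hp5 : 5 ≤ p := by
    rcases Nat.lt_or_ge p 5 with h | h
    · have := hp.two_le; interval_cases p <;> omega
    · exact h
  have heven : ∀ d : ℕ, 4 = 2 * d → Even d := fun d hd => ⟨1, by omega⟩
  have h2 : (2 : K) ≠ 0 := Ring.two_ne_zero fun e => by
    have := FiniteField.even_card_iff_char_two.1 e
    omega
  refine symplectic_type_maximal_of hF hp4 (le_refl 4) hR heven fun i R' S hS htel => ?_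
  haveI : Nontrivial (Fin 4 → K) := Function.nontrivial
  by_cases hsq : IsSquare (2 : K)
  · obtain ⟨s, hs⟩ := hsq
    refine Setup.main hF hp5 (by omega) hS (htel fun d hd => ⟨s⁻¹, ?_⟩)
    obtain rfl : d = 2 := by omega
    rw [inv_pow, show (2 : K) ^ 2 = s ^ 4 by rw [hs]; ring]
    exact inv_mul_cancel₀ (pow_ne_zero _ fun e => h2 (by rw [hs, e, mul_zero]))
  · exact hS.main_four hF hp5 (by omega) hsq (Module.finrank_fin_fun K)

end

end Cfsg.Agent.C6Two
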